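import Mathlib
import Cfsg.Agent.Lib.S86.Witt
import Cfsg.Agent.Lib.Parr.Syl2

/-! The coded model `M = 2⁶ : Sp₆(2)` (project E64, plans/E64.md). -/

set_option autoImplicit false
set_option maxRecDepth 100000
set_option Elab.async false

namespace CfsgLib.Fi64

open Subgroup CfsgLib.W2
open CfsgLib.S86 (E64 SM e1 f1 e2 f2 e3 f3 bf sa tv oc sa_mul mul_sa one_sa sa_one bf_sa bf_mul bf_one bf_comm
  inv_sa_sa E_sq)
open CfsgLib.Parr (P0 V0 vc lin mp idM Act)

noncomputable section

/-- the affine map `v ↦ a * l v` -/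
@[ext] structure M where
  a : E64
  l : SM

instance : DecidableEq M := fun x y => decidable_of_iff (x.a = y.a ∧ x.l = y.l) ⟨fun h => M.ext h.1 h.2, fun h => h ▸ ⟨rfl, rfl⟩⟩
instance : Mul M := ⟨fun x y => ⟨x.a * sa x.l y.a, x.l * y.l⟩⟩
instance : One M := ⟨⟨1, 1⟩⟩
instance : Inv M := ⟨fun x => ⟨sa x.l⁻¹ x.a, x.l⁻¹⟩⟩

theorem mul_a (x y : M) : (x * y).a = x.a * sa x.l y.a := rfl
theorem mul_l (x y : M) : (x * y).l = x.l * y.l := rfl
theorem inv_a (x : M) : x⁻¹.a = sa x.l⁻¹ x.a := rfl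
theorem inv_l (x : M) : x⁻¹.l = x.l⁻¹ := rfl
theorem one_a : (1 : M).a = 1 := rfl
theorem one_l : (1 : M).l = 1 := rfl

instance : Group M := Group.ofLeftAxioms
  (fun x y z => M.ext (by simp only [mul_a, mul_l, sa_mul, mul_sa, mul_assoc]) (mul_assoc _ _ _))
  (fun x => M.ext (by rw [mul_a, one_a, one_l, one_sa, one_mul]) (one_mul _))
  (fun x => M.ext (E_sq _) (inv_mul_cancel _))

instance : Finite M := Finite.of_injective (fun x : M => (x.a, x.l)) fun _ _ h =>
  M.ext (congrArg Prod.fst h) (congrArg Prod.snd h)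

instance (x y : M) : Decidable (Commute x y) := inferInstanceAs (Decidable (x * y = y * x))

instance (priority := high) decBAllM (l : List M) (P : M → Prop) [DecidablePred P] : Decidable (∀ g ∈ l, P g) :=
  List.decidableBAll P l

instance (priority := high) decBExM (l : List M) (P : M → Prop) [DecidablePred P] : Decidable (∃ g ∈ l, P g) :=
  List.decidableBEx P l

/-- kernel friendly bounded quantifiers -/
instance (priority := high) decAllLt (n : ℕ) (P : ℕ → Prop) [DecidablePred P] : Decidable (∀ k < n, P k) :=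
  decidable_of_bool (allN (fun k => decide (P k)) n) (by simp only [allN_iff, decide_eq_true_eq])

instance (priority := high) decExLt (n : ℕ) (P : ℕ → Prop) [DecidablePred P] : Decidable (∃ k < n, P k) :=
  decidable_of_bool (anyN (fun k => decide (P k)) n) (by simp only [anyN_iff, decide_eq_true_eq])

/-- translation -/
def tr (v : E64) : M := ⟨v, 1⟩
/-- linear element -/
def sy (l : SM) : M := ⟨1, l⟩

theorem tr_mul (u v : E64) : tr (u * v) = tr u * tr v := M.ext (congrArg (u * ·) (one_sa v).symm) (one_mul _).symm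
theorem sy_mul (l m : SM) : sy (l * m) = sy l * sy m :=
  M.ext (by rw [mul_a]; exact ((one_mul _).trans (sa_one _)).symm) rfl
theorem tr_mul_sy (x : M) : tr x.a * sy x.l = x :=
  M.ext (by rw [mul_a]; exact (congrArg _ (sa_one _)).trans (mul_one _)) (one_mul _)
theorem conj_tr (x : M) (v : E64) : x * tr v * x⁻¹ = tr (sa x.l v) := by
  rw [mul_inv_eq_iff_eq_mul]
  exact M.ext (by simp only [mul_a, tr, one_sa]; exact S86.E_comm _ _) ((mul_one _).trans (one_mul _).symm)

/-- the linear part -/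
def lH : M →* SM := MonoidHom.mk' M.l fun _ _ => rfl

/-- a subgroup given by a property -/
def subOf (P : M → Prop) (h1 : P 1) (hm : ∀ a b, P a → P b → P (a * b)) : Subgroup M where
  carrier := {x | P x}
  one_mem' := h1
  mul_mem' := fun {a b} => hm a b
  inv_mem' := fun {a} ha => by
    have k : ∀ n, P (a ^ n) := fun n => by
      induction n with
      | zero => rwa [pow_zero]
      | succ n ih => rw [pow_succ]; exact hm _ _ ih ha
    have e : a⁻¹ = a ^ (orderOf a - 1) := by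
      rw [inv_eq_iff_mul_eq_one, ← pow_succ', Nat.sub_add_cancel (orderOf_pos a), pow_orderOf_eq_one]
    exact e ▸ k _

instance (P : M → Prop) [d : DecidablePred P] (h1 : P 1) (hm : ∀ a b, P a → P b → P (a * b)) (x : M) :
    Decidable (x ∈ subOf P h1 hm) := d x

/-- `v ∈ W = ⟨e1, e2, e3⟩` -/
def inW (v : E64) : Prop := bf v e1 = false ∧ bf v e2 = false ∧ bf v e3 = false
instance (v : E64) : Decidable (inW v) := inferInstanceAs (Decidable (_ ∧ _))
/-- `v ∈ ⟨e1, e2⟩` -/
def in2 (v : E64) : Prop := inW v ∧ bf v f3 = false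
instance (v : E64) : Decidable (in2 v) := inferInstanceAs (Decidable (_ ∧ _))

theorem inW_mul : ∀ u v, inW u → inW v → inW (u * v) := by decide +kernel

def z : M := tr e1
def d : M := sy (tv e1)
def a0 : M := tr f1
def h2 : M := sy (tv e2)
def h3 : M := sy (tv e3)
/-- `x ↦ x + ⟨x, e1⟩ e2 + ⟨x, e2⟩ e1` -/
def w12 : SM := oc 34630549889
def w13 : SM := oc 35704030337
def w23 : SM := oc 38929449089
/-- `e2 ↦ e1 e2` -/
def l12 : M := sy (oc 34630292097)
/-- `e3 ↦ e1 e3` -/
def l13 : M := sy (oc 34647066753)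
/-- `e3 ↦ e2 e3` -/
def l23 : M := sy (oc 34705784961)
/-- `e1 ↦ e2 ↦ e3 ↦ e1 e2` -/
def g7 : M := sy (oc 2239824516)
/-- `e1 ↦ e1`, `e2 ↦ e3 ↦ e2 e3` -/
def g3 : M := sy (oc 8936030337)
def x3 : M := sy (tv e3 * tv f3)
/-- the alternating element attached to a vector -/
def gA (v : E64) : SM := cond (bf v e1) w23 1 * cond (bf v e2) w13 1 * cond (bf v e3) w12 1

/-- the translations -/
abbrev Ab : Subgroup M := subOf (fun x => x.l = 1) rfl fun a b ha hb => by rw [mul_l, ha, hb, one_mul]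
abbrev Wm : Subgroup M := subOf (fun x => x.l = 1 ∧ inW x.a) (by decide +kernel) fun a b ha hb =>
  ⟨by rw [mul_l, ha.1, hb.1, one_mul], by rw [mul_a, ha.1, one_sa]; exact inW_mul _ _ ha.2 hb.2⟩
/-- `U = C(W)`, order `2¹²` -/
abbrev Um : Subgroup M := subOf (fun x => sa x.l e1 = e1 ∧ sa x.l e2 = e2 ∧ sa x.l e3 = e3) (by decide +kernel)
  fun a b ha hb => by simp only [mul_l, mul_sa, ha.1, ha.2.1, ha.2.2, hb.1, hb.2.1, hb.2.2, and_self]
/-- elementary abelian of order `2⁹` -/
abbrev Bm : Subgroup M := subOf (fun x => x ∈ Um ∧ inW x.a) (by decide +kernel) fun a b ha hb =>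
  ⟨mul_mem ha.1 hb.1, inW_mul _ _ ha.2 ⟨by rw [← ha.1.1, bf_sa, hb.2.1], by rw [← ha.1.2.1, bf_sa, hb.2.2.1],
    by rw [← ha.1.2.2, bf_sa, hb.2.2.2]⟩⟩
/-- the stabilizer of `W` -/
abbrev Pm : Subgroup M := subOf (fun x => ∀ v, inW v → inW (sa x.l v)) (by decide +kernel) fun a b ha hb v hv => by
  rw [mul_l, mul_sa]; exact ha _ (hb v hv)
/-- `C(z)` -/
abbrev Cz : Subgroup M := subOf (fun x => sa x.l e1 = e1) (by decide +kernel) fun a b ha hb => by
  rw [mul_l, mul_sa, hb, ha]
/-- a Sylow `2`-subgroup, order `2¹⁵` -/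
abbrev Tm : Subgroup M := subOf (fun x => x ∈ Cz ∧ (∀ v, in2 v → in2 (sa x.l v)) ∧ x ∈ Pm) (by decide +kernel)
  fun a b ha hb => ⟨mul_mem ha.1 hb.1, fun v hv => by rw [mul_l, mul_sa]; exact ha.2.1 _ (hb.2.1 v hv),
    mul_mem ha.2.2 hb.2.2⟩
/-- `2 × 2¹⁺⁸` -/
abbrev Qm : Subgroup M := subOf (fun x => bf x.a e1 = false ∧ x ∈ Cz ∧ ∀ v, bf v e1 = false → sa x.l v = v ∨ sa x.l v = v * e1)
  (by decide +kernel) fun a b ha hb => ⟨by
    have h : sa a.l e1 = e1 := ha.2.1
    rw [mul_a, bf_mul, ha.1, ← h, bf_sa, hb.1]; rfl, mul_mem ha.2.1 hb.2.1, fun v hv => by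
    have h : sa a.l e1 = e1 := ha.2.1
    rw [mul_l, mul_sa]
    rcases hb.2.2 v hv with e | e <;> rw [e]
    · exact ha.2.2 v hv
    · rw [sa_mul, h]
      rcases ha.2.2 v hv with e | e <;> rw [e]
      exacts [Or.inr rfl, Or.inl (by rw [mul_assoc, E_sq, mul_one])]⟩
abbrev Zm : Subgroup M := subOf (fun x => x ∈ [1, z, d, z * d]) (by decide +kernel) fun a b ha hb =>
  (by decide +kernel : ∀ a ∈ [1, z, d, z * d], ∀ b ∈ [1, z, d, z * d], a * b ∈ [1, z, d, z * d]) a ha b hb
/-- the second elementary abelian subgroup of order `64` -/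
abbrev A1 : Subgroup M := subOf (fun x => x.l = gA x.a) (by decide +kernel) fun a b ha hb => by
  rw [mul_l, mul_a, ha, hb]
  exact (by decide +kernel : ∀ u v : E64, gA u * gA v = gA (u * sa (gA u) v)) _ _

/-- the product of the `G i`, `i < k`, over the bits of `n` -/
def pe {H : Type*} [Group H] (G : ℕ → H) (k n : ℕ) : H :=
  Nat.rec 1 (fun i ih => cond (bit n i) (ih * G i) ih) k

theorem pe_zero {H : Type*} [Group H] (G : ℕ → H) (n : ℕ) : pe G 0 n = 1 := rfl
theorem pe_succ {H : Type*} [Group H] (G : ℕ → H) (k n : ℕ) :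
    pe G (k + 1) n = cond (bit n k) (pe G k n * G k) (pe G k n) := rfl

/-- induction for two products at the same time -/
theorem pe_ind {H K : Type*} [Group H] [Group K] {R : H → K → Prop} (h1 : R 1 1)
    (hm : ∀ a b c e, R a b → R c e → R (a * c) (b * e)) {G : ℕ → H} {G' : ℕ → K} (n : ℕ) :
    ∀ k, (∀ i < k, R (G i) (G' i)) → R (pe G k n) (pe G' k n)
  | 0, _ => h1
  | k + 1, h => by
    have ih := pe_ind h1 hm n k fun i hi => h i (by omega)
    rw [pe_succ, pe_succ]
    cases bit n k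
    exacts [ih, hm _ _ _ _ ih (h k (by omega))]

theorem pe_mem {H : Type*} [Group H] {S : Subgroup H} {G : ℕ → H} (n k : ℕ) (h : ∀ i < k, G i ∈ S) : pe G k n ∈ S :=
  pe_ind (R := fun a (_ : H) => a ∈ S) (G' := G) (one_mem _) (fun _ _ _ _ => mul_mem) n k h

/-- generators of `Tm`; the first `3, 9, 12` generate `Wm, Bm, Um` -/
def tg (i : ℕ) : M := [tr e1, tr e2, tr e3, d, h2, h3, sy w12, sy w13, sy w23, a0, tr f2, tr f3, l12, l13, l23].getD i 1
def te (n : ℕ) : M := pe tg 15 n
/-- generators of `Qm` -/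
def qg (i : ℕ) : M := [z, d, tr e2, tr f2, tr e3, tr f3, sy w12, l12, sy w13, l13].getD i 1
def qe (n : ℕ) : M := pe qg 10 n
/-- `qg i = te (qI i)` -/
def qI (i : ℕ) : ℕ := [1, 8, 2, 1024, 4, 2048, 64, 4096, 128, 8192].getD i 0

theorem tg_mem : ∀ i < 15, tg i ∈ Tm := by decide +kernel
theorem qg_mem : ∀ i < 10, qg i ∈ Qm := by decide +kernel
theorem qg_eq : ∀ i < 10, qg i = te (qI i) := by decide +kernel
theorem te_mem (n : ℕ) : te n ∈ Tm := pe_mem n 15 tg_mem
theorem qe_mem (n : ℕ) : qe n ∈ Qm := pe_mem n 10 qg_mem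

/-- coordinates on `Qm / Zm` -/
def crd (x : M) : ℕ := Nat.add (Nat.shiftRight x.a.v 2) (Nat.mul 16 (Nat.shiftRight (sa x.l f1).v 2))
def TAU : ℕ := 0xd0a00d0ab0500b05
/-- the map `Qm → V0` with kernel `Zm` -/
def τ (x : M) : V0 := lin TAU (vc (crd x))
/-- the number of an element of `Qm` -/
def qix (x : M) : ℕ := 4 * crd x + (x * (qe (4 * crd x))⁻¹).a.v % 2 + if (x * (qe (4 * crd x))⁻¹).l = 1 then 0 else 2

/-- the images of the `tg i` under the four candidates for the outer automorphism -/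
def bg (ε η i : ℕ) : M :=
  te ([1, 2, 4, 8 + ε, 16 + 2 * ε, 32 + 4 * ε, 64, 128, 256, 769, 1159, 2117, 4160 + 5 * η, 8384 + 3 * η, 16640 + η].getD i 0)
def bt (ε η n : ℕ) : M := pe (bg ε η) 15 n
def bq (ε η : ℕ) (x : M) : M := pe (fun i => bt ε η (qI i)) 10 (qix x)
/-- generators of `Cz` modulo `Qm` -/
def hg (i : ℕ) : M := [a0, h2, sy (tv f2), h3, sy (tv f3), sy (tv (e2 * e3))].getD i 1
/-- the matrices of the `hg i` and of the outer automorphism -/
def hc (i : ℕ) : ℕ := [0x3010c04003010c04, 0x8040201002010804, 0x804020100302040c, 0x2010804008040201, 0x302040c008040201,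
  0x2a158a45a251a854, 0x2f1a8f4a52f158f4].getD i idM
/-- the action of a word on `Qm` -/
def wa (ε η : ℕ) (w : List ℕ) (x : M) : M := w.foldr (fun i y => if i < 6 then hg i * y * (hg i)⁻¹ else bq ε η y) x
/-- the matrix of a word -/
def wc (w : List ℕ) : ℕ := w.foldr (fun i c => mp (hc i) c) idM
/-- representatives of the involutions modulo `Qm` -/
def yy (i : ℕ) : M := [1, a0, a0 * h2, h2, h2 * h3].getD i 1
/-- four totally singular subspaces; `RM 0` is the image of the translations -/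
def RM (i : ℕ) : ℕ := [0x482100000000482100000000000000000000482100000000000000004821,
  0x24810000000024810000000024810000000000000000000000002481,
  0x842100000000842100000000000000000000842100000000000000008421,
  0x8421000000000000000084210000000000000000842100000000000000008421].getD i 0
def inR (i : ℕ) (v : V0) : Prop := bit (RM i) v.n = true
instance (i : ℕ) (v : V0) : Decidable (inR i v) := inferInstanceAs (Decidable (_ = _))

/-- a complete invariant for the classes of involutions -/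
def iv (x : M) : ℕ × Bool × Bool :=
  (TG.cnt fun v : E64 => sa x.l v = v, decide (∀ v, bf v (sa x.l v) = false), decide (∃ v, x.a * sa x.l v = v))
/-- representatives `z, d, dx, c, cx, b, a, ax` -/
def rp (i : ℕ) : M := te ([1, 8, 10, 24, 28, 56, 64, 68].getD i 0)
/-- the class of `d` -/
def DT (x : M) : Prop := iv x = (32, false, true)
instance (x : M) : Decidable (DT x) := inferInstanceAs (Decidable (_ = _))

theorem iv_rp : ∀ i < 8, iv (rp i) = [(64, true, false), (32, false, true), (32, false, false), (16, false, true),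
    (16, false, false), (8, false, true), (16, true, true), (16, true, false)].getD i (0, true, true) := by decide +kernel

theorem rp_vals : rp 0 = z ∧ rp 1 = d ∧ rp 2 = tr e2 * d := by decide +kernel

/-- an automorphism of a subgroup -/
structure Aut (X : Subgroup M) (σ : M → M) : Prop where
  mem : ∀ x ∈ X, σ x ∈ X
  mul : ∀ x ∈ X, ∀ y ∈ X, σ (x * y) = σ x * σ y
  inj : ∀ x ∈ X, ∀ y ∈ X, σ x = σ y → x = y

namespace Aut
variable {X : Subgroup M} {σ : M → M} (h : Aut X σ)
include h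

/-- as a homomorphism -/
def hom : X →* M := MonoidHom.mk' (fun x => σ x) fun a b => h.mul _ a.2 _ b.2
theorem one : σ 1 = 1 := h.hom.map_one
theorem inv {x : M} (hx : x ∈ X) : σ x⁻¹ = (σ x)⁻¹ := h.hom.map_inv ⟨x, hx⟩
theorem pow {x : M} (hx : x ∈ X) (n : ℕ) : σ (x ^ n) = σ x ^ n := h.hom.map_pow ⟨x, hx⟩ n
theorem conj {g x : M} (hg : g ∈ X) (hx : x ∈ X) : σ (g * x * g⁻¹) = σ g * σ x * (σ g)⁻¹ := by
  rw [h.mul _ (mul_mem hg hx) _ (inv_mem hg), h.mul _ hg _ hx, h.inv hg]
theorem comm {x y : M} (hx : x ∈ X) (hy : y ∈ X) : Commute (σ x) (σ y) ↔ Commute x y := by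
  rw [Commute, SemiconjBy, ← h.mul _ hx _ hy, ← h.mul _ hy _ hx]
  exact ⟨h.inj _ (mul_mem hx hy) _ (mul_mem hy hx), congrArg σ⟩
theorem surj {y : M} (hy : y ∈ X) : ∃ x ∈ X, σ x = y := by
  obtain ⟨x, e⟩ := Finite.injective_iff_surjective.1 (show Function.Injective fun x : X => (⟨σ x, h.mem _ x.2⟩ : X) from
    fun a b e => Subtype.ext (h.inj _ a.2 _ b.2 (congrArg Subtype.val e))) ⟨y, hy⟩
  exact ⟨x, x.2, congrArg Subtype.val e⟩
end Aut

end

end CfsgLib.Fi64
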