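import Mathlib
import Cfsg.Agent.Lib.Fi64.Mo

/-! The group theoretic setting (project E64, plans/E64.md). -/

set_option autoImplicit false
set_option maxRecDepth 100000
set_option Elab.async false

namespace CfsgLib.Fi64

open Subgroup Cfsg CfsgLib.W2 CfsgLib.Tech
open CfsgLib.S86 (E64 SM e1 f1 e2 f2 e3 f3 bf sa tv)
open CfsgLib.Parr (P0 V0 vc lin mp idM Act Gam0 OK)

variable {G : Type*} [Group G]

abbrev Nm (X : Subgroup G) : Subgroup G := normalizer (X : Set G)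
abbrev Ce (X : Subgroup G) : Subgroup G := centralizer (X : Set G)

/-- `g` is a `2`-element -/
def Two (g : G) : Prop := ∃ k : ℕ, g ^ 2 ^ k = 1

theorem Two.conj {g : G} (h : Two g) (k : G) : Two (k * g * k⁻¹) := h.imp fun n e => by rw [conj_pow, e]; simp
theorem Two.of_mem {P : Subgroup G} (h : IsPGroup 2 P) {g : G} (hg : g ∈ P) : Two g := isPGroup_iff_mem.1 h g hg
theorem Two.of_sq {g : G} (h : g * g = 1) : Two g := ⟨1, by rwa [pow_one, pow_two]⟩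
theorem Two.pg {g : G} (h : Two g) : IsPGroup 2 (zpowers g) := h.elim fun _ => isPGroup_zpowers_of_pow

/-- the image of `X ⊓ Tm` -/
def J (j : M → G) (X : Subgroup M) : Subgroup G := closure (j '' (X ⊓ Tm : Subgroup M))

/-- `π : N(A) → M` is onto with kernel of odd order, `j` is a section on `Tm` and `A` is the image of the translations -/
structure Sit (A : Subgroup G) (π : G → M) (j : M → G) : Prop where
  hO : oddCore G = ⊥
  πm : ∀ n ∈ Nm A, ∀ n' ∈ Nm A, π (n * n') = π n * π n'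
  πs : ∀ m, ∃ n ∈ Nm A, π n = m
  πk : ∀ n ∈ Nm A, π n = 1 → Odd (orderOf n)
  jm : ∀ x ∈ Tm, ∀ y ∈ Tm, j (x * y) = j x * j y
  jN : ∀ x ∈ Tm, j x ∈ Nm A
  πj : ∀ x ∈ Tm, π (j x) = x
  hA : A = J j Ab

namespace Sit

variable {A : Subgroup G} {π : G → M} {j : M → G} (S : Sit A π j)
include S

noncomputable def πh : Nm A →* M := MonoidHom.mk' (fun n => π n) fun a b => S.πm _ a.2 _ b.2
noncomputable def jh : Tm →* G := MonoidHom.mk' (fun x => j x) fun a b => S.jm _ a.2 _ b.2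

theorem π_one : π 1 = 1 := S.πh.map_one
theorem π_inv {n : G} (h : n ∈ Nm A) : π n⁻¹ = (π n)⁻¹ := S.πh.map_inv ⟨n, h⟩
theorem π_pow {n : G} (h : n ∈ Nm A) (k : ℕ) : π (n ^ k) = π n ^ k := S.πh.map_pow ⟨n, h⟩ k
theorem π_conj {n g : G} (h : n ∈ Nm A) (hg : g ∈ Nm A) : π (n * g * n⁻¹) = π n * π g * (π n)⁻¹ := by
  rw [S.πm _ (mul_mem h hg) _ (inv_mem h), S.πm _ h _ hg, S.π_inv h]
theorem j_one : j 1 = 1 := S.jh.map_one
theorem j_inv {x : M} (h : x ∈ Tm) : j x⁻¹ = (j x)⁻¹ := S.jh.map_inv ⟨x, h⟩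
theorem j_pow {x : M} (h : x ∈ Tm) (k : ℕ) : j (x ^ k) = j x ^ k := S.jh.map_pow ⟨x, h⟩ k
theorem j_conj {x y : M} (h : x ∈ Tm) (hy : y ∈ Tm) : j (x * y * x⁻¹) = j x * j y * (j x)⁻¹ := by
  rw [S.jm _ (mul_mem h hy) _ (inv_mem h), S.jm _ h _ hy, S.j_inv h]
theorem j_inj {x y : M} (h : x ∈ Tm) (hy : y ∈ Tm) (e : j x = j y) : x = y := by rw [← S.πj x h, e, S.πj y hy]
theorem j_eq_one {x : M} (h : x ∈ Tm) : j x = 1 ↔ x = 1 :=
  ⟨fun e => S.j_inj h (one_mem _) (e.trans S.j_one.symm), fun e => e ▸ S.j_one⟩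
theorem j_comm {x y : M} (h : x ∈ Tm) (hy : y ∈ Tm) : Commute (j x) (j y) ↔ Commute x y := by
  rw [Commute, SemiconjBy, ← S.jm _ h _ hy, ← S.jm _ hy _ h]
  exact ⟨S.j_inj (mul_mem h hy) (mul_mem hy h), congrArg j⟩
theorem j_sq {x : M} (h : x ∈ Tm) : j x * j x = 1 ↔ x * x = 1 := by rw [← S.jm _ h _ h, S.j_eq_one (mul_mem h h)]

theorem J_eq (X : Subgroup M) : J j X = (X.subgroupOf Tm).map S.jh :=
  le_antisymm ((closure_le _).2 (by rintro _ ⟨x, hx, rfl⟩; exact ⟨⟨x, hx.2⟩, hx.1, rfl⟩))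
    (by rintro _ ⟨x, hx, rfl⟩; exact subset_closure ⟨x, ⟨hx, x.2⟩, rfl⟩)

theorem mem_J {X : Subgroup M} {g : G} : g ∈ J j X ↔ ∃ x ∈ X, x ∈ Tm ∧ j x = g := by
  rw [S.J_eq]
  exact ⟨fun ⟨x, hx, e⟩ => ⟨x, hx, x.2, e⟩, fun ⟨x, hx, h, e⟩ => ⟨⟨x, h⟩, hx, e⟩⟩

theorem j_mem {X : Subgroup M} {x : M} (h : x ∈ Tm) : j x ∈ J j X ↔ x ∈ X :=
  S.mem_J.trans ⟨fun ⟨_, hy, h', e⟩ => S.j_inj h' h e ▸ hy, fun hx => ⟨x, hx, h, rfl⟩⟩

theorem J_mono {X Y : Subgroup M} (h : X ≤ Y) : J j X ≤ J j Y := fun _ hg =>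
  let ⟨x, a, b⟩ := S.mem_J.1 hg; S.mem_J.2 ⟨x, h a, b⟩

theorem J_le_T (X : Subgroup M) : J j X ≤ J j Tm := fun _ hg =>
  let ⟨x, _, b⟩ := S.mem_J.1 hg; S.mem_J.2 ⟨x, b.1, b⟩

theorem J_le_N (X : Subgroup M) : J j X ≤ Nm A := fun _ hg =>
  let ⟨x, _, b, e⟩ := S.mem_J.1 hg; e ▸ S.jN x b

theorem card_J {X : Subgroup M} (h : X ≤ Tm) : Nat.card (J j X) = Nat.card X := by
  rw [S.J_eq, ← Nat.card_congr (equivMapOfInjective _ _ fun a b e => Subtype.ext (S.j_inj a.2 b.2 e)).toEquiv,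
    Nat.card_congr (subgroupOfEquivOfLe h).toEquiv]

/-- an element of `J j X` is determined by its image -/
theorem j_π {X : Subgroup M} {g : G} (h : g ∈ J j X) : π g ∈ X ∧ π g ∈ Tm ∧ j (π g) = g := by
  obtain ⟨x, a, b, rfl⟩ := S.mem_J.1 h
  rw [S.πj x b]
  exact ⟨a, b, rfl⟩

/-- conjugation inside `T` is computed in the model -/
theorem cj_eq {X : Subgroup M} {n : G} (hn : n ∈ Nm A) {x : M} (hx : x ∈ Tm) (h : n * j x * n⁻¹ ∈ J j X) :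
    π n * x * (π n)⁻¹ ∈ X ∧ π n * x * (π n)⁻¹ ∈ Tm ∧ n * j x * n⁻¹ = j (π n * x * (π n)⁻¹) := by
  have := S.j_π h
  rw [S.π_conj hn (S.jN x hx), S.πj x hx] at this
  exact ⟨this.1, this.2.1, this.2.2.symm⟩

/-- the automorphism induced by an element of the normalizer -/
theorem aut {X : Subgroup M} (hX : X ≤ Tm) {r : G} (hr : r ∈ Nm (J j X)) :
    Aut X (fun x => π (r * j x * r⁻¹)) ∧ ∀ x ∈ X, j (π (r * j x * r⁻¹)) = r * j x * r⁻¹ := by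
  have k := fun x (hx : x ∈ X) => S.j_π (conj_mem_of_mem_normalizer hr ((S.j_mem (hX hx)).2 hx))
  have n := fun x (hx : x ∈ X) => S.J_le_N X (conj_mem_of_mem_normalizer hr ((S.j_mem (hX hx)).2 hx))
  refine ⟨⟨fun x hx => (k x hx).1, fun x hx y hy => ?_, fun x hx y hy e => S.j_inj (hX hx) (hX hy) ?_⟩,
    fun x hx => (k x hx).2.2⟩
  · rw [S.jm _ (hX hx) _ (hX hy), ← S.πm _ (n x hx) _ (n y hy), conj_mul]
  · have := congrArg j e
    rw [(k x hx).2.2, (k y hy).2.2] at this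
    simpa using this

end Sit

/-- `b` induces one of the four candidates on `T` -/
def Bee (j : M → G) (ε η : ℕ) (b : G) : Prop := ∀ i < 15, b * j (tg i) * b⁻¹ = j (bg ε η i)

/-- the action of `H = N(Q)` on `Q / Z` -/
structure Rep (A : Subgroup G) (π : G → M) (j : M → G) (f : G → P0) : Prop extends Sit A π j where
  fm : ∀ h ∈ Nm (J j Qm), ∀ h' ∈ Nm (J j Qm), f (h * h') = f h * f h'
  act : ∀ h ∈ Nm (J j Qm), ∀ x ∈ Qm, ∀ y ∈ Qm, h * j x * h⁻¹ = j y → f h (τ x) = τ y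
  ok : ∀ h ∈ Nm (J j Qm), f h ∈ OK 0

namespace Rep

variable {A : Subgroup G} {π : G → M} {j : M → G} {f : G → P0} (R : Rep A π j f)
include R

def fh : Nm (J j Qm) →* P0 := MonoidHom.mk' (fun n => f n) fun a b => R.fm _ a.2 _ b.2
theorem f_one : f 1 = 1 := R.fh.map_one
theorem f_inv {h : G} (a : h ∈ Nm (J j Qm)) : f h⁻¹ = (f h)⁻¹ := R.fh.map_inv ⟨h, a⟩
theorem f_pow {h : G} (a : h ∈ Nm (J j Qm)) (k : ℕ) : f (h ^ k) = f h ^ k := R.fh.map_pow ⟨h, a⟩ k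
theorem f_conj {h g : G} (a : h ∈ Nm (J j Qm)) (b : g ∈ Nm (J j Qm)) : f (h * g * h⁻¹) = f h * f g * (f h)⁻¹ := by
  rw [R.fm _ (mul_mem a b) _ (inv_mem a), R.fm _ a _ b, R.f_inv a]

end Rep

/-- the situation after the identification of `H / Q C(Q)`; `P` is a Sylow subgroup of `H` -/
structure Eg (A : Subgroup G) (π : G → M) (j : M → G) (f : G → P0) (b : G) (P : Subgroup G) : Prop extends Rep A π j f where
  bee : Bee j 0 1 b
  gam : ∀ h ∈ Nm (J j Qm), f h ∈ Gam0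
  gen : ∀ K : Subgroup G, Nm A ⊓ Nm (J j Qm) ≤ K → b ∈ K → ∀ γ ∈ Gam0, ∃ h ∈ K, h ∈ Nm (J j Qm) ∧ f h = γ
  syl : IsSylowIn 2 P (Nm (J j Qm))
  TP : J j Tm ≤ P

/-- the conjugates of `d` -/
def DD (j : M → G) (k : G) : Prop := ∃ g, g * j d * g⁻¹ = k

theorem DD.conj {j : M → G} {k : G} (h : DD j k) (g : G) : DD j (g * k * g⁻¹) :=
  let ⟨u, e⟩ := h; ⟨g * u, by rw [← e]; group⟩

end CfsgLib.Fi64
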