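import Mathlib
import Cfsg.Agent.Lib.Fi64.Mo

/-! The Sylow subgroup of the model (project E64, plans/E64.md). -/

set_option autoImplicit false
set_option maxRecDepth 100000
set_option Elab.async false

namespace CfsgLib.Fi64

open Subgroup Cfsg CfsgLib.W2 CfsgLib.Tech CfsgLib.PComp
open CfsgLib.S86 (E64 SM e1 f1 e2 f2 e3 f3 bf sa tv oc t1)
open CfsgLib.Parr (P0 V0 vc lin mp idM Act Gam Gam0 L0 U0 OK q0 b0 om t0 v0 sg nC Sg Tst)

theorem card_M : Nat.card M = 92897280 := by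
  have e : M ≃ E64 × SM := ⟨fun x => (x.a, x.l), fun p => ⟨p.1, p.2⟩, fun _ => rfl, fun _ => rfl⟩
  rw [Nat.card_congr e, Nat.card_prod, TG.card_eq, S86.card_SM]

theorem mt_fix {x : M} (hx : x ∈ Um) {v : E64} (hv : inW v) : sa x.l v = v := by
  have k : ∀ v, inW v → v ∈ [1, e1, e2, e1 * e2, e3, e1 * e3, e2 * e3, e1 * e2 * e3] := by decide +kernel
  have h1 : sa x.l e1 = e1 := hx.1
  have h2 : sa x.l e2 = e2 := hx.2.1
  have h3 : sa x.l e3 = e3 := hx.2.2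
  have := k v hv
  simp only [List.mem_cons, List.not_mem_nil, or_false] at this
  rcases this with rfl | rfl | rfl | rfl | rfl | rfl | rfl | rfl <;> simp only [S86.sa_mul, S86.sa_one, h1, h2, h3]

theorem mt_inW {x : M} (hx : x ∈ Um) (v : E64) : inW (v * sa x.l v) := by
  have k : ∀ e, sa x.l e = e → bf (v * sa x.l v) e = false := fun e he => by
    rw [S86.bf_mul]
    conv_lhs => rw [← he, S86.bf_sa, he]
    exact Bool.xor_self _
  exact ⟨k _ hx.1, k _ hx.2.1, k _ hx.2.2⟩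

theorem mt_e : inW e1 ∧ inW e2 ∧ inW e3 := by decide +kernel

theorem mt_tr_inj {u v : E64} (h : tr u = tr v) : u = v := congrArg M.a h

theorem mt_comm_tr {x : M} {v : E64} : Commute x (tr v) ↔ sa x.l v = v := by
  rw [Commute, SemiconjBy, ← mul_inv_eq_iff_eq_mul, conj_tr]
  exact ⟨mt_tr_inj, congrArg tr⟩

theorem W_le_Ab : Wm ≤ Ab := fun _ hx => hx.1

theorem Ab_le_U : Ab ≤ Um := fun x hx => by
  have h : x.l = 1 := hx
  exact ⟨by rw [h, S86.one_sa], by rw [h, S86.one_sa], by rw [h, S86.one_sa]⟩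

theorem W_le_B : Wm ≤ Bm := fun _ hx => ⟨Ab_le_U hx.1, hx.2⟩

theorem W_le_A1 : Wm ≤ A1 := fun x hx =>
  hx.1.trans ((by decide +kernel : ∀ v, inW v → 1 = gA v) x.a hx.2)

theorem B_le_U : Bm ≤ Um := fun _ hx => hx.1

theorem A1_le_U : A1 ≤ Um := fun x hx => by
  have h : x.l = gA x.a := hx
  show sa x.l e1 = e1 ∧ sa x.l e2 = e2 ∧ sa x.l e3 = e3
  rw [h]
  exact (by decide +kernel : ∀ v, sa (gA v) e1 = e1 ∧ sa (gA v) e2 = e2 ∧ sa (gA v) e3 = e3) x.a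

theorem U_le_T : Um ≤ Tm := fun _ hx =>
  ⟨hx.1, fun v hv => by rwa [mt_fix hx hv.1], fun v hv => by rwa [mt_fix hx hv]⟩

theorem T_le_P : Tm ≤ Pm := fun _ hx => hx.2.2

theorem T_le_Cz : Tm ≤ Cz := fun _ hx => hx.1

theorem Q_le_T : Qm ≤ Tm := fun x hx => by
  refine ⟨hx.2.1, fun v hv => ?_, fun v hv => ?_⟩
  · rcases hx.2.2 v hv.1.1 with e | e <;> rw [e]
    exacts [hv, (by decide +kernel : ∀ v, in2 v → in2 (v * e1)) v hv]
  · rcases hx.2.2 v hv.1 with e | e <;> rw [e]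
    exacts [hv, inW_mul _ _ hv mt_e.1]

theorem Z_le_Q : Zm ≤ Qm := fun x hx => (by decide +kernel : ∀ x ∈ [1, z, d, z * d], x ∈ Qm) x hx

theorem Z_le_B : Zm ≤ Bm := fun x hx => (by decide +kernel : ∀ x ∈ [1, z, d, z * d], x ∈ Bm) x hx

theorem tr_mem (v : E64) : tr v ∈ Tm := U_le_T (Ab_le_U rfl)

theorem mem_Ab {x : M} : x ∈ Ab ↔ ∃ v, tr v = x :=
  ⟨fun h => ⟨x.a, M.ext rfl (Eq.symm h)⟩, by rintro ⟨v, rfl⟩; exact rfl⟩

theorem mt_W {x : M} (hx : x ∈ Wm) : tr x.a = x := M.ext rfl (Eq.symm hx.1)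

theorem P_conj_U {m x : M} (hm : m ∈ Pm) (hx : x ∈ Um) : m * x * m⁻¹ ∈ Um := by
  have k : ∀ v, inW v → sa (m * x * m⁻¹).l v = v := fun v hv => by
    rw [mul_l, mul_l, S86.mul_sa, S86.mul_sa, mt_fix hx (inv_mem hm v hv), inv_l, S86.sa_inv_sa]
  exact ⟨k _ mt_e.1, k _ mt_e.2.1, k _ mt_e.2.2⟩

theorem P_conj_B {m x : M} (hm : m ∈ Pm) (hx : x ∈ Bm) : m * x * m⁻¹ ∈ Bm := by
  have h := P_conj_U hm hx.1
  refine ⟨h, ?_⟩
  have e : (m * x * m⁻¹).a = m.a * sa (m * x * m⁻¹).l m.a * sa m.l x.a := by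
    rw [mul_a, mul_a, inv_a, mul_l (m * x), inv_l, S86.mul_sa (m * x).l, mul_assoc, mul_assoc, S86.E_comm (sa m.l x.a)]
  rw [e]
  exact inW_mul _ _ (mt_inW h _) (hm _ hx.2)

theorem P_conj_W {m x : M} (hm : m ∈ Pm) (hx : x ∈ Wm) : m * x * m⁻¹ ∈ Wm := by
  rw [← mt_W hx, conj_tr]
  exact ⟨rfl, hm _ hx.2⟩

theorem mem_P_of {m : M} (h : ∀ x ∈ Wm, m * x * m⁻¹ ∈ Wm) : m ∈ Pm := fun v hv => by
  have := h (tr v) ⟨rfl, hv⟩
  rw [conj_tr] at this
  exact this.2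

theorem mem_U_iff {x : M} : x ∈ Um ↔ ∀ w ∈ Wm, Commute x w :=
  ⟨fun h w hw => by rw [← mt_W hw]; exact mt_comm_tr.2 (mt_fix h hw.2), fun h =>
    ⟨mt_comm_tr.1 (h _ ⟨rfl, mt_e.1⟩), mt_comm_tr.1 (h _ ⟨rfl, mt_e.2.1⟩), mt_comm_tr.1 (h _ ⟨rfl, mt_e.2.2⟩)⟩⟩

theorem cent_U {x : M} (h : ∀ u ∈ Um, Commute x u) : x ∈ Wm := by
  have h1 : x.l = 1 := S86.sa_ext' fun v => by
    rw [S86.one_sa]; exact mt_comm_tr.1 (h _ (Ab_le_U rfl))
  obtain ⟨v, rfl⟩ := mem_Ab.1 h1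
  have k : ∀ v, sa d.l v = v → sa h2.l v = v → sa h3.l v = v → inW v := by decide +kernel
  exact ⟨rfl, k v (mt_comm_tr.1 (h d (by decide +kernel)).symm) (mt_comm_tr.1 (h h2 (by decide +kernel)).symm)
    (mt_comm_tr.1 (h h3 (by decide +kernel)).symm)⟩

theorem mt_pe_add {H : Type*} [Group H] (G : ℕ → H) {k n : ℕ} (m : ℕ) (hn : n < 2 ^ k) (K : ℕ) :
    pe G K (n + 2 ^ k * m) = pe G K n * pe G K (2 ^ k * m) ∧ (K ≤ k → pe G K (2 ^ k * m) = 1) := by
  induction K with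
  | zero => exact ⟨(one_mul _).symm, fun _ => rfl⟩
  | succ K ih =>
    have b1 : bit (n + 2 ^ k * m) K = if K < k then bit n K else m.testBit (K - k) := by
      rw [bit_eq, bit_eq, add_comm, Nat.testBit_two_pow_mul_add _ hn]
    have b2 : bit (2 ^ k * m) K = if K < k then false else m.testBit (K - k) := by
      have := Nat.testBit_two_pow_mul_add m (Nat.two_pow_pos k) K
      rw [add_zero, Nat.zero_testBit] at this
      rw [bit_eq, this]
    rw [pe_succ, pe_succ, pe_succ, b1, b2, ih.1]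
    by_cases h : K < k
    · rw [if_pos h, if_pos h, ih.2 h.le]
      refine ⟨?_, fun _ => rfl⟩
      cases bit n K <;> simp
    · have b3 : bit n K = false := by
        rw [bit_eq]
        exact Nat.testBit_eq_false_of_lt (hn.trans_le (Nat.pow_le_pow_right (by norm_num) (by omega)))
      rw [if_neg h, if_neg h, b3]
      refine ⟨?_, fun h' => absurd h' (by omega)⟩
      cases m.testBit (K - k) <;> simp [mul_assoc]

theorem te_add {k n m : ℕ} (hk : k ≤ 15) (hn : n < 2 ^ k) : te (n + 2 ^ k * m) = te n * te (2 ^ k * m) := by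
  have _hk := hk
  exact (mt_pe_add tg m hn 15).1

theorem mt_bit {n k i : ℕ} (hn : n < 2 ^ k) (hi : k ≤ i) : bit n i = false := by
  rw [bit_eq]
  exact Nat.testBit_eq_false_of_lt (hn.trans_le (Nat.pow_le_pow_right (by norm_num) hi))

theorem mt_pe_mem {H : Type*} [Group H] {S : Subgroup H} {G : ℕ → H} {k n : ℕ} (hn : n < 2 ^ k)
    (h : ∀ i < k, G i ∈ S) (K : ℕ) : pe G K n ∈ S := by
  induction K with
  | zero => exact one_mem _
  | succ K ih =>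
    rw [pe_succ]
    by_cases hK : K < k
    · cases bit n K
      exacts [ih, mul_mem ih (h K hK)]
    · rw [mt_bit hn (by omega)]; exact ih

theorem te_mem_W {n : ℕ} (h : n < 8) : te n ∈ Wm :=
  mt_pe_mem (k := 3) h (by decide +kernel : ∀ i < 3, tg i ∈ Wm) 15

theorem mt_tgB : ∀ i < 9, tg i ∈ Bm := by decide +kernel

theorem te_mem_B {n : ℕ} (h : n < 512) : te n ∈ Bm := mt_pe_mem (k := 9) h mt_tgB 15

theorem te_mem_U {n : ℕ} (h : n < 4096) : te n ∈ Um :=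
  mt_pe_mem (k := 12) h (by decide +kernel : ∀ i < 12, tg i ∈ Um) 15

theorem exists_W {x : M} (h : x ∈ Wm) : ∃ n < 8, te n = x := by
  rw [← mt_W h]
  exact (by decide +kernel : ∀ v, inW v → ∃ n < 8, te n = tr v) _ h.2

/-- the number of the linear part of an element of `Um` -/
noncomputable def mtψ (l : SM) : ℕ :=
  Nat.land (Nat.shiftRight l.1 6) 1 + 2 * Nat.land (Nat.shiftRight l.1 20) 1 + 4 * Nat.land (Nat.shiftRight l.1 34) 1 +
    8 * Nat.land (Nat.shiftRight l.1 8) 1 + 16 * Nat.land (Nat.shiftRight l.1 10) 1 +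
      32 * Nat.land (Nat.shiftRight l.1 22) 1

theorem mt_l {x : M} (h : x ∈ Um) : mtψ x.l < 64 ∧ (te (2 ^ 3 * mtψ x.l)).l = x.l := by
  have k : ∀ b1, bf e1 b1 = true ∧ bf b1 e2 = false ∧ bf b1 e3 = false → ∀ b2,
      bf e1 b2 = false ∧ bf b1 b2 = false ∧ bf e2 b2 = true ∧ bf b2 e3 = false → ∀ b3, S86.SB e1 b1 e2 b2 e3 b3 →
        mtψ (S86.mk e1 b1 e2 b2 e3 b3) < 64 ∧
          (te (2 ^ 3 * mtψ (S86.mk e1 b1 e2 b2 e3 b3))).l = S86.mk e1 b1 e2 b2 e3 b3 := by decide +kernel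
  have h1 : sa x.l e1 = e1 := h.1
  have h2 : sa x.l e2 = e2 := h.2.1
  have h3 : sa x.l e3 = e3 := h.2.2
  have s := S86.sb_sa x.l
  have e := S86.mk_sa x.l
  rw [h1, h2, h3] at s e
  rw [← e]
  exact k _ ⟨s.1, s.2.2.1, s.2.2.2.2.2.2.2.1⟩ _ ⟨s.2.2.2.1, s.2.2.2.2.1, s.2.2.2.2.2.1, s.2.2.2.2.2.2.2.2.2.1⟩ _ s

theorem exists_B {x : M} (h : x ∈ Bm) : ∃ n < 512, te n = x := by
  obtain ⟨h1, h2⟩ := mt_l h.1
  generalize mtψ x.l = n at h1 h2
  have hb : x * (te (2 ^ 3 * n))⁻¹ ∈ Bm := mul_mem h (inv_mem (te_mem_B (by omega)))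
  obtain ⟨m, hm, e⟩ := exists_W (x := x * (te (2 ^ 3 * n))⁻¹) ⟨by rw [mul_l, inv_l, h2, mul_inv_cancel], hb.2⟩
  exact ⟨m + 2 ^ 3 * n, by omega, by rw [te_add (by norm_num) hm, e, inv_mul_cancel_right]⟩

theorem exists_U {x : M} (h : x ∈ Um) : ∃ n < 4096, te n = x := by
  obtain ⟨k, hk, v, e1, hv⟩ := (by decide +kernel : ∀ a : E64, ∃ k < 8, ∃ v, te (2 ^ 9 * k) = tr v ∧ inW (a * v)) x.a
  have hb : x * (te (2 ^ 9 * k))⁻¹ ∈ Bm := by
    refine ⟨mul_mem h (inv_mem (te_mem_U (by omega))), ?_⟩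
    have e : (x * (te (2 ^ 9 * k))⁻¹).a = x.a * v * (v * sa x.l v) := by
      rw [e1, mul_a, inv_a, mul_assoc, ← mul_assoc v, S86.E_sq, one_mul]
      show x.a * sa x.l (sa 1⁻¹ v) = _
      rw [inv_one, S86.one_sa]
    rw [e]
    exact inW_mul _ _ hv (mt_inW h v)
  obtain ⟨m, hm, e⟩ := exists_B hb
  exact ⟨m + 2 ^ 9 * k, by omega, by rw [te_add (by norm_num) hm, e, inv_mul_cancel_right]⟩

theorem exists_T {x : M} (h : x ∈ Tm) : ∃ n < 32768, te n = x := by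
  have k : ∀ u, in2 u → u ≠ 1 → u ≠ e1 → ∀ v, inW v → ¬ in2 v → ∃ k < 8, sa (te (2 ^ 12 * k)).l e1 = e1 ∧
      sa (te (2 ^ 12 * k)).l e2 = u ∧ sa (te (2 ^ 12 * k)).l e3 = v := by decide +kernel
  have h1 : sa x.l e1 = e1 := h.1
  obtain ⟨k, hk, a1, a2, a3⟩ := k (sa x.l e2) (h.2.1 _ (by decide +kernel))
    (fun e => absurd (S86.sa_inj _ (e.trans (S86.sa_one _).symm)) (by decide +kernel))
    (fun e => absurd (S86.sa_inj _ (e.trans h1.symm)) (by decide +kernel)) (sa x.l e3) (h.2.2 _ mt_e.2.2)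
    (fun e => by
      have := (inv_mem h).2.1 _ e
      rw [inv_l, S86.inv_sa_sa] at this
      exact absurd this (by decide +kernel))
  have hu : (te (2 ^ 12 * k))⁻¹ * x ∈ Um := by
    refine ⟨?_, ?_, ?_⟩ <;> rw [mul_l, inv_l, S86.mul_sa]
    · rw [h1]; conv_lhs => rw [← a1, S86.inv_sa_sa]
    · rw [← a2, S86.inv_sa_sa]
    · rw [← a3, S86.inv_sa_sa]
  obtain ⟨m, hm, e⟩ := exists_U (P_conj_U (T_le_P (te_mem (2 ^ 12 * k))) hu)
  exact ⟨m + 2 ^ 12 * k, by omega, by rw [te_add (by norm_num) hm, e]; group⟩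

theorem mt_split {S : Subgroup M} {k N : ℕ} (hk : k ≤ 15) (hS : ∀ n < 2 ^ k, te n ∈ S)
    (h1 : ∀ b < N, ∀ b' < N, te (2 ^ k * b) * (te (2 ^ k * b'))⁻¹ ∈ S → b = b')
    (h2 : ∀ a < 2 ^ k, ∀ a' < 2 ^ k, te a = te a' → a = a') :
    ∀ n < 2 ^ k * N, ∀ m < 2 ^ k * N, te n = te m → n = m := fun n hn m hm h => by
  have p := Nat.two_pow_pos k
  rw [← Nat.mod_add_div n (2 ^ k), ← Nat.mod_add_div m (2 ^ k), te_add hk (Nat.mod_lt _ p),
    te_add hk (Nat.mod_lt _ p)] at h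
  have e : n / 2 ^ k = m / 2 ^ k := h1 _ (Nat.div_lt_of_lt_mul hn) _ (Nat.div_lt_of_lt_mul hm) (by
    rw [show te (2 ^ k * (n / 2 ^ k)) = (te (n % 2 ^ k))⁻¹ * (te (m % 2 ^ k) * te (2 ^ k * (m / 2 ^ k))) by
      rw [← h, inv_mul_cancel_left], mul_assoc, mul_inv_cancel_right]
    exact mul_mem (inv_mem (hS _ (Nat.mod_lt _ p))) (hS _ (Nat.mod_lt _ p)))
  rw [e] at h
  rw [← Nat.mod_add_div n (2 ^ k), ← Nat.mod_add_div m (2 ^ k), e,
    h2 _ (Nat.mod_lt _ p) _ (Nat.mod_lt _ p) (mul_right_cancel h)]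

theorem te_inj {n m : ℕ} (hn : n < 32768) (hm : m < 32768) (h : te n = te m) : n = m := by
  have i3 : ∀ a < 2 ^ 3, ∀ a' < 2 ^ 3, te a = te a' → a = a' := by decide +kernel
  have k : ∀ b < 64, mtψ (te (2 ^ 3 * b)).l = b := by decide +kernel
  have i9 := mt_split (S := Wm) (k := 3) (N := 64) (by norm_num) (fun _ => te_mem_W) (fun b hb b' hb' e => by
    have e' : (te (2 ^ 3 * b)).l * (te (2 ^ 3 * b')).l⁻¹ = 1 := e.1
    rw [← k b hb, mul_inv_eq_one.1 e', k b' hb']) i3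
  have i12 := mt_split (S := Bm) (k := 9) (N := 8) (by norm_num) (fun _ => te_mem_B) (by decide +kernel) i9
  exact mt_split (S := Um) (k := 12) (N := 8) (by norm_num) (fun _ => te_mem_U) (by decide +kernel) i12 n hn m hm h

theorem B_sq {x : M} (hx : x ∈ Bm) : x * x = 1 := by
  obtain ⟨n, hn, rfl⟩ := exists_B hx
  exact (by decide +kernel : ∀ n < 512, te n * te n = 1) n hn

theorem B_comm {x y : M} (hx : x ∈ Bm) (hy : y ∈ Bm) : Commute x y := by
  have i : ∀ x ∈ Bm, x⁻¹ = x := fun x hx => inv_eq_of_mul_eq_one_right (B_sq hx)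
  rw [Commute, SemiconjBy, ← i _ (mul_mem hx hy), mul_inv_rev, i x hx, i y hy]

theorem te_xor {n m : ℕ} (hn : n < 512) (hm : m < 512) : te (n ^^^ m) = te n * te m := by
  have k : ∀ K, pe tg K (n ^^^ m) = pe tg K n * pe tg K m := fun K => by
    induction K with
    | zero => exact (one_mul _).symm
    | succ K ih =>
      have b : bit (n ^^^ m) K = xor (bit n K) (bit m K) := by rw [bit_eq, bit_eq, bit_eq, Nat.testBit_xor]
      rw [pe_succ, pe_succ, pe_succ, b, ih]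
      by_cases hK : K < 9
      · have c := (B_comm (mt_pe_mem (k := 9) hm mt_tgB K) (mt_tgB K hK)).eq
        have s := B_sq (mt_tgB K hK)
        cases bit n K <;> cases bit m K
        · rfl
        · exact mul_assoc _ _ _
        · show pe tg K n * pe tg K m * tg K = pe tg K n * tg K * pe tg K m
          rw [mul_assoc, c, mul_assoc]
        · show pe tg K n * pe tg K m = pe tg K n * tg K * (pe tg K m * tg K)
          rw [c, mul_assoc, ← mul_assoc (tg K), s, one_mul]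
      · rw [mt_bit (k := 9) hn (by omega), mt_bit (k := 9) hm (by omega)]; rfl
  exact k 15

theorem mt_card {S : Subgroup M} {N : ℕ} (hN : N ≤ 32768) (h1 : ∀ n < N, te n ∈ S) (h2 : ∀ x ∈ S, ∃ n < N, te n = x) :
    Nat.card S = N := by
  rw [← Nat.card_eq_of_bijective (fun n : Fin N => (⟨te n, h1 n n.2⟩ : S)) ⟨fun a b e =>
    Fin.ext (te_inj (by omega) (by omega) (congrArg Subtype.val e)), fun x => by
      obtain ⟨n, hn, e⟩ := h2 x x.2
      exact ⟨⟨n, hn⟩, Subtype.ext e⟩⟩, Nat.card_fin]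

theorem card_T : Nat.card Tm = 2 ^ 15 := mt_card le_rfl (fun n _ => te_mem n) fun _ => exists_T

theorem card_U : Nat.card Um = 4096 := mt_card (by norm_num) (fun _ => te_mem_U) fun _ => exists_U

theorem card_B : Nat.card Bm = 512 := mt_card (by norm_num) (fun _ => te_mem_B) fun _ => exists_B

theorem card_W : Nat.card Wm = 8 := mt_card (by norm_num) (fun _ => te_mem_W) fun _ => exists_W

theorem card_Ab : Nat.card Ab = 64 := by
  have e : Ab ≃ E64 := ⟨fun x => x.1.a, fun v => ⟨tr v, rfl⟩, fun x => Subtype.ext (M.ext rfl (Eq.symm x.2)), fun _ => rfl⟩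
  rw [Nat.card_congr e, TG.card_eq]

theorem card_A1 : Nat.card A1 = 64 := by
  have e : A1 ≃ E64 := ⟨fun x => x.1.a, fun v => ⟨⟨v, gA v⟩, rfl⟩, fun x => Subtype.ext (M.ext rfl (Eq.symm x.2)),
    fun _ => rfl⟩
  rw [Nat.card_congr e, TG.card_eq]

theorem pg_T : IsPGroup 2 Tm := IsPGroup.of_card card_T

theorem syl_T : IsSylowIn 2 Tm ⊤ := by
  refine ⟨le_top, pg_T, ?_⟩
  have := card_mul_relIndex' (le_top : Tm ≤ ⊤)
  rw [card_T, card_top, card_M] at this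
  omega

end CfsgLib.Fi64
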