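import Mathlib
import Cfsg.Agent.Lib.Fi64.Defs

/-! Two general lemmas on fusion (project E64, plans/E64.md). -/

set_option autoImplicit false
set_option maxRecDepth 100000
set_option Elab.async false

namespace CfsgLib.Fi64

open Subgroup Cfsg CfsgLib.W2 CfsgLib.Tech CfsgLib.PComp
open CfsgLib.S86 (E64 SM e1 f1 e2 f2 e3 f3 bf sa tv oc t1)
open CfsgLib.Parr (P0 V0 vc lin mp idM Act Gam Gam0 L0 U0 OK q0 b0 om t0 v0 sg nC Sg Tst)

variable {G : Type*} [Group G] [Finite G]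

theorem nsq {S : Subgroup G} (hS : IsSylowIn 2 S ⊤) {z d : G} (zS : z ∈ S) (dS : d ∈ S) (z1 : z ≠ 1) (z2 : z * z = 1)
    (d2 : d * d = 1) (hz : ∀ x ∈ S, Commute x z) (hd : ∀ x ∈ S, x * d * x⁻¹ = d ∨ x * d * x⁻¹ = z * d)
    (hZ : ∀ x ∈ S, (∀ y ∈ S, Commute x y) → x = 1 ∨ x = z)
    (hZd : ∀ x ∈ S, Commute x d → (∀ y ∈ S, Commute y d → Commute x y) → x = 1 ∨ x = z ∨ x = d ∨ x = z * d)
    (sz : ∃ t ∈ S, Commute t d ∧ t * t = z) (nd : ∀ t ∈ S, t * t ≠ d ∧ t * t ≠ z * d) (t : G) : t * t ≠ d := by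
  intro e
  have d1 : d ≠ 1 := fun k => (nd 1 (one_mem _)).1 (by rw [k, mul_one])
  obtain ⟨u, uS, ud, uz⟩ := sz
  have dz : d ≠ z := fun k => (nd u uS).1 (by rw [uz, k])
  have hi : Nat.card S ≤ 2 * Nat.card (S ⊓ Cx d : Subgroup G) := by
    by_cases h0 : S ≤ Cx d
    · rw [inf_eq_left.2 h0]
      omega
    obtain ⟨a, aS, ad⟩ := SetLike.not_le_iff_exists.1 h0
    have a1 := (hd a aS).resolve_left fun k => ad (mem_Cx'.2 k)
    have h2 : (S ⊓ Cx d : Subgroup G).relIndex S = 2 := by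
      refine relIndex_eq_two_iff.2 ⟨a, aS, fun b bS => ?_⟩
      by_cases hb : b ∈ Cx d
      · exact .inr ⟨⟨bS, hb⟩, fun k => ad ((mul_mem_cancel_left hb).1 k.2)⟩
      · have b1 := (hd b bS).resolve_left fun k => hb (mem_Cx'.2 k)
        refine .inl ⟨⟨mul_mem bS aS, mem_Cx'.2 ?_⟩, fun k => hb k.2⟩
        calc b * a * d * (b * a)⁻¹ = b * (a * d * a⁻¹) * b⁻¹ := by group
          _ = (b * z) * b⁻¹ * (b * d * b⁻¹) := by rw [a1]; group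
          _ = d := by rw [(hz b bS).eq, b1, mul_inv_cancel_right, ← mul_assoc, z2, one_mul]
    rw [← card_mul_relIndex' (inf_le_left : S ⊓ Cx d ≤ S), h2, mul_comm]
  have pS : IsPGroup 2 (S ⊓ Cx d : Subgroup G) := hS.pgroup.to_inf_left
  obtain ⟨R, hR, SR⟩ := exists_isSylowIn_ge pS (inf_le_right : S ⊓ Cx d ≤ Cx d)
  have zd : z ∈ S ⊓ Cx d := ⟨zS, mem_Cx.2 (hz d dS).symm.eq⟩
  by_cases eR : S ⊓ Cx d = R
  · have td : t ∈ Cx d := mem_Cx.2 (by rw [← e, mul_assoc])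
    obtain ⟨g, hg, g1⟩ := hR.exists_conj_mem td (isPGroup_zpowers_of_pow (k := 2) (by
      rw [show 2 ^ 2 = 2 * 2 from rfl, pow_mul, pow_two, pow_two, e, d2]))
    rw [← eR] at g1
    exact (nd _ g1.1).1 (by rw [conj_mul, e, mem_Cx'.1 hg])
  obtain ⟨r, rR, r1, rN⟩ := exists_mem_normalizer_of_lt hR.pgroup (SR.lt_of_ne eR)
  have z' := conj_mem_of_mem_normalizer rN zd
  have u' := conj_mem_of_mem_normalizer rN (⟨uS, mem_Cx.2 ud.eq⟩ : u ∈ S ⊓ Cx d)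
  have sq : r * u * r⁻¹ * (r * u * r⁻¹) = r * z * r⁻¹ := by rw [conj_mul, uz]
  have rz : r * z * r⁻¹ = z := by
    rcases hZd _ z'.1 (mem_Cx.1 z'.2) (fun y yS yd => by
      have y' := conj_mem_of_mem_normalizer' rN (⟨yS, mem_Cx.2 yd.eq⟩ : y ∈ S ⊓ Cx d)
      have := (hz _ y'.1).eq
      calc r * z * r⁻¹ * y = r * (z * (r⁻¹ * y * r)) * r⁻¹ := by group
        _ = y * (r * z * r⁻¹) := by rw [← this]; group) with k | k | k | k
    · exact absurd (by simpa using k) z1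
    · exact k
    · exact absurd (sq.trans k) (nd _ u'.1).1
    · exact absurd (sq.trans k) (nd _ u'.1).2
  have pR : IsPGroup 2 (R ⊓ Cx z : Subgroup G) := hR.pgroup.to_inf_left
  have lt : S ⊓ Cx d < R ⊓ Cx z := lt_of_le_of_ne (le_inf SR fun x hx => mem_Cx.2 (hz x hx.1).eq)
    fun k => r1 (k ▸ (⟨rR, mem_Cx'.2 rz⟩ : r ∈ R ⊓ Cx z))
  have c1 : 2 * Nat.card (S ⊓ Cx d : Subgroup G) ≤ Nat.card (R ⊓ Cx z : Subgroup G) := by
    obtain ⟨c, hc⟩ := card_dvd_of_le lt.le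
    have h1 := Core.card_lt_of_lt lt
    rw [hc] at h1 ⊢
    rw [mul_comm]
    exact Nat.mul_le_mul_left _ ((Nat.lt_mul_iff_one_lt_right Nat.card_pos).1 h1)
  obtain ⟨g, -, hg⟩ := (hS.of_card_le pR le_top (hi.trans c1)).exists_cj_eq hS
  have cen : ∀ x ∈ R ⊓ Cx z, R ⊓ Cx z ≤ Cx x → x ≠ 1 → g * x * g⁻¹ = z := fun x hx hc x1 =>
    (hZ _ (hg ▸ conj_mem_cj.2 hx) fun y yS => by
      rw [← hg] at yS
      obtain ⟨y, hy, rfl⟩ := yS
      exact (mem_Cx.1 (conj_mem_Cx.2 (hc hy))).symm).resolve_left (by simpa using x1)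
  have e1 := cen z (lt.le zd) inf_le_right z1
  have e2 := cen d (lt.le ⟨dS, mem_Cx.2 rfl⟩) (inf_le_left.trans hR.le) d1
  exact dz (by simpa using e2.trans e1.symm)

theorem wcf {S K B : Subgroup G} (hS : IsSylowIn 2 S K) (hB : B ≤ S) (ab : ∀ a ∈ B, ∀ b ∈ B, Commute a b)
    (wc : ∀ k ∈ K, cj k B ≤ S → cj k B = B) {a k : G} (hk : k ∈ K) (ha : a ∈ B) (h : k * a * k⁻¹ ∈ B) :
    ∃ n ∈ K, n ∈ Nm B ∧ n * a * n⁻¹ = k * a * k⁻¹ := by
  have BK := hB.trans hS.le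
  have pB := hS.pgroup.to_le hB
  obtain ⟨R, hR, BR⟩ := exists_isSylowIn_ge pB
    (le_inf BK fun b hb => mem_Cx.2 (ab b hb _ h).eq : B ≤ K ⊓ Cx (k * a * k⁻¹))
  obtain ⟨c, hc, c1⟩ := hR.exists_cj_le (isPGroup_cj k pB) (cj_le_iff.2 fun b hb =>
    ⟨K.mul_mem (K.mul_mem hk (BK hb)) (K.inv_mem hk), conj_mem_Cx.2 (mem_Cx.2 (ab b hb a ha).eq)⟩)
  obtain ⟨g, hg, g1⟩ := hS.exists_cj_le hR.pgroup (hR.le.trans inf_le_left)
  have e1 := wc g hg ((cj_mono g BR).trans g1)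
  have e2 := wc (g * (c * k)) (mul_mem hg (mul_mem hc.1 hk)) (by
    rw [cj_mul, cj_mul]; exact (cj_mono g c1).trans g1)
  rw [cj_mul] at e2
  refine ⟨c * k, mul_mem hc.1 hk, mem_normalizer_iff_cj.2 (cj_injective g (e2.trans e1.symm)), ?_⟩
  rw [← mem_Cx'.1 hc.2]
  conv_lhs => rw [show c * k * a * (c * k)⁻¹ = c * (k * a * k⁻¹) * c⁻¹ by group]

/-- a `2`-element which is congruent to an element of odd order modulo a normal subgroup -/
theorem mem_of_two_odd {L K : Subgroup G} (hn : ∀ k ∈ K, ∀ x ∈ L, k * x * k⁻¹ ∈ L) {s o : G} (hs : s ∈ K) (ho : o ∈ K)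
    (h2 : Two s) (h1 : Odd (orderOf o)) (h : s * o⁻¹ ∈ L) : s ∈ L := by
  have key : ∀ n : ℕ, s ^ n * o⁻¹ ^ n ∈ L := fun n => by
    induction n with
    | zero => simp
    | succ n ih =>
      have := mul_mem (hn s hs _ ih) h
      rwa [show s * (s ^ n * o⁻¹ ^ n) * s⁻¹ * (s * o⁻¹) = s ^ (n + 1) * o⁻¹ ^ (n + 1) by
        rw [pow_succ' s, pow_succ o⁻¹]; group] at this
  have k1 := key (orderOf o)
  rw [inv_pow, pow_orderOf_eq_one, inv_one, mul_one] at k1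
  obtain ⟨n, e⟩ := h2
  exact mem_of_coprime_pow ((Nat.coprime_two_right.2 h1).pow_right n) k1 (e ▸ one_mem L)

end CfsgLib.Fi64
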