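import Mathlib
import Cfsg.Agent.Lib.Fi64.Defs
import Cfsg.Agent.Lib.Fi64.MT
import Cfsg.Agent.Lib.Fi64.Nsq

/-! Lifting from the model (project E64, plans/E64.md). -/

set_option autoImplicit false
set_option maxRecDepth 100000
set_option Elab.async false
set_option linter.unusedSectionVars false

namespace CfsgLib.Fi64

open Subgroup Cfsg CfsgLib.W2 CfsgLib.Tech CfsgLib.PComp
open CfsgLib.S86 (E64 SM e1 f1 e2 f2 e3 f3 bf sa tv oc t1)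
open CfsgLib.Parr (P0 V0 vc lin mp idM Act Gam Gam0 L0 U0 OK q0 b0 om t0 v0 sg nC Sg Tst)

variable {G : Type*} [Group G] [Finite G]

theorem api_two_odd {K : Type*} [Group K] {g : K} (h : Two g) (o : Odd (orderOf g)) : g = 1 := by
  obtain ⟨k, hk⟩ := h
  have h1 := orderOf_dvd_of_pow_eq_one hk
  have h2 : (orderOf g).Coprime (2 ^ k) := Nat.Coprime.pow_right _ (Nat.coprime_two_right.2 o)
  exact orderOf_eq_one_iff.1 (Nat.Coprime.eq_one_of_dvd h2 h1)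

namespace Sit

variable {A : Subgroup G} {π : G → M} {j : M → G} (S : Sit A π j)
include S

theorem mem_A {g : G} : g ∈ A ↔ ∃ v, j (tr v) = g := by
  have h : g ∈ A ↔ g ∈ J j Ab := by rw [← S.hA]
  rw [h, S.mem_J]
  constructor
  · rintro ⟨x, hx, -, e⟩
    obtain ⟨v, rfl⟩ := mem_Ab.1 hx
    exact ⟨v, e⟩
  · rintro ⟨v, e⟩
    exact ⟨tr v, mem_Ab.2 ⟨v, rfl⟩, tr_mem v, e⟩

theorem conj_A {n : G} (hn : n ∈ Nm A) (v : E64) : n * j (tr v) * n⁻¹ = j (tr (sa (π n).l v)) := by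
  have h1 : n * j (tr v) * n⁻¹ ∈ A := conj_mem_of_mem_normalizer hn (S.mem_A.2 ⟨v, rfl⟩)
  have h2 : n * j (tr v) * n⁻¹ ∈ J j Ab := by rw [← S.hA]; exact h1
  rw [(S.cj_eq hn (tr_mem v) h2).2.2, conj_tr]

theorem cent_A {n : G} (hn : n ∈ Nm A) : n ∈ Ce A ↔ (π n).l = 1 := by
  constructor
  · intro h
    refine S86.sa_ext' fun v => ?_
    have h1 := S.conj_A hn v
    have h2 : j (tr v) * n = n * j (tr v) := (mem_centralizer_iff.1 h) _ (S.mem_A.2 ⟨v, rfl⟩)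
    rw [← h2, mul_inv_cancel_right] at h1
    have h3 := congrArg M.a (S.j_inj (tr_mem _) (tr_mem _) h1)
    rw [S86.one_sa]
    exact h3.symm
  · intro h
    refine mem_centralizer_iff.2 fun g hg => ?_
    obtain ⟨v, rfl⟩ := S.mem_A.1 hg
    have h1 := S.conj_A hn v
    rw [h, S86.one_sa, mul_inv_eq_iff_eq_mul] at h1
    exact h1.symm

theorem pgJ (X : Subgroup M) : IsPGroup 2 (J j X) := by
  rw [S.J_eq]
  exact (pg_T.to_subgroup _).map _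

theorem two_j {x : M} (hx : x ∈ Tm) : Two (j x) := by
  exact Two.of_mem (S.pgJ Tm) ((S.j_mem hx).2 hx)

theorem sylT : IsSylowIn 2 (J j Tm) (Nm A) := by
  refine isSylowIn_of_maximal (S.pgJ Tm) (S.J_le_N Tm) fun R hR h1 h2 g hg => ?_
  have p1 : IsPGroup 2 ((R.subgroupOf (Nm A)).map S.πh) := (hR.comap_subtype).map _
  have l1 : Tm ≤ (R.subgroupOf (Nm A)).map S.πh := fun x hx =>
    ⟨⟨j x, S.jN x hx⟩, h1 ((S.j_mem hx).2 hx), S.πj x hx⟩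
  have e1 := syl_T.eq_of_le p1 l1 le_top
  have m1 : π g ∈ Tm := by
    rw [← e1]; exact ⟨⟨g, h2 hg⟩, hg, rfl⟩
  have m2 : j (π g) ∈ R := h1 ((S.j_mem m1).2 m1)
  have m3 : g⁻¹ * j (π g) ∈ R := mul_mem (inv_mem hg) m2
  have o1 : Odd (orderOf (g⁻¹ * j (π g))) := S.πk _ (h2 m3) (by
    rw [S.πm _ (inv_mem (h2 hg)) _ (h2 m2), S.π_inv (h2 hg), S.πj _ m1, inv_mul_cancel])
  have e2 : g⁻¹ * j (π g) = 1 := api_two_odd (Two.of_mem hR m3) o1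
  rw [inv_mul_eq_one] at e2
  rw [e2]
  exact (S.j_mem m1).2 m1

theorem two {R : Subgroup G} (hR : IsPGroup 2 R) (h : R ≤ Nm A) (hT : ∀ g ∈ R, π g ∈ Tm) :
    ∃ k ∈ Nm A, π k = 1 ∧ ∀ g ∈ R, k * g * k⁻¹ = j (π g) := by
  have hK : ∀ g : G, g ∈ (Tm.comap S.πh).map (Nm A).subtype ↔ g ∈ Nm A ∧ π g ∈ Tm := fun g =>
    ⟨by rintro ⟨x, hx, rfl⟩; exact ⟨x.2, hx⟩, fun hg => ⟨⟨g, hg.1⟩, hg.2, rfl⟩⟩
  have s1 : IsSylowIn 2 (J j Tm) ((Tm.comap S.πh).map (Nm A).subtype) :=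
    S.sylT.of_le (fun g hg => (hK g).2 ⟨S.J_le_N _ hg, (S.j_π hg).1⟩) fun g hg => ((hK g).1 hg).1
  obtain ⟨g, hg, hc⟩ := s1.exists_cj_le hR fun g hg => (hK g).2 ⟨h hg, hT g hg⟩
  obtain ⟨gN, gT⟩ := (hK g).1 hg
  have jN := S.jN _ gT
  have kN : (j (π g))⁻¹ * g ∈ Nm A := mul_mem (inv_mem jN) gN
  have k1 : π ((j (π g))⁻¹ * g) = 1 := by
    rw [S.πm _ (inv_mem jN) _ gN, S.π_inv jN, S.πj _ gT, inv_mul_cancel]
  refine ⟨_, kN, k1, fun r hr => ?_⟩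
  have m1 : g * r * g⁻¹ ∈ J j Tm := cj_le_iff.1 hc r hr
  have m2 : j (π g) ∈ J j Tm := (S.j_mem gT).2 gT
  have m3 : (j (π g))⁻¹ * g * r * ((j (π g))⁻¹ * g)⁻¹ ∈ J j Tm := by
    have : (j (π g))⁻¹ * g * r * ((j (π g))⁻¹ * g)⁻¹ = (j (π g))⁻¹ * (g * r * g⁻¹) * j (π g) := by group
    rw [this]
    exact mul_mem (mul_mem (inv_mem m2) m1) m2
  have e := (S.j_π m3).2.2
  rw [S.π_conj kN (h hr), k1, one_mul, inv_one, mul_one] at e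
  exact e.symm

theorem lift {X : Subgroup M} (hX : X ≤ Tm) {m : M} (h : ∀ x ∈ X, m * x * m⁻¹ ∈ Tm) :
    ∃ n ∈ Nm A, π n = m ∧ ∀ x ∈ X, n * j x * n⁻¹ = j (m * x * m⁻¹) := by
  obtain ⟨n, hn, rfl⟩ := S.πs m
  have k0 : ∀ g ∈ cj n (J j X), ∃ x ∈ X, n * j x * n⁻¹ = g := by
    rintro _ ⟨y, hy, rfl⟩
    obtain ⟨x, hx, -, rfl⟩ := S.mem_J.1 hy
    exact ⟨x, hx, rfl⟩
  have k1 : ∀ x ∈ X, π (n * j x * n⁻¹) = π n * x * (π n)⁻¹ := fun x hx => by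
    rw [S.π_conj hn (S.jN x (hX hx)), S.πj x (hX hx)]
  obtain ⟨k, hk, e, H⟩ := S.two (isPGroup_cj n (S.pgJ X))
    (fun g hg => by
      obtain ⟨x, hx, rfl⟩ := k0 g hg
      exact mul_mem (mul_mem hn (S.jN x (hX hx))) (inv_mem hn))
    (fun g hg => by
      obtain ⟨x, hx, rfl⟩ := k0 g hg
      rw [k1 x hx]; exact h x hx)
  refine ⟨k * n, mul_mem hk hn, by rw [S.πm _ hk _ hn, e, one_mul], fun x hx => ?_⟩
  have := H (n * j x * n⁻¹) (conj_mem_cj.2 ((S.j_mem (hX hx)).2 hx))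
  rw [k1 x hx] at this
  rw [← this]; group

theorem liftN {X : Subgroup M} (hX : X ≤ Tm) {m : M} (h : ∀ x ∈ X, m * x * m⁻¹ ∈ X) :
    ∃ n ∈ Nm A, n ∈ Nm (J j X) ∧ π n = m ∧ ∀ x ∈ X, n * j x * n⁻¹ = j (m * x * m⁻¹) := by
  obtain ⟨n, hn, e, H⟩ := S.lift hX fun x hx => hX (h x hx)
  refine ⟨n, hn, mem_normalizer_of_forall fun g hg => ?_, e, H⟩
  obtain ⟨x, hx, -, rfl⟩ := S.mem_J.1 hg
  rw [H x hx]
  exact (S.j_mem (hX (h x hx))).2 (h x hx)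

theorem conjM {x y m : M} (hx : x ∈ Tm) (hy : y ∈ Tm) (h : m * x * m⁻¹ = y) : ∃ n ∈ Nm A, π n = m ∧ n * j x * n⁻¹ = j y := by
  obtain ⟨n, hn, e, H⟩ := S.lift (X := zpowers x) (zpowers_le.2 hx) (m := m) (by
    rintro _ ⟨k, rfl⟩
    have : m * x ^ k * m⁻¹ = y ^ k := by rw [← h, conj_zpow]
    show m * x ^ k * m⁻¹ ∈ Tm
    rw [this]
    exact zpow_mem hy k)
  exact ⟨n, hn, e, by rw [H x (mem_zpowers x), h]⟩

theorem sq {y t : M} (hy : y ∈ Tm) (h : t * t = y) : ∃ g ∈ Nm A, g * g = j y := by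
  obtain ⟨k, hk⟩ := isPGroup_iff_mem.1 pg_T y hy
  have t2 : t ^ 2 ^ (k + 1) = 1 := by rw [pow_succ', pow_mul, pow_two, h, hk]
  obtain ⟨g, -, hg⟩ := syl_T.exists_conj_mem (mem_top t) (isPGroup_zpowers_of_pow t2)
  obtain ⟨n, hn, -, H⟩ := S.conjM (m := g⁻¹) (mul_mem hg hg) hy (by rw [← h]; group)
  refine ⟨n * j (g * t * g⁻¹) * n⁻¹, mul_mem (mul_mem hn (S.jN _ hg)) (inv_mem hn), ?_⟩
  rw [← H, S.jm _ hg _ hg, conj_mul]

theorem two_cent {g : G} (hg : g ∈ Ce A) (h : Two g) : g ∈ A := by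
  have cN : Ce A ≤ Nm A := centralizer_le_normalizer _
  have k0 : ∀ x ∈ Ce A, π x ∈ Ab := fun x hx => (S.cent_A (cN hx)).1 hx
  obtain ⟨k, hk, -, H⟩ := S.two h.pg ((zpowers_le.2 hg).trans cN)
    fun x hx => U_le_T (Ab_le_U (k0 x (zpowers_le.2 hg hx)))
  have m1 : k * g * k⁻¹ ∈ A := by
    rw [H g (mem_zpowers g)]
    obtain ⟨v, e⟩ := mem_Ab.1 (k0 g hg)
    exact S.mem_A.2 ⟨v, by rw [e]⟩
  exact (mem_normalizer_iff.1 hk g).2 m1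

theorem odd_cent {g : G} (hg : g ∈ Ce A) (h : Odd (orderOf g)) : π g = 1 := by
  have gN : g ∈ Nm A := centralizer_le_normalizer _ hg
  obtain ⟨v, e⟩ := mem_Ab.1 (show π g ∈ Ab from (S.cent_A gN).1 hg)
  have h2 : π g * π g = 1 := by rw [← e, ← tr_mul, S86.E_sq]; rfl
  have h3 : π g ^ orderOf g = 1 := by rw [← S.π_pow gN, pow_orderOf_eq_one, S.π_one]
  exact api_two_odd (Two.of_sq h2) (h.of_dvd_nat (orderOf_dvd_of_pow_eq_one h3))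

theorem mem_of_two {L : Subgroup G} (hL : ∀ n ∈ Nm A, ∀ x ∈ L, n * x * n⁻¹ ∈ L) {x : M} (hx : x ∈ Tm) {n : G} (hn : n ∈ Nm A)
    (h : n ∈ L) (e : π n = x) : j x ∈ L := by
  have jN := S.jN x hx
  refine mem_of_two_odd (K := Nm A) hL jN (mul_mem (inv_mem hn) jN) (S.two_j hx) (S.πk _ (mul_mem (inv_mem hn) jN) ?_) ?_
  · rw [S.πm _ (inv_mem hn) _ jN, S.π_inv hn, S.πj x hx, e, inv_mul_cancel]
  · have : j x * (n⁻¹ * j x)⁻¹ = n := by group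
    rwa [this]

/-- normal subgroups of `N(A)` -/
theorem normal_N {L : Subgroup G} (hL : ∀ n ∈ Nm A, ∀ x ∈ L, x ∈ Nm A → n * x * n⁻¹ ∈ L) {g : G} (h : g ∈ L) (hg : g ∈ Nm A)
    (h1 : (π g).l ≠ 1) (l : SM) : ∃ n ∈ L, n ∈ Nm A ∧ (π n).l = l := by
  have := S86.simple_SM
  have n1 : (L.subgroupOf (Nm A)).Normal := ⟨fun x hx n => hL n n.2 x hx x.2⟩
  have sj : Function.Surjective (lH.comp S.πh) := fun l => by
    obtain ⟨n, hn, e⟩ := S.πs (sy l)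
    exact ⟨⟨n, hn⟩, congrArg M.l e⟩
  have n2 : ((L.subgroupOf (Nm A)).map (lH.comp S.πh)).Normal := n1.map _ sj
  rcases n2.eq_bot_or_eq_top with e | e
  · exact absurd (mem_bot.1 (e ▸ (⟨⟨g, hg⟩, h, rfl⟩ : (π g).l ∈ (L.subgroupOf (Nm A)).map (lH.comp S.πh)))) h1
  · obtain ⟨n, hn, e'⟩ : l ∈ (L.subgroupOf (Nm A)).map (lH.comp S.πh) := e ▸ mem_top l
    exact ⟨n, hn, n.2, e'⟩

end Sit

end CfsgLib.Fi64
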