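import Mathlib
import Cfsg.Agent.Lib.Fi64.MT

/-! The Thompson subgroup of `Tm` (project E64, plans/E64.md). -/

set_option autoImplicit false
set_option maxRecDepth 100000
set_option Elab.async false

namespace CfsgLib.Fi64

open Subgroup Cfsg CfsgLib.W2 CfsgLib.Tech CfsgLib.PComp
open CfsgLib.S86 (E64 SM e1 f1 e2 f2 e3 f3 bf sa tv oc t1)
open CfsgLib.Parr (P0 V0 vc lin mp idM Act Gam Gam0 L0 U0 OK q0 b0 om t0 v0 sg nC Sg Tst)

namespace MJ

noncomputable section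

/-- representatives of the cosets of `Bm` in `Tm` -/
def tk (k : ℕ) : M := te (2 ^ 9 * k)
/-- `tk k * tg i * (tk k)⁻¹ = te (cj k i)` -/
def cj (k i : ℕ) : ℕ := Nat.land (Nat.shiftRight 0xe031887302c0240c0300f1980419816c1006018078ac7214d8b6090300c03c3609026c58040180601e1b1c87362c0240c0300f1582419b16c1006018078cc6214c0b6090300c03c0601026058040180601a2b1887ff090240e0200d1d8041fc04810070100680c7217e0200903808034260903fe100401c0401a3b1c87f8090240e0200d158241ff84810070100684c6217fc200903808034060103f0100401c0401c1b1887ff2c0240e0300e1d8041fc16c1007018070ec7217e0b6090380c038360903fe580401c0601c031c87f82c0240e0300e118241ff96c10070180708c6217fcb6090380c038060103f0580401c0601833188730090240c0200c1980419804810060100604c7214d82009030080302609026c100401804018231c8736090240c0200c1182419b04810060100600c6214c02009030080300601026010040180401e021486a82c0240a0300f1902415696c1005018078a85212a0b6090280c03c3409015a58040140601e1a1086ad2c0240a03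00f1500415416c1005018078c84212b4b6090280c03c0401015058040140601a2a1486a8090240a0200d1d0241568481005010068085212a02009028080342409015a10040140401a3a1086ad090240a0200d150041540481005010068484212b42009028080340401015010040140401c1a1486242c024080300e1d02411216c1004018070e8521090b6090200c0383409004858040100601c021086202c024080300e1100411016c100401807088421080b6090200c038040100405804010060183214862409024080200c19024112048100401006048521090200902008030240900481004010040182210862009024080200c110041100481004010060084210802009020080300401004010040100401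
  (Nat.mul 9 (Nat.add (Nat.mul 9 k) i))) 511
/-- conjugation by `tk k` on the numbers of the elements of `Bm` -/
def A (k n j : ℕ) : ℕ := Nat.rec 0 (fun i ih => cond (bit n i) (Nat.xor ih (cj k i)) ih) j
/-- the cosets with squares in `Bm` -/
def ivL : List ℕ := [0, 1, 2, 3, 4, 5, 6, 7, 8, 10, 12, 14, 16, 18, 20, 22, 24, 26, 28, 30, 32, 33, 36, 37, 48, 51, 52, 55]
/-- the centralisers in `Bm` -/
def CL (k : ℕ) : List ℕ := [[],
  [0, 1, 2, 3, 4, 5, 6, 7, 16, 17, 18, 19, 20, 21, 22, 23, 32, 33, 34, 35, 36, 37, 38, 39, 48, 49, 50, 51, 52, 53, 54, 55, 256, 257, 258, 259, 260, 261, 262, 263, 272, 273, 274, 275, 276, 277, 278, 279, 288, 289, 290, 291, 292, 293, 294, 295, 304, 305, 306, 307, 308, 309, 310, 311],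
  [0, 1, 2, 3, 4, 5, 6, 7, 8, 9, 10, 11, 12, 13, 14, 15, 32, 33, 34, 35, 36, 37, 38, 39, 40, 41, 42, 43, 44, 45, 46, 47, 128, 129, 130, 131, 132, 133, 134, 135, 136, 137, 138, 139, 140, 141, 142, 143, 160, 161, 162, 163, 164, 165, 166, 167, 168, 169, 170, 171, 172, 173, 174, 175],
  [0, 1, 2, 3, 4, 5, 6, 7, 32, 33, 34, 35, 36, 37, 38, 39, 88, 89, 90, 91, 92, 93, 94, 95, 120, 121, 122, 123, 124, 125, 126, 127, 384, 385, 386, 387, 388, 389, 390, 391, 416, 417, 418, 419, 420, 421, 422, 423, 472, 473, 474, 475, 476, 477, 478, 479, 504, 505, 506, 507, 508, 509, 510, 511],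
  [0, 1, 2, 3, 4, 5, 6, 7, 8, 9, 10, 11, 12, 13, 14, 15, 16, 17, 18, 19, 20, 21, 22, 23, 24, 25, 26, 27, 28, 29, 30, 31, 64, 65, 66, 67, 68, 69, 70, 71, 72, 73, 74, 75, 76, 77, 78, 79, 80, 81, 82, 83, 84, 85, 86, 87, 88, 89, 90, 91, 92, 93, 94, 95],
  [0, 1, 2, 3, 4, 5, 6, 7, 16, 17, 18, 19, 20, 21, 22, 23, 168, 169, 170, 171, 172, 173, 174, 175, 184, 185, 186, 187, 188, 189, 190, 191, 320, 321, 322, 323, 324, 325, 326, 327, 336, 337, 338, 339, 340, 341, 342, 343, 488, 489, 490, 491, 492, 493, 494, 495, 504, 505, 506, 507, 508, 509, 510, 511],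
  [0, 1, 2, 3, 4, 5, 6, 7, 8, 9, 10, 11, 12, 13, 14, 15, 192, 193, 194, 195, 196, 197, 198, 199, 200, 201, 202, 203, 204, 205, 206, 207, 304, 305, 306, 307, 308, 309, 310, 311, 312, 313, 314, 315, 316, 317, 318, 319, 496, 497, 498, 499, 500, 501, 502, 503, 504, 505, 506, 507, 508, 509, 510, 511],
  [0, 1, 2, 3, 4, 5, 6, 7, 88, 89, 90, 91, 92, 93, 94, 95, 168, 169, 170, 171, 172, 173, 174, 175, 240, 241, 242, 243, 244, 245, 246, 247, 304, 305, 306, 307, 308, 309, 310, 311, 360, 361, 362, 363, 364, 365, 366, 367, 408, 409, 410, 411, 412, 413, 414, 415, 448, 449, 450, 451, 452, 453, 454, 455],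
  [0, 1, 4, 5, 8, 9, 12, 13, 32, 33, 36, 37, 40, 41, 44, 45, 64, 65, 68, 69, 72, 73, 76, 77, 96, 97, 100, 101, 104, 105, 108, 109, 128, 129, 132, 133, 136, 137, 140, 141, 160, 161, 164, 165, 168, 169, 172, 173, 192, 193, 196, 197, 200, 201, 204, 205, 224, 225, 228, 229, 232, 233, 236, 237],
  [],
  [0, 1, 4, 5, 8, 9, 12, 13, 32, 33, 36, 37, 40, 41, 44, 45, 66, 67, 70, 71, 74, 75, 78, 79, 98, 99, 102, 103, 106, 107, 110, 111, 128, 129, 132, 133, 136, 137, 140, 141, 160, 161, 164, 165, 168, 169, 172, 173, 194, 195, 198, 199, 202, 203, 206, 207, 226, 227, 230, 231, 234, 235, 238, 239],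
  [],
  [0, 1, 4, 5, 8, 9, 12, 13, 64, 65, 68, 69, 72, 73, 76, 77, 130, 131, 134, 135, 138, 139, 142, 143, 194, 195, 198, 199, 202, 203, 206, 207],
  [],
  [0, 1, 4, 5, 8, 9, 12, 13, 66, 67, 70, 71, 74, 75, 78, 79, 130, 131, 134, 135, 138, 139, 142, 143, 192, 193, 196, 197, 200, 201, 204, 205],
  [],
  [0, 1, 2, 3, 8, 9, 10, 11, 16, 17, 18, 19, 24, 25, 26, 27, 64, 65, 66, 67, 72, 73, 74, 75, 80, 81, 82, 83, 88, 89, 90, 91, 128, 129, 130, 131, 136, 137, 138, 139, 144, 145, 146, 147, 152, 153, 154, 155, 192, 193, 194, 195, 200, 201, 202, 203, 208, 209, 210, 211, 216, 217, 218, 219],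
  [],
  [0, 1, 2, 3, 8, 9, 10, 11, 68, 69, 70, 71, 76, 77, 78, 79, 128, 129, 130, 131, 136, 137, 138, 139, 196, 197, 198, 199, 204, 205, 206, 207],
  [],
  [0, 1, 2, 3, 8, 9, 10, 11, 16, 17, 18, 19, 24, 25, 26, 27, 64, 65, 66, 67, 72, 73, 74, 75, 80, 81, 82, 83, 88, 89, 90, 91, 132, 133, 134, 135, 140, 141, 142, 143, 148, 149, 150, 151, 156, 157, 158, 159, 196, 197, 198, 199, 204, 205, 206, 207, 212, 213, 214, 215, 220, 221, 222, 223],
  [],
  [0, 1, 2, 3, 8, 9, 10, 11, 68, 69, 70, 71, 76, 77, 78, 79, 132, 133, 134, 135, 140, 141, 142, 143, 192, 193, 194, 195, 200, 201, 202, 203],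
  [],
  [0, 1, 6, 7, 8, 9, 14, 15, 64, 65, 70, 71, 72, 73, 78, 79, 128, 129, 134, 135, 136, 137, 142, 143, 192, 193, 198, 199, 200, 201, 206, 207, 304, 305, 310, 311, 312, 313, 318, 319, 368, 369, 374, 375, 376, 377, 382, 383, 432, 433, 438, 439, 440, 441, 446, 447, 496, 497, 502, 503, 504, 505, 510, 511],
  [],
  [0, 1, 6, 7, 8, 9, 14, 15, 66, 67, 68, 69, 74, 75, 76, 77, 128, 129, 134, 135, 136, 137, 142, 143, 194, 195, 196, 197, 202, 203, 204, 205],
  [],
  [0, 1, 6, 7, 8, 9, 14, 15, 64, 65, 70, 71, 72, 73, 78, 79, 130, 131, 132, 133, 138, 139, 140, 141, 194, 195, 196, 197, 202, 203, 204, 205],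
  [],
  [0, 1, 6, 7, 8, 9, 14, 15, 66, 67, 68, 69, 74, 75, 76, 77, 130, 131, 132, 133, 138, 139, 140, 141, 192, 193, 198, 199, 200, 201, 206, 207, 304, 305, 310, 311, 312, 313, 318, 319, 370, 371, 372, 373, 378, 379, 380, 381, 434, 435, 436, 437, 442, 443, 444, 445, 496, 497, 502, 503, 504, 505, 510, 511],
  [],
  [0, 1, 2, 3, 8, 9, 10, 11, 16, 17, 18, 19, 24, 25, 26, 27, 64, 65, 66, 67, 72, 73, 74, 75, 80, 81, 82, 83, 88, 89, 90, 91, 256, 257, 258, 259, 264, 265, 266, 267, 272, 273, 274, 275, 280, 281, 282, 283, 320, 321, 322, 323, 328, 329, 330, 331, 336, 337, 338, 339, 344, 345, 346, 347],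
  [0, 1, 2, 3, 16, 17, 18, 19, 68, 69, 70, 71, 84, 85, 86, 87, 256, 257, 258, 259, 272, 273, 274, 275, 324, 325, 326, 327, 340, 341, 342, 343],
  [],
  [],
  [0, 1, 2, 3, 8, 9, 10, 11, 16, 17, 18, 19, 24, 25, 26, 27, 64, 65, 66, 67, 72, 73, 74, 75, 80, 81, 82, 83, 88, 89, 90, 91, 260, 261, 262, 263, 268, 269, 270, 271, 276, 277, 278, 279, 284, 285, 286, 287, 324, 325, 326, 327, 332, 333, 334, 335, 340, 341, 342, 343, 348, 349, 350, 351],
  [0, 1, 2, 3, 16, 17, 18, 19, 68, 69, 70, 71, 84, 85, 86, 87, 260, 261, 262, 263, 276, 277, 278, 279, 320, 321, 322, 323, 336, 337, 338, 339],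
  [],
  [],
  [],
  [],
  [],
  [],
  [],
  [],
  [],
  [],
  [0, 1, 2, 3, 8, 9, 10, 11, 16, 17, 18, 19, 24, 25, 26, 27, 64, 65, 66, 67, 72, 73, 74, 75, 80, 81, 82, 83, 88, 89, 90, 91, 384, 385, 386, 387, 392, 393, 394, 395, 400, 401, 402, 403, 408, 409, 410, 411, 448, 449, 450, 451, 456, 457, 458, 459, 464, 465, 466, 467, 472, 473, 474, 475],
  [],
  [],
  [0, 1, 2, 3, 28, 29, 30, 31, 68, 69, 70, 71, 88, 89, 90, 91, 384, 385, 386, 387, 412, 413, 414, 415, 452, 453, 454, 455, 472, 473, 474, 475],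
  [0, 1, 2, 3, 8, 9, 10, 11, 16, 17, 18, 19, 24, 25, 26, 27, 64, 65, 66, 67, 72, 73, 74, 75, 80, 81, 82, 83, 88, 89, 90, 91, 388, 389, 390, 391, 396, 397, 398, 399, 404, 405, 406, 407, 412, 413, 414, 415, 452, 453, 454, 455, 460, 461, 462, 463, 468, 469, 470, 471, 476, 477, 478, 479],
  [],
  [],
  [0, 1, 2, 3, 28, 29, 30, 31, 68, 69, 70, 71, 88, 89, 90, 91, 388, 389, 390, 391, 408, 409, 410, 411, 448, 449, 450, 451, 476, 477, 478, 479]].getD k []
def P (k l : ℕ) : ℕ := ((CL k).filter fun n => Nat.beq (A l n 9) n).length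

theorem cj_ok : ∀ k < 64, ∀ i < 9, cj k i < 512 ∧ tk k * tg i = te (cj k i) * tk k := by decide +kernel
theorem iv_ok : ∀ k < 64, tk k * tk k ∈ Bm → k ∈ ivL := by decide +kernel
theorem CL_ok : ∀ k ∈ ivL, k ≠ 0 → ∀ n < 512, A k n 9 = n → n ∈ CL k := by decide +kernel
theorem P_ok : ∀ k ∈ ivL, k ≠ 0 → P k k ≤ 64 ∧ (ivL.filter fun l => Nat.ble 17 (P k l)).length ≤ 8 ∧
    (ivL.filter fun l => Nat.ble 33 (P k l)).length ≤ 2 := by decide +kernel

theorem A_ok {k : ℕ} (hk : k < 64) (n : ℕ) : ∀ j ≤ 9, A k n j < 512 ∧ tk k * pe tg j n = te (A k n j) * tk k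
  | 0, _ => ⟨by norm_num [A], by
      have e : te (A k n 0) = 1 := (by decide +kernel : te 0 = 1)
      rw [pe_zero, mul_one, e, one_mul]⟩
  | j + 1, h => by
    obtain ⟨h1, h2⟩ := A_ok hk n j (by omega)
    obtain ⟨h3, h4⟩ := cj_ok k hk j h
    have e : A k n (j + 1) = cond (bit n j) (A k n j ^^^ cj k j) (A k n j) := rfl
    rw [e, pe_succ]
    cases bit n j
    · exact ⟨h1, h2⟩
    · refine ⟨Nat.xor_lt_two_pow (n := 9) h1 h3, ?_⟩
      rw [cond_true, cond_true, te_xor h1 h3, ← mul_assoc, h2, mul_assoc, h4, mul_assoc]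

theorem te_nine {n : ℕ} (h : n < 512) : te n = pe tg 9 n := by
  have k : ∀ j, 9 ≤ j → bit n j = false := fun j hj => by
    rw [bit_eq]
    exact Nat.testBit_lt_two_pow (h.trans_le (Nat.pow_le_pow_right (n := 2) two_pos hj))
  simp only [te, pe_succ tg 14, pe_succ tg 13, pe_succ tg 12, pe_succ tg 11, pe_succ tg 10, pe_succ tg 9,
    k 14 (by norm_num), k 13 (by norm_num), k 12 (by norm_num), k 11 (by norm_num), k 10 (by norm_num), k 9 le_rfl,
    cond_false]

theorem fix {k n : ℕ} (hk : k < 64) (hn : n < 512) (h : Commute (tk k) (te n)) : A k n 9 = n := by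
  obtain ⟨h1, h2⟩ := A_ok hk n 9 le_rfl
  rw [← te_nine hn, h.eq] at h2
  exact (te_inj (by omega) (by omega) (mul_right_cancel h2)).symm

theorem split {x : M} (h : x ∈ Tm) : ∃ k < 64, ∃ b ∈ Bm, x = b * tk k := by
  obtain ⟨n, hn, rfl⟩ := exists_T h
  refine ⟨n / 512, by omega, _, te_mem_B (Nat.mod_lt n (by norm_num : 0 < 512)), ?_⟩
  rw [tk, ← te_add (k := 9) (by norm_num) (Nat.mod_lt n (by norm_num) : n % 512 < 2 ^ 9)]
  exact congrArg te (Nat.mod_add_div n 512).symm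

end

end MJ

open MJ in
theorem J_T {E : Subgroup M} (h : E ≤ Tm) (h2 : ∀ x ∈ E, x * x = 1) (hc : 512 ≤ Nat.card E) : E = Bm := by
  classical
  have cm : ∀ x ∈ E, ∀ y ∈ E, Commute x y := fun x hx y hy => by
    rw [Commute, SemiconjBy, ← inv_eq_of_mul_eq_one_right (h2 _ (mul_mem hy hx)), mul_inv_rev,
      inv_eq_of_mul_eq_one_right (h2 x hx), inv_eq_of_mul_eq_one_right (h2 y hy)]
  choose! f f1 g g1 g2 using fun x (hx : x ∈ E) => split (h hx)
  have f2 : ∀ x ∈ E, f x ∈ ivL := fun x hx => iv_ok _ (f1 x hx) (by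
    have h3 : g x * tk (f x) * (g x * tk (f x)) = 1 := by rw [← g2 x hx]; exact h2 x hx
    have h4 : tk (f x) * tk (f x) = (g x * (tk (f x) * g x * (tk (f x))⁻¹))⁻¹ * (g x * tk (f x) * (g x * tk (f x))) := by
      group
    rw [h4, h3, mul_one]
    exact inv_mem (mul_mem (g1 x hx) (P_conj_B (T_le_P (te_mem _)) (g1 x hx))))
  refine eq_of_le_of_card_ge (fun x hx => ?_) (card_B.le.trans hc)
  by_contra hB
  have k0 : f x ≠ 0 := fun e => hB (by
    have e' := g2 x hx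
    rw [e] at e'
    exact e' ▸ mul_mem (g1 x hx) (te_mem_B (by norm_num) : tk 0 ∈ Bm))
  have hP : ∀ y ∈ E, Nat.card ↥(E ⊓ Bm) ≤ P (f x) (f y) := fun y hy => by
    have k : ∀ z ∈ E, ∀ n < 512, te n ∈ E → A (f z) n 9 = n := fun z hz n hn e => fix (f1 z hz) hn (by
      have := (B_comm (g1 z hz) (te_mem_B hn)).inv_left.mul_left (cm z hz _ e)
      rwa [(inv_mul_eq_iff_eq_mul.2 (g2 z hz) : (g z)⁻¹ * z = tk (f z))] at this)
    rw [← SetLike.coe_sort_coe, Nat.card_coe_set_eq]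
    refine (Set.ncard_le_ncard (t := ((((CL (f x)).filter fun n => Nat.beq (A (f y) n 9) n).toFinset.image te :
      Finset M) : Set M)) fun b hb => ?_).trans ?_
    · obtain ⟨n, hn, rfl⟩ := exists_B hb.2
      exact Finset.mem_coe.2 (Finset.mem_image_of_mem _ (List.mem_toFinset.2 (List.mem_filter.2
        ⟨CL_ok _ (f2 x hx) k0 n hn (k x hx n hn hb.1), Nat.beq_eq.to_iff.2 (k y hy n hn hb.1)⟩)))
    · rw [Set.ncard_coe_finset]
      exact Finset.card_image_le.trans (List.toFinset_card_le _)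
  have key : ∀ L : List ℕ, (∀ y ∈ E, f y ∈ L) → 512 ≤ Nat.card ↥(E ⊓ Bm) * L.length := fun L hL => by
    refine hc.trans ?_
    rw [← SetLike.coe_sort_coe, Nat.card_coe_set_eq, Set.ncard_eq_toFinset_card]
    refine (Finset.card_le_mul_card_image_of_maps_to (f := f) (t := L.toFinset)
      (fun y hy => List.mem_toFinset.2 (hL y (by simpa using hy))) _ fun k _ => ?_).trans
      (Nat.mul_le_mul_left _ (List.toFinset_card_le L))
    rcases Finset.eq_empty_or_nonempty (Finset.filter (fun a => f a = k) (Set.toFinite (E : Set M)).toFinset) with e | ⟨y, hy⟩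
    · rw [e]; exact Nat.zero_le _
    rw [← SetLike.coe_sort_coe, Nat.card_coe_set_eq, ← Set.ncard_coe_finset]
    simp only [Finset.mem_filter, Set.Finite.mem_toFinset, SetLike.mem_coe] at hy
    refine Set.ncard_le_ncard_of_injOn (· * y⁻¹) (fun z hz => ?_) (mul_left_injective _).injOn
    simp only [Finset.coe_filter, Set.Finite.mem_toFinset, SetLike.mem_coe, Set.mem_ofPred_eq] at hz
    refine SetLike.mem_coe.2 (Subgroup.mem_inf.2 ⟨E.mul_mem hz.1 (E.inv_mem hy.1), ?_⟩)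
    have e : g z * (g y)⁻¹ = z * y⁻¹ := by
      have a1 := g2 z hz.1
      have a2 := g2 y hy.1
      rw [hz.2] at a1
      rw [hy.2] at a2
      calc g z * (g y)⁻¹ = g z * tk k * (g y * tk k)⁻¹ := by group
        _ = z * y⁻¹ := by rw [← a1, ← a2]
    show z * y⁻¹ ∈ Bm
    exact e ▸ Bm.mul_mem (g1 z hz.1) (Bm.inv_mem (g1 y hy.1))
  obtain ⟨p1, p2, p3⟩ := P_ok _ (f2 x hx) k0
  have q1 := (hP x hx).trans p1
  by_cases c1 : 33 ≤ Nat.card ↥(E ⊓ Bm)
  · have := (key (ivL.filter fun l => Nat.ble 33 (P (f x) l)) fun y hy =>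
      List.mem_filter.2 ⟨f2 y hy, Nat.ble_eq.to_iff.2 (c1.trans (hP y hy))⟩).trans
      (Nat.mul_le_mul q1 p3)
    omega
  by_cases c2 : 17 ≤ Nat.card ↥(E ⊓ Bm)
  · have := (key (ivL.filter fun l => Nat.ble 17 (P (f x) l)) fun y hy =>
      List.mem_filter.2 ⟨f2 y hy, Nat.ble_eq.to_iff.2 (c2.trans (hP y hy))⟩).trans
      (Nat.mul_le_mul (show _ ≤ 32 by omega) p2)
    omega
  · have := (key _ f2).trans (Nat.mul_le_mul (show _ ≤ 16 by omega) (show ivL.length ≤ 28 by decide))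
    omega

end CfsgLib.Fi64
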