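import Mathlib
import Cfsg.Agent.Lib.Fi64.MJ

/-! Automorphisms of `Tm` and `Um` (project E64, plans/E64.md). -/

set_option autoImplicit false
set_option maxRecDepth 100000
set_option Elab.async false

namespace CfsgLib.Fi64

open Subgroup Cfsg CfsgLib.W2 CfsgLib.Tech CfsgLib.PComp
open CfsgLib.S86 (E64 SM e1 f1 e2 f2 e3 f3 bf sa tv oc t1)
open CfsgLib.Parr (P0 V0 vc lin mp idM Act Gam Gam0 L0 U0 OK q0 b0 om t0 v0 sg nC Sg Tst)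

namespace MA

section img
variable {X Y : Subgroup M} {σ : M → M}

/-- the image of a subgroup -/
noncomputable def img (h : Aut X σ) (Y : Subgroup M) : Subgroup M := (Y.subgroupOf X).map h.hom

theorem mem_img (h : Aut X σ) (hY : Y ≤ X) {y : M} : y ∈ img h Y ↔ ∃ x ∈ Y, σ x = y :=
  ⟨fun ⟨x, hx, e⟩ => ⟨x, hx, e⟩, fun ⟨x, hx, e⟩ => ⟨⟨x, hY hx⟩, hx, e⟩⟩

theorem card_img (h : Aut X σ) (hY : Y ≤ X) : Nat.card (img h Y) = Nat.card Y := by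
  rw [img, card_map_of_injective fun a b e => Subtype.ext (h.inj _ a.2 _ b.2 e)]
  exact Nat.card_congr (subgroupOfEquivOfLe hY).toEquiv

theorem img_le (h : Aut X σ) (hY : Y ≤ X) : img h Y ≤ X := fun _ hy => by
  obtain ⟨x, hx, rfl⟩ := (mem_img h hY).1 hy
  exact h.mem x (hY hx)

theorem img_sq (h : Aut X σ) (hY : Y ≤ X) (hs : ∀ x ∈ Y, x * x = 1) : ∀ y ∈ img h Y, y * y = 1 := fun _ hy => by
  obtain ⟨x, hx, rfl⟩ := (mem_img h hY).1 hy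
  rw [← h.mul x (hY hx) x (hY hx), hs x hx, h.one]

end img

/-- the commutator -/
noncomputable def cm (x y : M) : M := x * y * (y * x)⁻¹

theorem cm_map {X : Subgroup M} {σ : M → M} (h : Aut X σ) {x y : M} (hx : x ∈ X) (hy : y ∈ X) :
    σ (cm x y) = cm (σ x) (σ y) := by
  rw [cm, h.mul _ (mul_mem hx hy) _ (inv_mem (mul_mem hy hx)), h.inv (mul_mem hy hx), h.mul _ hx _ hy, h.mul _ hy _ hx, cm]

theorem cm_B {b c y : M} (hb : b ∈ Bm) (hc : c ∈ Bm) (hy : y ∈ Pm) : cm b (c * y) = cm b y := by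
  have e1 := (B_comm hb hc).eq
  have k : y * b⁻¹ * y⁻¹ ∈ Bm := P_conj_B hy (inv_mem hb)
  have e2 := (B_comm (mul_mem hb k) hc).eq
  calc cm b (c * y) = (b * c) * (y * b⁻¹ * y⁻¹) * c⁻¹ := by rw [cm]; group
    _ = c * (b * (y * b⁻¹ * y⁻¹)) * c⁻¹ := by rw [e1]; group
    _ = cm b y := by rw [← e2, cm]; group

theorem split_U {x : M} (h : x ∈ Um) : ∃ b ∈ Bm, ∃ k < 8, x = b * te (512 * k) := by
  obtain ⟨n, hn, rfl⟩ := exists_U h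
  refine ⟨te (n % 512), te_mem_B (Nat.mod_lt _ (by norm_num)), n / 512, by omega, ?_⟩
  have := te_add (k := 9) (n := n % 512) (m := n / 512) (by norm_num) (Nat.mod_lt _ (by norm_num))
  rwa [show 2 ^ 9 = 512 from rfl, Nat.mod_add_div] at this

theorem split_T {x : M} (h : x ∈ Tm) : ∃ k < 8, x * (te (4096 * k))⁻¹ ∈ Um := by
  obtain ⟨n, hn, rfl⟩ := exists_T h
  refine ⟨n / 4096, by omega, ?_⟩
  have := te_add (k := 12) (n := n % 4096) (m := n / 4096) (by norm_num) (Nat.mod_lt _ (by norm_num))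
  rw [show 2 ^ 12 = 4096 from rfl, Nat.mod_add_div] at this
  rw [this, mul_inv_cancel_right]
  exact te_mem_U (Nat.mod_lt _ (by norm_num))

theorem split_B {x : M} (h : x ∈ Bm) : ∃ w ∈ Wm, ∃ k < 64, x = w * te (8 * k) := by
  obtain ⟨n, hn, rfl⟩ := exists_B h
  refine ⟨te (n % 8), te_mem_W (Nat.mod_lt _ (by norm_num)), n / 8, by omega, ?_⟩
  have := te_add (k := 3) (n := n % 8) (m := n / 8) (by norm_num) (Nat.mod_lt _ (by norm_num))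
  rwa [show 2 ^ 3 = 8 from rfl, Nat.mod_add_div] at this

theorem cm_mem0 : ∀ k < 8, ∀ n < 64, cm (te (8 * n)) (te (512 * k)) ∈ Wm := by decide +kernel

theorem cm_onto0 : ∀ k < 8, k ≠ 0 → ∀ m < 8, ∃ n < 64, cm (te (8 * n)) (te (512 * k)) = te m := by decide +kernel

theorem cm_mem {b u : M} (hb : b ∈ Bm) (hu : u ∈ Um) : cm b u ∈ Wm := by
  obtain ⟨c, hc, k, hk, rfl⟩ := split_U hu
  obtain ⟨w, hw, n, hn, rfl⟩ := split_B hb
  have h2 : Commute (te (512 * k)) w := mem_U_iff.1 (te_mem_U (by omega)) w hw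
  have e : cm (w * te (8 * n)) (te (512 * k)) = w * cm (te (8 * n)) (te (512 * k)) * w⁻¹ := by
    rw [cm, cm, ← mul_assoc (te (512 * k)) w, h2.eq]
    group
  rw [cm_B hb hc (T_le_P (te_mem _)), e]
  exact mul_mem (mul_mem hw (cm_mem0 k hk n hn)) (inv_mem hw)

theorem cm_onto {u w : M} (hu : u ∈ Um) (hb : u ∉ Bm) (hw : w ∈ Wm) : ∃ b ∈ Bm, cm b u = w := by
  obtain ⟨c, hc, k, hk, rfl⟩ := split_U hu
  obtain ⟨m, hm, rfl⟩ := exists_W hw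
  have h0 : k ≠ 0 := by
    rintro rfl
    exact hb (mul_mem hc (te_mem_B (by norm_num)))
  obtain ⟨n, hn, e⟩ := cm_onto0 k hk h0 m hm
  have hB : te (8 * n) ∈ Bm := te_mem_B (by omega)
  exact ⟨_, hB, by rw [cm_B hB hc (T_le_P (te_mem _)), e]⟩

theorem R_mul {x y a b : M} (ha : a ∈ Pm) (h1 : x * a⁻¹ ∈ Um) (h2 : y * b⁻¹ ∈ Um) : x * y * (a * b)⁻¹ ∈ Um := by
  have e : x * y * (a * b)⁻¹ = x * a⁻¹ * (a * (y * b⁻¹) * a⁻¹) := by group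
  rw [e]
  exact mul_mem h1 (P_conj_U ha h2)

theorem cm_sq0 : ∀ k < 8, ∀ m < 8, cm (te (4096 * k) * te (4096 * k)) (te (4096 * m)) ∈ Um := by decide +kernel

theorem cm_sq {x y : M} (hx : x ∈ Tm) (hy : y ∈ Tm) : cm (x * x) y ∈ Um := by
  obtain ⟨k, hk, h1⟩ := split_T hx
  obtain ⟨m, hm, h2⟩ := split_T hy
  have ha := T_le_P (te_mem (4096 * k))
  have hb := T_le_P (te_mem (4096 * m))
  have h0 := cm_sq0 k hk m hm
  generalize te (4096 * k) = a at *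
  generalize te (4096 * m) = b at *
  have h3 := R_mul ha h1 h1
  have h4 := R_mul (mul_mem ha ha) h3 h2
  have h5 := R_mul hb h2 h3
  have e : cm (x * x) y = x * x * y * (a * a * b)⁻¹ * cm (a * a) b * (y * (x * x) * (b * (a * a))⁻¹)⁻¹ := by
    rw [cm, cm]; group
  rw [e]
  exact mul_mem (mul_mem h4 h0) (inv_mem h5)

theorem u0 : cm (te 20480 * te 20480) (te 512) ∉ Bm := by decide +kernel

/-- generators of `Ab` and `A1` modulo `Wm` -/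
noncomputable def gx (a b c i : ℕ) : M := [te (8 * a) * te 512, te (8 * b) * te 1024, te (8 * c) * te 2048].getD i 1

theorem tri0 : ∀ a < 64, gx a 0 0 0 * gx a 0 0 0 = 1 → ∀ b < 64, gx 0 b 0 1 * gx 0 b 0 1 = 1 →
    gx a 0 0 0 * gx 0 b 0 1 * (gx a 0 0 0 * gx 0 b 0 1) = 1 → ∀ c < 64, gx 0 0 c 2 * gx 0 0 c 2 = 1 →
    gx a 0 0 0 * gx 0 0 c 2 * (gx a 0 0 0 * gx 0 0 c 2) = 1 → gx 0 b 0 1 * gx 0 0 c 2 * (gx 0 b 0 1 * gx 0 0 c 2) = 1 →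
    (a = 0 ∧ b = 0 ∧ c = 0) ∨ (a = 32 ∧ b = 16 ∧ c = 8) := by decide +kernel

theorem gen0 : ∀ v : E64, ∃ k < 8, tr v * (pe (gx 0 0 0) 3 k)⁻¹ ∈ Wm := by decide +kernel
theorem gen1 : ∀ v : E64, ∃ k < 8, (⟨v, gA v⟩ : M) * (pe (gx 32 16 8) 3 k)⁻¹ ∈ Wm := by decide +kernel
theorem cov0 : ∀ k < 8, te (512 * k) * (pe (gx 0 0 0) 3 k)⁻¹ ∈ Bm ∧ pe (gx 0 0 0) 3 k ∈ Ab := by decide +kernel
theorem cov1 : ∀ k < 8, te (512 * k) * (pe (gx 32 16 8) 3 k)⁻¹ ∈ Bm ∧ pe (gx 32 16 8) 3 k ∈ A1 := by decide +kernel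
theorem sq1 : ∀ v : E64, (⟨v, gA v⟩ : M) * ⟨v, gA v⟩ = 1 := by decide +kernel
theorem a0_mem : a0 ∈ Ab ∧ a0 ∉ A1 := by decide +kernel

theorem eq_A1 {x : M} (h : x ∈ A1) : x = ⟨x.a, gA x.a⟩ := M.ext rfl h

theorem le_of {X : Subgroup M} (hW : Wm ≤ X) {a b c : ℕ} (h : ∀ i < 3, gx a b c i ∈ X) {y : M}
    (hy : ∃ k < 8, y * (pe (gx a b c) 3 k)⁻¹ ∈ Wm) : y ∈ X := by
  obtain ⟨k, -, hk⟩ := hy
  have := mul_mem (hW hk) (pe_mem k 3 h)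
  rwa [inv_mul_cancel_right] at this

end MA

open MA

theorem aut_B {X : Subgroup M} (h1 : Bm ≤ X) (h2 : X ≤ Tm) {σ : M → M} (h : Aut X σ) {x : M} (hx : x ∈ X) : σ x ∈ Bm ↔ x ∈ Bm := by
  have e : img h Bm = Bm := J_T ((img_le h h1).trans h2) (img_sq h h1 fun _ => B_sq) (by rw [card_img h h1, card_B])
  refine ⟨fun hb => ?_, fun hb => e ▸ (mem_img h h1).2 ⟨x, hb, rfl⟩⟩
  obtain ⟨y, hy, e'⟩ := (mem_img h h1).1 (e.symm ▸ hb)
  exact h.inj y (h1 hy) x hx e' ▸ hy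

theorem aut_T {σ : M → M} (h : Aut Tm σ) : ∀ x ∈ Um, σ x ∈ Um := by
  have hBT : Bm ≤ Tm := B_le_U.trans U_le_T
  have hs := mul_mem (te_mem 20480) (te_mem 20480)
  have hu := cm_sq (te_mem 20480) (te_mem 512)
  have hu' : σ (cm (te 20480 * te 20480) (te 512)) ∈ Um := by
    rw [cm_map h hs (te_mem _), h.mul _ (te_mem _) _ (te_mem _)]
    exact cm_sq (h.mem _ (te_mem _)) (h.mem _ (te_mem _))
  have hb := u0
  generalize cm (te 20480 * te 20480) (te 512) = u at hu hu' hb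
  have hb' : σ u ∉ Bm := fun k => hb ((aut_B hBT le_rfl h (U_le_T hu)).1 k)
  intro x hx
  refine mem_U_iff.2 fun w hw => ?_
  obtain ⟨b', hb1, rfl⟩ := cm_onto hu' hb' hw
  obtain ⟨b, hbT, rfl⟩ := h.surj (hBT hb1)
  have hb2 : b ∈ Bm := (aut_B hBT le_rfl h hbT).1 hb1
  have k := cm_mem hb2 hu
  rw [← cm_map h hbT (U_le_T hu), h.comm (U_le_T hx) (hBT (W_le_B k))]
  exact mem_U_iff.1 hx _ k

theorem MA.aut_W {σ : M → M} (h : Aut Um σ) : ∀ x ∈ Wm, σ x ∈ Wm := fun x hx => cent_U fun u hu => by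
  obtain ⟨y, hy, rfl⟩ := h.surj hu
  exact (h.comm (B_le_U (W_le_B hx)) hy).2 (mem_U_iff.1 hy x hx).symm

theorem MA.key {σ : M → M} (h : Aut Um σ) {Y : Subgroup M} (hY : Y ≤ Um) (hW : Wm ≤ Y) (hs : ∀ x ∈ Y, x * x = 1)
    (hB : ∀ k < 8, ∃ y ∈ Y, te (512 * k) * y⁻¹ ∈ Bm) (hc : Nat.card Y = 64) : img h Y = Ab ∨ img h Y = A1 := by
  have hWU : Wm ≤ Um := W_le_B.trans B_le_U
  have eW : img h Wm = Wm := eq_of_le_of_card_ge
    (fun y hy => by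
      obtain ⟨x, hx, rfl⟩ := (mem_img h hWU).1 hy
      exact aut_W h x hx) (card_img h hWU).ge
  have hWX : Wm ≤ img h Y := fun w hw => by
    obtain ⟨x, hx, rfl⟩ := (mem_img h hWU).1 (eW.symm ▸ hw)
    exact (mem_img h hY).2 ⟨x, hW hx, rfl⟩
  have k : ∀ t ∈ Um, ∃ n < 64, te (8 * n) * t ∈ img h Y := fun t ht => by
    obtain ⟨u, hu, rfl⟩ := h.surj ht
    obtain ⟨b, hb, k, hk, rfl⟩ := split_U hu
    obtain ⟨y, hy, hy'⟩ := hB k hk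
    have hc := mul_mem hb hy'
    have e : b * te (512 * k) = b * (te (512 * k) * y⁻¹) * y := by group
    rw [e]
    generalize b * (te (512 * k) * y⁻¹) = c at hc
    obtain ⟨w, hw, n, hn, e'⟩ := split_B (inv_mem ((aut_B B_le_U U_le_T h (B_le_U hc)).2 hc))
    refine ⟨n, hn, ?_⟩
    have e2 : te (8 * n) * σ (c * y) = w⁻¹ * σ y := by
      rw [h.mul _ (B_le_U hc) _ (hY hy), eq_inv_mul_iff_mul_eq, ← mul_assoc, ← e', inv_mul_cancel_left]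
    rw [e2]
    exact mul_mem (inv_mem (hWX hw)) ((mem_img h hY).2 ⟨y, hy, rfl⟩)
  obtain ⟨a, ha, h1⟩ := k _ (te_mem_U (n := 512) (by norm_num))
  obtain ⟨b, hb, h2⟩ := k _ (te_mem_U (n := 1024) (by norm_num))
  obtain ⟨c, hc', h3⟩ := k _ (te_mem_U (n := 2048) (by norm_num))
  have q := img_sq h hY hs
  have hg : ∀ i < 3, gx a b c i ∈ img h Y := fun i hi => by
    interval_cases i
    exacts [h1, h2, h3]
  have hcX : Nat.card (img h Y) = 64 := by rw [card_img h hY, hc]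
  rcases tri0 a ha (q _ h1) b hb (q _ h2) (q _ (mul_mem h1 h2)) c hc' (q _ h3) (q _ (mul_mem h1 h3))
    (q _ (mul_mem h2 h3)) with ⟨rfl, rfl, rfl⟩ | ⟨rfl, rfl, rfl⟩
  · refine Or.inl (eq_of_le_of_card_ge (fun y hy => ?_) (by rw [hcX, card_Ab])).symm
    obtain ⟨v, rfl⟩ := mem_Ab.1 hy
    exact le_of hWX hg (gen0 v)
  · refine Or.inr (eq_of_le_of_card_ge (fun y hy => ?_) (by rw [hcX, card_A1])).symm
    rw [eq_A1 hy]
    exact le_of hWX hg (gen1 _)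

theorem aut_U {σ : M → M} (h : Aut Um σ) : (∀ x ∈ Bm, σ x ∈ Bm) ∧ (∀ x ∈ Wm, σ x ∈ Wm) ∧
    (((∀ x ∈ Ab, σ x ∈ Ab) ∧ ∀ x ∈ A1, σ x ∈ A1) ∨ ((∀ x ∈ Ab, σ x ∈ A1) ∧ ∀ x ∈ A1, σ x ∈ Ab)) := by
  refine ⟨fun x hx => (aut_B B_le_U U_le_T h (B_le_U hx)).2 hx, aut_W h, ?_⟩
  have k0 := key h Ab_le_U W_le_Ab (fun x hx => by
    obtain ⟨v, rfl⟩ := mem_Ab.1 hx
    rw [← tr_mul, S86.E_sq]; rfl) (fun k hk => ⟨_, (cov0 k hk).2, (cov0 k hk).1⟩) card_Ab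
  have k1 := key h A1_le_U W_le_A1 (fun x hx => by rw [eq_A1 hx]; exact sq1 _)
    (fun k hk => ⟨_, (cov1 k hk).2, (cov1 k hk).1⟩) card_A1
  have m0 : ∀ x ∈ Ab, σ x ∈ img h Ab := fun x hx => (mem_img h Ab_le_U).2 ⟨x, hx, rfl⟩
  have m1 : ∀ x ∈ A1, σ x ∈ img h A1 := fun x hx => (mem_img h A1_le_U).2 ⟨x, hx, rfl⟩
  have ne : img h Ab ≠ img h A1 := fun e => by
    obtain ⟨y, hy, e'⟩ := (mem_img h A1_le_U).1 (e ▸ m0 _ a0_mem.1)
    exact a0_mem.2 (h.inj y (A1_le_U hy) _ (Ab_le_U a0_mem.1) e' ▸ hy)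
  rcases k0 with e0 | e0 <;> rcases k1 with e1 | e1
  · exact absurd (e0.trans e1.symm) ne
  · exact Or.inl ⟨fun x hx => e0 ▸ m0 x hx, fun x hx => e1 ▸ m1 x hx⟩
  · exact Or.inr ⟨fun x hx => e0 ▸ m0 x hx, fun x hx => e1 ▸ m1 x hx⟩
  · exact absurd (e0.trans e1.symm) ne

end CfsgLib.Fi64
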