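import Mathlib
import Cfsg.Agent.Lib.Fi64.MT

/-! Normal form of the outer automorphisms of `Pm` (project E64, plans/E64.md). -/

set_option autoImplicit false
set_option maxRecDepth 100000
set_option Elab.async false

namespace CfsgLib.Fi64

open Subgroup Cfsg CfsgLib.W2 CfsgLib.Tech CfsgLib.PComp
open CfsgLib.S86 (E64 SM e1 f1 e2 f2 e3 f3 bf sa tv oc t1)
open CfsgLib.Parr (P0 V0 vc lin mp idM Act Gam Gam0 L0 U0 OK q0 b0 om t0 v0 sg nC Sg Tst)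

noncomputable section

/-- the hypotheses of `nrm` -/
structure NH (α : M → M) : Prop where
  aut : Aut Pm α
  hU : ∀ x ∈ Um, α x ∈ Um
  hB : ∀ x ∈ Bm, α x ∈ Bm
  hW : ∀ x ∈ Wm, α x ∈ Wm
  hA : ∀ x ∈ Ab, α x ∈ A1

/-- the elements normalizing `A1` -/
abbrev mnN : Subgroup M := subOf (fun p => ∀ x ∈ A1, p * x * p⁻¹ ∈ A1)
  (fun x hx => by rwa [one_mul, inv_one, mul_one]) fun a b ha hb x hx => by
    rw [show a * b * x * (a * b)⁻¹ = a * (b * x * b⁻¹) * a⁻¹ by group]; exact ha _ (hb x hx)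

theorem NH.conj {α : M → M} (h : NH α) {p : M} (hp : p ∈ Pm) (hn : p ∈ mnN) : NH fun x => p * α x * p⁻¹ where
  aut := ⟨fun x hx => mul_mem (mul_mem hp (h.aut.mem x hx)) (inv_mem hp),
    fun x hx y hy => by rw [h.aut.mul x hx y hy]; group,
    fun x hx y hy e => h.aut.inj x hx y hy (mul_left_cancel (mul_right_cancel e))⟩
  hU := fun x hx => P_conj_U hp (h.hU x hx)
  hB := fun x hx => P_conj_B hp (h.hB x hx)
  hW := fun x hx => P_conj_W hp (h.hW x hx)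
  hA := fun x hx => hn _ (h.hA x hx)

def mnY (j : ℕ) : M := [⟨f1, w23⟩, ⟨f2, w13⟩, ⟨f3, w12⟩].getD j 1

theorem mn_A1 : ∀ v : E64, ∃ m < 8, (⟨v, gA v⟩ : M) * (pe mnY 3 m)⁻¹ ∈ Wm := by decide +kernel

theorem mn_N {p : M} (hp : p ∈ Pm) (h : ∀ j < 3, p * mnY j * p⁻¹ ∈ A1) : p ∈ mnN := by
  intro x hx
  obtain ⟨m, -, hm⟩ := mn_A1 x.a
  have e : (⟨x.a, gA x.a⟩ : M) = x := M.ext rfl (show x.l = gA x.a from hx).symm
  rw [e] at hm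
  have k : p * pe mnY 3 m * p⁻¹ ∈ A1 :=
    pe_ind (R := fun a (_ : M) => p * a * p⁻¹ ∈ A1) (G' := mnY) (by rw [mul_one, mul_inv_cancel]; exact one_mem _)
      (fun a _ c _ ha hc => by
        rw [show p * (a * c) * p⁻¹ = p * a * p⁻¹ * (p * c * p⁻¹) by group]; exact mul_mem ha hc) m 3 h
  rw [show p * x * p⁻¹ = p * (x * (pe mnY 3 m)⁻¹) * p⁻¹ * (p * pe mnY 3 m * p⁻¹) by group]
  exact mul_mem (W_le_A1 (P_conj_W hp hm)) k

theorem mn_te (n : ℕ) : te n ∈ mnN :=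
  pe_mem n 15 fun i hi => mn_N (T_le_P (tg_mem i hi))
    ((by decide +kernel : ∀ i < 15, ∀ j < 3, tg i * mnY j * (tg i)⁻¹ ∈ A1) i hi)

/-- the check for the Levi element -/
def mnC (w1 w2 w3 : E64) (p : M) : Prop :=
  p * tr w1 * p⁻¹ = tr e1 ∧ p * tr w2 * p⁻¹ = tr e2 ∧ p * tr w3 * p⁻¹ = tr e3 ∧ p ∈ Pm ∧ ∀ j < 3, p * mnY j * p⁻¹ ∈ A1

instance (w1 w2 w3 : E64) (p : M) : Decidable (mnC w1 w2 w3 p) := by unfold mnC; infer_instance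

theorem mn_s1 : ∀ w1 : E64, inW w1 → w1 ≠ 1 → ∀ w2 : E64, inW w2 → w2 ≠ 1 → w1 ≠ w2 → ∀ w3 : E64, inW w3 → w3 ≠ 1 →
    w1 ≠ w3 → w2 ≠ w3 → w1 * w2 ≠ w3 →
    ∃ y1 : E64, (bf w1 y1 = true ∧ bf w2 y1 = false ∧ bf w3 y1 = false) ∧
    ∃ y2 : E64, (bf w2 y2 = true ∧ bf w1 y2 = false ∧ bf w3 y2 = false ∧ bf y1 y2 = false) ∧
    ∃ y3 : E64, (bf w3 y3 = true ∧ bf w1 y3 = false ∧ bf w2 y3 = false ∧ bf y1 y3 = false ∧ bf y2 y3 = false) ∧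
      mnC w1 w2 w3 (sy (S86.mk w1 y1 w2 y2 w3 y3)⁻¹) := by decide +kernel

theorem mn_c7 : ∀ n < 4096, te n * g7 = g7 * te n → n = 0 := by decide +kernel

theorem mn_cU {u : M} (hu : u ∈ Um) (h : u * g7 = g7 * u) : u = 1 := by
  obtain ⟨n, hn, rfl⟩ := exists_U hu
  rw [mn_c7 n hn h]; rfl

def mnE (G : ℕ → M) (w : List ℕ) : M := w.foldr (fun i y => G i * y) 1
def mnG (a b c : M) (i : ℕ) : M := [g7, g3, a, b, c, tr e1, tr e2, tr e3].getD i 1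
def mnW (i : ℕ) : List ℕ := [[5], [6], [7], [3], [0, 3, 0, 0, 0, 0, 0, 0], [0, 0, 3, 0, 0, 0, 0, 0],
  [3, 0, 3, 0, 0, 3, 0, 0, 0, 0], [3, 0, 0, 3, 0, 0, 0, 0, 3, 0], [0, 3, 0, 3, 0, 0, 3, 0, 0, 0], [2],
  [0, 0, 0, 0, 0, 2, 0, 0], [0, 0, 0, 0, 0, 0, 2, 0], [1, 0, 0, 0, 4, 1, 0], [0, 0, 0, 4, 1, 0, 1], [4]].getD i []

theorem mn_s4 : ∀ v : E64, g3 * ⟨v, gA v⟩ = ⟨v, gA v⟩ * g3 → (⟨v, gA v⟩ : M) ≠ 1 →
    mnE (mnG ⟨v, gA v⟩ 1 1) [2, 0, 2, 0, 0, 0, 0, 2, 0, 0] = 1 → (⟨v, gA v⟩ : M) = te 769 := by decide +kernel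

theorem mn_s5 : ∀ n < 512, g3 * te n = te n * g3 →
    mnE (mnG (te 769) (te n) 1) [0, 2, 0, 0, 0, 0, 0, 0, 3] = mnE (mnG (te 769) (te n) 1) [5, 3, 0, 2, 0, 0, 0, 0, 0, 0] →
    ∃ ε < 2, te n = te (8 + ε) := by decide +kernel

theorem mn_s6 : ∀ n < 4096, l23 * te n * g3 * (l23 * te n * g3) = 1 → l23 * te n * (l23 * te n) = 1 →
    l23 * te n * te 769 = te 769 * (l23 * te n) → ∀ ε < 2, l23 * te n * te (8 + ε) = te (8 + ε) * (l23 * te n) →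
    mnE (mnG (te 769) 1 (l23 * te n)) [4, 0, 0, 0, 0, 0, 2, 0, 0] =
      mnE (mnG (te 769) 1 (l23 * te n)) [0, 0, 0, 2, 0, 0, 0, 0, 4] →
    ∃ η < 2, l23 * te n = te (16640 + η) := by decide +kernel

theorem mn_s7 : (∀ i < 15, mnE (mnG a0 d l23) (mnW i) = tg i) ∧
    ∀ ε < 2, ∀ η < 2, ∀ i < 15, mnE (mnG (te 769) (te (8 + ε)) (te (16640 + η))) (mnW i) = bg ε η i := by
  decide +kernel

theorem mn_mem : ∀ i < 8, mnG a0 d l23 i ∈ Pm := by decide +kernel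

theorem mn_mem' (i : ℕ) : mnG a0 d l23 i ∈ Pm := by
  rcases lt_or_ge i 8 with h | h
  · exact mn_mem i h
  · rw [mnG, List.getD_eq_default _ _ (by simpa using h)]; exact one_mem _

namespace NH

variable {α : M → M} (h : NH α)
include h

theorem step1 : ∃ p ∈ Pm, p ∈ mnN ∧ p * α (tr e1) * p⁻¹ = tr e1 ∧ p * α (tr e2) * p⁻¹ = tr e2 ∧
    p * α (tr e3) * p⁻¹ = tr e3 := by
  have m1 : tr e1 ∈ Pm := mn_mem 5 (by decide)
  have m2 : tr e2 ∈ Pm := mn_mem 6 (by decide)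
  have m3 : tr e3 ∈ Pm := mn_mem 7 (by decide)
  have k : ∀ v, tr v ∈ Wm → ∃ w, inW w ∧ α (tr v) = tr w := fun v hv =>
    ⟨_, (h.hW _ hv).2, M.ext rfl (h.hW _ hv).1⟩
  obtain ⟨w1, i1, a1⟩ := k e1 (by decide +kernel)
  obtain ⟨w2, i2, a2⟩ := k e2 (by decide +kernel)
  obtain ⟨w3, i3, a3⟩ := k e3 (by decide +kernel)
  have o : α 1 = tr 1 := h.aut.one
  have ne : ∀ {x y : M} {u v : E64}, x ∈ Pm → y ∈ Pm → α x = tr u → α y = tr v → x ≠ y → u ≠ v :=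
    fun hx hy a b n e => n (h.aut.inj _ hx _ hy (by rw [a, b, e]))
  obtain ⟨y1, -, y2, -, y3, -, c1, c2, c3, c4, c5⟩ := mn_s1 w1 i1 (ne m1 (one_mem _) a1 o (by decide +kernel))
    w2 i2 (ne m2 (one_mem _) a2 o (by decide +kernel)) (ne m1 m2 a1 a2 (by decide +kernel))
    w3 i3 (ne m3 (one_mem _) a3 o (by decide +kernel)) (ne m1 m3 a1 a3 (by decide +kernel))
    (ne m2 m3 a2 a3 (by decide +kernel))
    (ne (mul_mem m1 m2) m3 (by rw [h.aut.mul _ m1 _ m2, a1, a2, tr_mul]) a3 (by decide +kernel))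
  exact ⟨_, c4, mn_N c4 c5, by rw [a1, c1], by rw [a2, c2], by rw [a3, c3]⟩

variable (h1 : α (tr e1) = tr e1) (h2 : α (tr e2) = tr e2) (h3 : α (tr e3) = tr e3)
include h1 h2 h3

theorem fixW {w : M} (hw : w ∈ Wm) : α w = w := by
  obtain ⟨n, hn, rfl⟩ := exists_W hw
  rw [(by decide +kernel : ∀ n < 8, te n = pe tg 3 n) n hn]
  refine (pe_ind (R := fun a b => a ∈ Pm ∧ α a = b) (G := tg) (G' := tg) ⟨one_mem _, h.aut.one⟩
    (fun a b c e x y => ⟨mul_mem x.1 y.1, by rw [h.aut.mul _ x.1 _ y.1, x.2, y.2]⟩) n 3 fun i hi => ?_).2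
  refine ⟨T_le_P (tg_mem i (by omega)), ?_⟩
  interval_cases i
  exacts [h1, h2, h3]

theorem modU {x : M} (hx : x ∈ Pm) : x⁻¹ * α x ∈ Um := by
  refine mem_U_iff.2 fun w hw => ?_
  have e := h.aut.conj hx (T_le_P (U_le_T (B_le_U (W_le_B hw))))
  rw [h.fixW h1 h2 h3 (P_conj_W hx hw), h.fixW h1 h2 h3 hw] at e
  calc x⁻¹ * α x * w = x⁻¹ * (α x * w * (α x)⁻¹) * α x := by group
    _ = w * (x⁻¹ * α x) := by rw [← e]; group

theorem step2 : ∃ u ∈ Um, u * α g7 * u⁻¹ = g7 := by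
  have m7 : g7 ∈ Pm := mn_mem 0 (by decide)
  let φ : Um → Um := fun u => ⟨g7⁻¹ * (u : M)⁻¹ * g7⁻¹⁻¹ * u, mul_mem (P_conj_U (inv_mem m7) (inv_mem u.2)) u.2⟩
  have hi : Function.Injective φ := fun u v e => by
    have e' : g7⁻¹ * (u : M)⁻¹ * g7⁻¹⁻¹ * u = g7⁻¹ * (v : M)⁻¹ * g7⁻¹⁻¹ * v := congrArg Subtype.val e
    have := mn_cU (mul_mem v.2 (inv_mem u.2)) (by
      calc (v : M) * (u : M)⁻¹ * g7 = v * g7 * (g7⁻¹ * (u : M)⁻¹ * g7⁻¹⁻¹ * u) * (u : M)⁻¹ := by group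
        _ = g7 * ((v : M) * (u : M)⁻¹) := by rw [e']; group)
    exact Subtype.ext (mul_inv_eq_one.1 this).symm
  obtain ⟨u, hu⟩ := Finite.injective_iff_surjective.1 hi ⟨_, h.modU h1 h2 h3 m7⟩
  have e : g7⁻¹ * (u : M)⁻¹ * g7⁻¹⁻¹ * u = g7⁻¹ * α g7 := congrArg Subtype.val hu
  refine ⟨u, u.2, ?_⟩
  calc (u : M) * α g7 * (u : M)⁻¹ = u * g7 * (g7⁻¹ * α g7) * (u : M)⁻¹ := by group
    _ = g7 := by rw [← e]; group

theorem fin (h7 : α g7 = g7) : ∃ ε < 2, ∃ η < 2, ∀ i < 15, α (tg i) = bg ε η i := by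
  have m7 : g7 ∈ Pm := mn_mem 0 (by decide)
  have m3 : g3 ∈ Pm := mn_mem 1 (by decide)
  have ml : l23 ∈ Pm := mn_mem 4 (by decide)
  have a3 : α g3 = g3 := by
    have r : g3 * g7 * g3⁻¹ = g7 * g7 := by decide +kernel
    have e := h.aut.conj m3 m7
    rw [r, h.aut.mul _ m7 _ m7, h7, ← r] at e
    have := mn_cU (h.modU h1 h2 h3 m3) (by
      calc g3⁻¹ * α g3 * g7 = g3⁻¹ * (α g3 * g7 * (α g3)⁻¹) * α g3 := by group
        _ = g7 * (g3⁻¹ * α g3) := by rw [← e]; group)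
    exact (inv_mul_eq_one.1 this).symm
  have hG : ∀ i, α (mnG a0 d l23 i) = mnG (α a0) (α d) (α l23) i := fun i =>
    match i with
    | 0 => h7 | 1 => a3 | 2 => rfl | 3 => rfl | 4 => rfl | 5 => h1 | 6 => h2 | 7 => h3
    | _ + 8 => h.aut.one
  have key : ∀ w, mnE (mnG a0 d l23) w ∈ Pm ∧ α (mnE (mnG a0 d l23) w) = mnE (mnG (α a0) (α d) (α l23)) w := fun w => by
    induction w with
    | nil => exact ⟨one_mem _, h.aut.one⟩
    | cons i w ih =>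
      exact ⟨mul_mem (mn_mem' i) ih.1, (h.aut.mul _ (mn_mem' i) _ ih.1).trans (by rw [hG, ih.2]; rfl)⟩
  have rel : ∀ w w', mnE (mnG a0 d l23) w = mnE (mnG a0 d l23) w' →
      mnE (mnG (α a0) (α d) (α l23)) w = mnE (mnG (α a0) (α d) (α l23)) w' := fun w w' e => by
    rw [← (key w).2, e, (key w').2]
  have r2 : ∀ i j k l, mnG a0 d l23 i * mnG a0 d l23 j = mnG a0 d l23 k * mnG a0 d l23 l →
      mnG (α a0) (α d) (α l23) i * mnG (α a0) (α d) (α l23) j =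
        mnG (α a0) (α d) (α l23) k * mnG (α a0) (α d) (α l23) l := fun i j k l e => by
    rw [← hG, ← hG, ← hG, ← hG, ← h.aut.mul _ (mn_mem' i) _ (mn_mem' j), e, h.aut.mul _ (mn_mem' k) _ (mn_mem' l)]
  have ay : α a0 = te 769 := by
    have hA := h.hA a0 rfl
    have e : (⟨(α a0).a, gA (α a0).a⟩ : M) = α a0 := M.ext rfl (show (α a0).l = _ from hA).symm
    have := mn_s4 (α a0).a
    rw [e] at this
    refine this (r2 1 2 2 1 (by decide +kernel)) (fun e => ?_) (rel [2, 0, 2, 0, 0, 0, 0, 2, 0, 0] [] (by decide +kernel))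
    exact (by decide +kernel : a0 ≠ 1) (h.aut.inj _ (mn_mem 2 (by decide)) _ (one_mem _) (e.trans h.aut.one.symm))
  obtain ⟨ε, hε, ad⟩ : ∃ ε < 2, α d = te (8 + ε) := by
    obtain ⟨n, hn, e⟩ := exists_B (h.hB d (by decide +kernel))
    have := mn_s5 n hn
    rw [e, ← ay] at this
    exact this (r2 1 3 3 1 (by decide +kernel))
      (rel [0, 2, 0, 0, 0, 0, 0, 0, 3] [5, 3, 0, 2, 0, 0, 0, 0, 0, 0] (by decide +kernel))
  obtain ⟨η, hη, al⟩ : ∃ η < 2, α l23 = te (16640 + η) := by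
    obtain ⟨n, hn, e⟩ := exists_U (h.modU h1 h2 h3 ml)
    have e' : l23 * te n = α l23 := by rw [e, mul_inv_cancel_left]
    have := mn_s6 n hn
    rw [e', ← ay] at this
    refine this ?_ (r2 4 4 8 8 (by decide +kernel) |>.trans (one_mul _)) (r2 4 2 2 4 (by decide +kernel)) ε hε
      (by rw [← ad]; exact r2 4 3 3 4 (by decide +kernel))
      (rel [4, 0, 0, 0, 0, 0, 2, 0, 0] [0, 0, 0, 2, 0, 0, 0, 0, 4] (by decide +kernel))
    rw [← a3, ← h.aut.mul _ ml _ m3, ← h.aut.mul _ (mul_mem ml m3) _ (mul_mem ml m3),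
      (by decide +kernel : l23 * g3 * (l23 * g3) = 1), h.aut.one]
  refine ⟨ε, hε, η, hη, fun i hi => ?_⟩
  rw [← mn_s7.1 i hi, (key _).2, ay, ad, al, mn_s7.2 ε hε η hη i hi]

end NH

end

theorem nrm {α : M → M} (h : Aut Pm α) (hU : ∀ x ∈ Um, α x ∈ Um) (hB : ∀ x ∈ Bm, α x ∈ Bm) (hW : ∀ x ∈ Wm, α x ∈ Wm)
    (hA : ∀ x ∈ Ab, α x ∈ A1) : ∃ p ∈ Pm, ∃ ε < 2, ∃ η < 2, ∀ i < 15, p * α (tg i) * p⁻¹ = bg ε η i := by
  have H : NH α := ⟨h, hU, hB, hW, hA⟩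
  obtain ⟨p, hp, hn, a1, a2, a3⟩ := H.step1
  have H1 := H.conj hp hn
  obtain ⟨u, hu, e⟩ := H1.step2 a1 a2 a3
  have hu' : u ∈ Pm := T_le_P (U_le_T hu)
  have un : u ∈ mnN := by
    obtain ⟨n, -, rfl⟩ := exists_U hu
    exact mn_te n
  have H2 := H1.conj hu' un
  have c : ∀ w ∈ Wm, u * w * u⁻¹ = w := fun w hw => by
    rw [(mem_U_iff.1 hu w hw).eq, mul_inv_cancel_right]
  obtain ⟨ε, hε, η, hη, k⟩ := H2.fin (by rw [a1]; exact c _ (by decide +kernel))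
    (by rw [a2]; exact c _ (by decide +kernel)) (by rw [a3]; exact c _ (by decide +kernel)) e
  refine ⟨u * p, mul_mem hu' hp, ε, hε, η, hη, fun i hi => ?_⟩
  rw [← k i hi]
  group

end CfsgLib.Fi64
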