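import Mathlib
import Cfsg.Agent.Lib.Fi64.Api
import Cfsg.Agent.Lib.Fi64.MA
import Cfsg.Agent.Lib.Fi64.MN

/-! The outer automorphism of `T` (project E64, plans/E64.md). -/

set_option autoImplicit false
set_option maxRecDepth 100000
set_option Elab.async false

namespace CfsgLib.Fi64

open Subgroup Cfsg CfsgLib.W2 CfsgLib.Tech CfsgLib.PComp
open CfsgLib.S86 (E64 SM e1 f1 e2 f2 e3 f3 bf sa tv oc t1)
open CfsgLib.Parr (P0 V0 vc lin mp idM Act Gam Gam0 L0 U0 OK q0 b0 om t0 v0 sg nC Sg Tst)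

variable {G : Type*} [Group G] [Finite G]

namespace Sit

variable {A : Subgroup G} {π : G → M} {j : M → G} (S : Sit A π j)
include S

theorem b1_maps {X0 X Y : Subgroup M} (h0 : X0 ≤ Tm) (hX : X ≤ X0) {r : G} (hr : r ∈ Nm (J j X0))
    (h : ∀ x ∈ X, π (r * j x * r⁻¹) ∈ Y) : ∀ g ∈ J j X, r * g * r⁻¹ ∈ J j Y := fun g hg => by
  obtain ⟨x, hx, -, rfl⟩ := S.mem_J.1 hg
  obtain ⟨a, e⟩ := S.aut h0 hr
  exact S.mem_J.2 ⟨_, h x hx, h0 (a.mem x (hX hx)), e x (hX hx)⟩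

theorem b1_sw {s : G} (h1 : s ∈ Nm (J j Um)) (h2 : s ∉ Nm A) :
    (∀ x ∈ Ab, π (s * j x * s⁻¹) ∈ A1) ∧ ∀ x ∈ A1, π (s * j x * s⁻¹) ∈ Ab := by
  refine (aut_U (S.aut U_le_T h1).1).2.2.resolve_left fun k => h2 ?_
  rw [S.hA]
  exact mem_normalizer_of_forall (S.b1_maps U_le_T Ab_le_U h1 k.1)

theorem b1_A1 {n : G} (h1 : n ∈ Nm (J j Um)) (h2 : n ∈ Nm A) : ∀ g ∈ J j A1, n * g * n⁻¹ ∈ J j A1 := by
  refine S.b1_maps U_le_T A1_le_U h1 ((aut_U (S.aut U_le_T h1).1).2.2.resolve_right fun k => ?_).2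
  obtain ⟨x, hx, e⟩ := (S.aut (Ab_le_U.trans U_le_T) (S.hA ▸ h2)).1.surj (y := a0) rfl
  exact (by decide +kernel : a0 ∉ A1) (e ▸ k.1 x hx)

theorem b1_conj {s n : G} (h1 : s ∈ Nm (J j Um)) (h2 : s ∉ Nm A) (hn : n ∈ Nm A ⊓ Nm (J j Um)) :
    s * n * s⁻¹ ∈ Nm A ⊓ Nm (J j Um) := by
  refine ⟨mem_normalizer_of_forall fun g hg => ?_, Subgroup.mul_mem _ (Subgroup.mul_mem _ h1 hn.2) (Subgroup.inv_mem _ h1)⟩
  have k1 := S.b1_maps U_le_T Ab_le_U (inv_mem h1) (S.b1_sw (inv_mem h1) fun k => h2 (inv_mem_iff.1 k)).1 g (S.hA ▸ hg)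
  have k2 := S.b1_maps U_le_T A1_le_U h1 (S.b1_sw h1 h2).2 _ (S.b1_A1 hn.2 hn.1 _ k1)
  rw [← S.hA] at k2
  convert k2 using 1
  group

theorem b1_ker {s n : G} (h1 : s ∈ Nm (J j Um)) (hn : n ∈ Nm A ⊓ Nm (J j Um)) (e : π n = 1) :
    π (s * n * s⁻¹) = 1 := by
  refine S.odd_cent (fun g hg => ?_) (by
    rw [show s * n * s⁻¹ = MulAut.conj s n from rfl, MulEquiv.orderOf_eq]; exact S.πk n hn.1 e)
  have k := conj_mem_of_mem_normalizer' h1 (S.J_mono Ab_le_U (S.hA ▸ hg))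
  obtain ⟨x, hx, hx', e'⟩ := S.mem_J.1 k
  have := (S.cj_eq hn.1 hx' (conj_mem_of_mem_normalizer hn.2 (e' ▸ k))).2.2
  rw [e, one_mul, inv_one, mul_one, e', mul_inv_eq_iff_eq_mul] at this
  calc g * (s * n * s⁻¹) = s * (s⁻¹ * g * s * n) * s⁻¹ := by group
    _ = _ := by rw [← this]; group

theorem b1_P {n : G} (hn : n ∈ Nm A ⊓ Nm (J j Um)) : π n ∈ Pm := mem_P_of fun x hx => by
  have k := U_le_T (Ab_le_U (W_le_Ab hx))
  have := (aut_U (S.aut U_le_T hn.2).1).2.1 x hx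
  rwa [S.π_conj hn.1 (S.jN x k), S.πj x k] at this

theorem b1_j {x : M} (hx : x ∈ Tm) : j x ∈ Nm A ⊓ Nm (J j Um) :=
  ⟨S.jN x hx, mem_normalizer_of_forall fun g hg => by
    obtain ⟨y, hy, hy', rfl⟩ := S.mem_J.1 hg
    rw [← S.j_conj hx hy']
    exact (S.j_mem (mul_mem (mul_mem hx hy') (inv_mem hx))).2 (P_conj_U (T_le_P hx) hy)⟩

theorem exists_bee (h : ¬ IsSylowIn 2 (J j Tm) ⊤) : ∃ b, ∃ ε < 2, ∃ η < 2, Bee j ε η b := by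
  have : Fact (Nat.Prime 2) := ⟨Nat.prime_two⟩
  obtain ⟨R, hR, lt, -, l2⟩ := exists_lt_pgroup_normalizer (S.pgJ Tm) le_top h
  obtain ⟨s, s1, s2⟩ := SetLike.exists_of_lt lt
  have sT : s ∈ Nm (J j Tm) := l2 s1
  have sN : s ∉ Nm A := fun k => s2 (by
    rw [← S.sylT.eq_of_le (Q := R ⊓ Nm A) hR.to_inf_left (le_inf lt.le S.sylT.le) inf_le_right]
    exact ⟨s1, k⟩)
  have sU : s ∈ Nm (J j Um) := mem_normalizer_of_forall (S.b1_maps le_rfl U_le_T sT (aut_T (S.aut le_rfl sT).1))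
  have ex : ∀ m : M, ∃ n, m ∈ Pm → n ∈ Nm A ⊓ Nm (J j Um) ∧ π n = m := fun m => by
    by_cases hm : m ∈ Pm
    · obtain ⟨n, n1, n2, n3, -⟩ := S.liftN U_le_T fun x hx => P_conj_U hm hx
      exact ⟨n, fun _ => ⟨⟨n1, n2⟩, n3⟩⟩
    · exact ⟨1, fun k => (hm k).elim⟩
  choose nn hnn using ex
  have cN := fun n hn => (S.b1_conj (n := n) sU sN hn).1
  have key : ∀ n ∈ Nm A ⊓ Nm (J j Um), ∀ n' ∈ Nm A ⊓ Nm (J j Um), π (s * n * s⁻¹) = π (s * n' * s⁻¹) ↔ π n = π n' :=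
    fun n hn n' hn' => by
      have m := mul_mem (inv_mem hn) hn'
      rw [← inv_mul_eq_one, ← S.π_inv (cN n hn), ← S.πm _ (inv_mem (cN n hn)) _ (cN n' hn'), ← inv_mul_eq_one (a := π n),
        ← S.π_inv hn.1, ← S.πm _ (inv_mem hn).1 _ hn'.1, conj_inv, conj_mul]
      refine ⟨fun e => ?_, S.b1_ker sU m⟩
      have := S.b1_ker (inv_mem sU) (S.b1_conj sU sN m) e
      rwa [show s⁻¹ * (s * (n⁻¹ * n') * s⁻¹) * s⁻¹⁻¹ = n⁻¹ * n' by group] at this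
  have au : Aut Pm fun m => π (s * nn m * s⁻¹) := by
    refine ⟨fun x hx => S.b1_P (S.b1_conj sU sN (hnn x hx).1), fun x hx y hy => ?_, fun x hx y hy e => ?_⟩
    · rw [← S.πm _ (cN _ (hnn x hx).1) _ (cN _ (hnn y hy).1), conj_mul,
        key _ (hnn _ (mul_mem hx hy)).1 _ (mul_mem (hnn x hx).1 (hnn y hy).1), S.πm _ (hnn x hx).1.1 _ (hnn y hy).1.1,
        (hnn x hx).2, (hnn y hy).2, (hnn _ (mul_mem hx hy)).2]
    · rwa [key _ (hnn x hx).1 _ (hnn y hy).1, (hnn x hx).2, (hnn y hy).2] at e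
  have eT : ∀ x ∈ Tm, π (s * nn x * s⁻¹) = π (s * j x * s⁻¹) := fun x hx => by
    rw [key _ (hnn x (T_le_P hx)).1 _ (S.b1_j hx), (hnn x (T_le_P hx)).2, S.πj x hx]
  obtain ⟨a1, a2, -⟩ := aut_U (S.aut U_le_T sU).1
  obtain ⟨p, hp, ε, hε, η, hη, e⟩ := nrm au
    (fun x hx => by rw [eT x (U_le_T hx)]; exact (S.aut U_le_T sU).1.mem x hx)
    (fun x hx => by rw [eT x (U_le_T (B_le_U hx))]; exact a1 x hx)
    (fun x hx => by rw [eT x (U_le_T (Ab_le_U (W_le_Ab hx)))]; exact a2 x hx)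
    (fun x hx => by rw [eT x (U_le_T (Ab_le_U hx))]; exact (S.b1_sw sU sN).1 x hx)
  obtain ⟨⟨n1, -⟩, n2⟩ := hnn p hp
  generalize nn p = n at n1 n2
  have rN : ∀ x ∈ Tm, n * s * j x * (n * s)⁻¹ ∈ Nm A := fun x hx => by
    rw [show n * s * j x * (n * s)⁻¹ = n * (s * j x * s⁻¹) * n⁻¹ by group]
    exact mul_mem (mul_mem n1 (cN _ (S.b1_j hx))) (inv_mem n1)
  have e' : ∀ i < 15, π (n * s * j (tg i) * (n * s)⁻¹) = bg ε η i := fun i hi => by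
    rw [show n * s * j (tg i) * (n * s)⁻¹ = n * (s * j (tg i) * s⁻¹) * n⁻¹ by group,
      S.π_conj n1 (cN _ (S.b1_j (tg_mem i hi))), n2, ← eT _ (tg_mem i hi), e i hi]
  obtain ⟨k, -, -, hk⟩ := S.two (isPGroup_cj (n * s) (S.pgJ Tm)) (cj_le_iff.2 fun g hg => by
      obtain ⟨x, hx, -, rfl⟩ := S.mem_J.1 hg
      exact rN x hx) fun g hg => by
    obtain ⟨g, hg, rfl⟩ := hg
    obtain ⟨x, hx, -, rfl⟩ := S.mem_J.1 hg
    obtain ⟨m, -, rfl⟩ := exists_T hx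
    refine (pe_ind (R := fun a (_ : M) => a ∈ Tm ∧ π (n * s * j a * (n * s)⁻¹) ∈ Tm) (G' := tg) ?_ ?_ m 15
      fun i hi => ⟨tg_mem i hi, e' i hi ▸ te_mem _⟩).2
    · rw [S.j_one, mul_one, mul_inv_cancel, S.π_one]; exact ⟨one_mem _, one_mem _⟩
    · intro a _ c _ ha hc
      refine ⟨mul_mem ha.1 hc.1, ?_⟩
      rw [S.jm _ ha.1 _ hc.1, ← conj_mul, S.πm _ (rN a ha.1) _ (rN c hc.1)]
      exact mul_mem ha.2 hc.2
  refine ⟨k * (n * s), ε, hε, η, hη, fun i hi => ?_⟩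
  rw [← e' i hi, ← hk _ (conj_mem_cj.2 ((S.j_mem (tg_mem i hi)).2 (tg_mem i hi)))]
  group

end Sit

end CfsgLib.Fi64
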