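import Mathlib
import Cfsg.Agent.Lib.Fi64.Nsq
import Cfsg.Agent.Lib.SM12.NCc

/-! Goldschmidt's theorem with an irreducible automizer (project E64, plans/E64.md). -/

set_option autoImplicit false
set_option maxRecDepth 100000
set_option Elab.async false

namespace CfsgLib.Fi64

open Subgroup Cfsg CfsgLib.W2 CfsgLib.Tech CfsgLib.PComp
open CfsgLib.S86 (E64 SM e1 f1 e2 f2 e3 f3 bf sa tv oc t1)
open CfsgLib.Parr (P0 V0 vc lin mp idM Act Gam Gam0 L0 U0 OK q0 b0 om t0 v0 sg nC Sg Tst)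

variable {G : Type*} [Group G] [Finite G]

/-- the case `z = 1`, `K = ⊤` -/
theorem gold0 {S E : Subgroup G} {i : G} (hS : IsSylowIn 2 S ⊤) (hE : E ≤ S) (h2 : ∀ e ∈ E, e * e = 1)
    (sc : ∀ k, ∀ e ∈ E, k * e * k⁻¹ ∈ S → k * e * k⁻¹ ∈ E) (hc : ∀ s ∈ S, (∀ e ∈ E, s * e = e * s) → s ∈ E)
    (iS : i ∈ S) (iE : i ∉ E) (i2 : i * i = 1)
    (hs : ∀ L ≤ Nm E, (∀ k ∈ Nm E, ∀ m ∈ L, k * m * k⁻¹ ∈ L) → (∀ m ∈ L, ∀ e ∈ E, m * e = e * m) ∨
      ∃ m ∈ L, ∀ e ∈ E, m⁻¹ * i * e = e * (m⁻¹ * i)) : pPrimeCore 2 G ⊔ Nm E = ⊤ := by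
  obtain ⟨L, EL, -, nL, hL⟩ := SM12.gold_in' hS h2 hE fun k _ => sc k
  have SN : S ≤ Nm E := fun s hs => mem_normalizer_of_forall fun e he =>
    sc s e he (mul_mem (mul_mem hs (hE he)) (inv_mem hs))
  have Ln : L.Normal := normalizer_eq_top_iff.1 (top_le_iff.1 nL)
  rcases hs (L ⊓ Nm E) inf_le_right (fun k hk m hm => mem_inf.2 ⟨Ln.conj_mem m (mem_inf.1 hm).1 k,
    mul_mem (mul_mem hk (mem_inf.1 hm).2) (inv_mem hk)⟩) with h | ⟨m, hm, h⟩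
  · have e1 : S ⊓ L = E := le_antisymm (fun s hs => hc s hs.1 (h s ⟨hs.2, SN hs.1⟩)) (le_inf hE EL)
    have hE' := hS.inf_of_le_normalizer nL
    rw [e1, top_inf_eq] at hE'
    have npc := npc_of_burnside hE' fun n hn hn' => h n ⟨hn, hn'⟩
    have LM : L ≤ pPrimeCore 2 G ⊔ Nm E := le_of_npc npc hE'
      ((opOf_le_opOf_of_le_normalizer le_top nL).trans (by rw [opOf_top]; exact le_sup_left))
      (le_normalizer.trans le_sup_right)
    refine top_le_iff.1 fun g _ => ?_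
    obtain ⟨n, hn, e⟩ := hE'.frattini (nL (mem_top g))
    rw [show g = n⁻¹ * (n * g) by group]
    exact mul_mem (inv_mem (LM hn)) (mem_sup_right e)
  · exfalso
    replace hm := mem_inf.1 hm
    have cN : m⁻¹ * i ∈ Nm E ⊓ Ce E := mem_inf.2 ⟨mul_mem (inv_mem hm.2) (SN iS), fun e he => (h e he).symm⟩
    have hN : Nm E ≤ normalizer (Ce E : Set G) := fun g hg => mem_normalizer_of_forall fun c hc e he => by
      have := hc _ (conj_mem_of_mem_normalizer' hg he)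
      calc e * (g * c * g⁻¹) = g * (g⁻¹ * e * g * c) * g⁻¹ := by group
        _ = _ := by rw [this]; group
    have h1 := (hS.of_le SN le_top).inf_of_le_normalizer hN
    obtain ⟨k, n, ⟨j, rfl⟩, e⟩ := Nat.exists_eq_two_pow_mul_odd (orderOf_pos (m⁻¹ * i)).ne'
    obtain ⟨g, hg, hg'⟩ := h1.exists_conj_mem (pow_mem cN (2 * j + 1)) (isPGroup_zpowers_of_pow (k := k) (by
      rw [← pow_mul, mul_comm, ← e, pow_orderOf_eq_one]))
    have h3 : (m⁻¹ * i) ^ (2 * j + 1) ∈ L := by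
      have := Ln.conj_mem _ (EL (hc _ hg'.1 fun e he => (hg'.2 e he).symm)) g⁻¹
      simpa [mul_assoc] using this
    have h4 : ∀ x, QuotientGroup.mk' L x = 1 ↔ x ∈ L := fun x => QuotientGroup.eq_one_iff x
    rw [← h4, map_pow, map_mul, map_inv, (h4 m).2 hm.1, inv_one, one_mul, pow_succ, pow_mul, pow_two, ← map_mul,
      i2, map_one, one_pow, one_mul, h4] at h3
    exact iE (hL i iS h3 i2)

theorem gold {K S E : Subgroup G} {z i : G} (hS : IsSylowIn 2 S K) (z2 : z * z = 1) (zE : z ∈ E) (hz : ∀ k ∈ K, Commute k z)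
    (hE : E ≤ S) (h2 : ∀ e ∈ E, e * e ∈ zpowers z) (sc : ∀ k ∈ K, ∀ e ∈ E, k * e * k⁻¹ ∈ S → k * e * k⁻¹ ∈ E)
    (hc : ∀ s ∈ S, (∀ e ∈ E, s * e * s⁻¹ * e⁻¹ ∈ zpowers z) → s ∈ E) (iS : i ∈ S) (iE : i ∉ E) (i2 : i * i ∈ zpowers z)
    (hs : ∀ L ≤ K ⊓ Nm E, (∀ k ∈ K ⊓ Nm E, ∀ m ∈ L, k * m * k⁻¹ ∈ L) → (∀ m ∈ L, ∀ e ∈ E, m * e * m⁻¹ * e⁻¹ ∈ zpowers z) ∨
      ∃ m ∈ L, ∀ e ∈ E, m⁻¹ * i * e * (m⁻¹ * i)⁻¹ * e⁻¹ ∈ zpowers z) :
    ∀ k ∈ K, ∃ o ∈ opOf 2 K, ∃ n ∈ K ⊓ Nm E, k = o * n := by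
  have hcen : (zpowers z).subgroupOf K ≤ center K := fun x hx => mem_center_iff.2 fun y => Subtype.ext (by
    obtain ⟨n, e⟩ := mem_subgroupOf.1 hx
    have e' : z ^ n = (x : G) := e
    show (y : G) * x = x * y
    rw [← e']
    exact ((hz y y.2).zpow_right n).eq)
  have hN : ((zpowers z).subgroupOf K).Normal := ⟨fun x hx g => by
    rw [mem_center_iff.1 (hcen hx) g, mul_inv_cancel_right]; exact hx⟩
  set f := QuotientGroup.mk' ((zpowers z).subgroupOf K) with hf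
  have fs : Function.Surjective f := QuotientGroup.mk'_surjective _
  have hk : f.ker = (zpowers z).subgroupOf K := QuotientGroup.ker_mk' _
  have f1 : ∀ x : K, f x = 1 ↔ (x : G) ∈ zpowers z := fun x => QuotientGroup.eq_one_iff x
  have ZE : zpowers z ≤ E := zpowers_le.2 zE
  have fm : ∀ T : Subgroup G, zpowers z ≤ T → ∀ x : K, f x ∈ (T.subgroupOf K).map f ↔ (x : G) ∈ T :=
    fun T hT x => ⟨fun ⟨y, hy, e⟩ => by
      have : (y : G)⁻¹ * x ∈ zpowers z := (f1 (y⁻¹ * x)).1 (by rw [map_mul, map_inv, e, inv_mul_cancel])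
      simpa using mul_mem (mem_subgroupOf.1 hy) (hT this), fun h => ⟨x, h, rfl⟩⟩
  have fc : ∀ a b : K, f a * f b = f b * f a ↔ (a : G) * b * (a : G)⁻¹ * (b : G)⁻¹ ∈ zpowers z := fun a b => by
    refine Iff.trans ?_ (f1 (a * b * a⁻¹ * b⁻¹))
    rw [map_mul, map_mul, map_mul, map_inv, map_inv, mul_inv_eq_one, mul_inv_eq_iff_eq_mul]
  have EK : E ≤ K := hE.trans hS.le
  have fN : ∀ x : K, f x ∈ Nm ((E.subgroupOf K).map f) ↔ (x : G) ∈ Nm E := fun x =>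
    ⟨fun h => mem_normalizer_of_forall fun e he => (fm E ZE (x * ⟨e, EK he⟩ * x⁻¹)).1 (by
      rw [map_mul, map_mul, map_inv]
      exact conj_mem_of_mem_normalizer h ((fm E ZE ⟨e, EK he⟩).2 he)),
    fun h => mem_normalizer_of_forall (by
      rintro _ ⟨e, he, rfl⟩
      rw [← map_inv, ← map_mul, ← map_mul]
      exact (fm E ZE _).2 (conj_mem_of_mem_normalizer h (mem_subgroupOf.1 he)))⟩
  have hS' : IsSylowIn 2 ((S.subgroupOf K).map f) ⊤ := IsSylowIn.of_sylow_top (hS.toSylow.mapSurjective fs)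
  have h1 := gold0 (E := (E.subgroupOf K).map f) (i := f ⟨i, hS.le iS⟩) hS' (map_mono fun x hx => hE hx)
    (by rintro _ ⟨e, he, rfl⟩; rw [← map_mul]; exact (f1 _).2 (h2 e he))
    (by
      intro k _ ⟨e, he, e'⟩ h
      obtain ⟨k, rfl⟩ := fs k
      subst e'
      rw [← map_inv, ← map_mul, ← map_mul] at h ⊢
      exact (fm E ZE _).2 (sc k k.2 e he ((fm S (ZE.trans hE) _).1 h)))
    (by
      rintro _ ⟨s, hs', rfl⟩ h
      exact (fm E ZE _).2 (hc s hs' fun e he => (fc s ⟨e, EK he⟩).1 (h _ ((fm E ZE ⟨e, EK he⟩).2 he))))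
    ((fm S (ZE.trans hE) _).2 iS) (fun h => iE ((fm E ZE _).1 h)) (by rw [← map_mul]; exact (f1 _).2 i2)
    (fun L hL nL => by
      rcases hs ((L.comap f).map K.subtype) (by
        rintro _ ⟨x, hx, rfl⟩
        exact mem_inf.2 ⟨x.2, (fN x).1 (hL hx)⟩) (by
        rintro k hk' _ ⟨x, hx, rfl⟩
        replace hk' := mem_inf.1 hk'
        refine ⟨⟨k, hk'.1⟩ * x * ⟨k, hk'.1⟩⁻¹, ?_, rfl⟩
        show f _ ∈ L
        rw [map_mul, map_mul, map_inv]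
        exact nL _ ((fN ⟨k, hk'.1⟩).2 hk'.2) _ hx) with h | ⟨_, ⟨m, hm, rfl⟩, h⟩
      · left
        rintro m hm _ ⟨e, he, rfl⟩
        obtain ⟨m, rfl⟩ := fs m
        exact (fc m e).2 (h m ⟨m, hm, rfl⟩ e he)
      · right
        refine ⟨f m, hm, ?_⟩
        rintro _ ⟨e, he, rfl⟩
        rw [← map_inv, ← map_mul]
        exact (fc (m⁻¹ * (⟨i, hS.le iS⟩ : K)) e).2 (h e he))
  have h3 : (⊤ : Subgroup K) ≤ (opOf 2 K ⊔ (K ⊓ Nm E)).subgroupOf K := by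
    rw [← comap_top f, ← h1, ← comap_sup_eq f _ _ fs]
    refine sup_le ((comap_pPrimeCore_le_of_central f (hk.le.trans hcen)).trans (sup_le
      (fun x hx => mem_sup_left (mem_opOf_iff.2 hx)) fun x hx => ?_))
      fun x hx => mem_sup_right (mem_inf.2 ⟨x.2, (fN x).1 hx⟩)
    exact mem_sup_right (mem_inf.2 ⟨x.2, le_normalizer (ZE ((f1 x).1 hx))⟩)
  intro k hk'
  obtain ⟨o, ho, n, hn, e⟩ := (Core.mem_sup_of_le_normalizer_left (inf_le_left.trans (le_normalizer_opOf K))).1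
    (mem_subgroupOf.1 (h3 (mem_top ⟨k, hk'⟩)))
  exact ⟨o, ho, n, hn, e.symm⟩

end CfsgLib.Fi64
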