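import Mathlib
import Cfsg.Agent.Lib.Fi64.MT

/-! The classes of involutions of the model (project E64, plans/E64.md). -/

set_option autoImplicit false
set_option maxRecDepth 100000
set_option Elab.async false

namespace CfsgLib.Fi64

open Subgroup Cfsg CfsgLib.W2 CfsgLib.Tech CfsgLib.PComp
open CfsgLib.S86 (E64 SM e1 f1 e2 f2 e3 f3 bf sa tv oc t1)
open CfsgLib.Parr (P0 V0 vc lin mp idM Act Gam Gam0 L0 U0 OK q0 b0 om t0 v0 sg nC Sg Tst)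

namespace MI

/-- the affine action -/
noncomputable def ac (x : M) (v : E64) : E64 := x.a * sa x.l v

theorem ac_mul (x y : M) (v : E64) : ac (x * y) v = ac x (ac y v) := by
  simp only [ac, mul_a, mul_l, S86.sa_mul, S86.mul_sa, mul_assoc]

theorem fix_conj (g : M) {x : M} (h : ∃ v, ac x v = v) : ∃ v, ac (g * x * g⁻¹) v = v := by
  obtain ⟨v, h⟩ := h
  exact ⟨ac g v, by rw [← ac_mul, inv_mul_cancel_right, ac_mul, h]⟩

theorem red {x : M} (m : M) (h : ∃ i < 8, ∃ m' : M, m' * (m * x * m⁻¹) * m'⁻¹ = rp i) :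
    ∃ i < 8, ∃ m : M, m * x * m⁻¹ = rp i := by
  obtain ⟨i, hi, m', e⟩ := h
  exact ⟨i, hi, m' * m, by rw [← e]; group⟩

theorem conj_sy (g : SM) (a : E64) (l : SM) : sy g * ⟨a, l⟩ * (sy g)⁻¹ = ⟨sa g a, g * l * g⁻¹⟩ :=
  M.ext (by simp only [mul_a, mul_l, inv_a, sy, S86.sa_one, one_mul, mul_one]) rfl

theorem rest : ∀ l ∈ [w12, t1 * S86.t2, t1 * S86.t2 * S86.t3], ∀ a, sa l a = a → ∃ g ∈ [1, S86.β3, S86.β3⁻¹],
    ∃ v ∈ [1, f1, f2, f1 * f2, f3, f1 * f3, f2 * f3, f1 * f2 * f3], ∃ i < 8,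
      tr v * ⟨sa g a, l⟩ * (tr v)⁻¹ = rp i ∧ (g = 1 ∨ g * l * g⁻¹ = l) := by decide +kernel

theorem rest' {l : SM} (hl : l ∈ [w12, t1 * S86.t2, t1 * S86.t2 * S86.t3]) {a : E64} (h : sa l a = a) :
    ∃ i < 8, ∃ m : M, m * ⟨a, l⟩ * m⁻¹ = rp i := by
  obtain ⟨g, -, v, -, i, hi, e, k⟩ := rest l hl a h
  refine red (sy g) ⟨i, hi, tr v, ?_⟩
  rw [conj_sy, k.elim (fun k => by rw [k, one_mul, inv_one, mul_one]) id, e]

theorem sq {x : M} (h2 : x * x = 1) : x.l * x.l = 1 ∧ sa x.l x.a = x.a :=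
  ⟨congrArg M.l h2, mul_left_cancel ((congrArg M.a h2).trans (S86.E_sq _).symm)⟩

end MI

theorem iv_conj (g x : M) : iv (g * x * g⁻¹) = iv x := by
  have h : IsConj x.l (g * x * g⁻¹).l := isConj_iff.2 ⟨g.l, rfl⟩
  refine Prod.ext ?_ (Prod.ext (decide_eq_decide.2 ⟨S86.Wt.PA.conj h.symm, S86.Wt.PA.conj h⟩)
    (decide_eq_decide.2 ⟨fun k => ?_, MI.fix_conj g⟩))
  · refine (TG.card_subtype fun v : E64 => sa (g * x * g⁻¹).l v = v).symm.trans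
      (Eq.trans (Nat.card_congr ?_) (TG.card_subtype fun v : E64 => sa x.l v = v))
    refine (Equiv.subtypeEquiv (Equiv.ofBijective _ (Finite.injective_iff_bijective.1 (S86.sa_inj g.l))) fun v => ?_).symm
    exact (S86.sa_inj g.l).eq_iff.symm.trans (by rw [← S86.Wt.cj]; rfl)
  · have := MI.fix_conj g⁻¹ k
    rwa [show g⁻¹ * (g * x * g⁻¹) * g⁻¹⁻¹ = x by group] at this

theorem rp_mem : ∀ i < 8, rp i ∈ Bm ∧ rp i * rp i = 1 ∧ rp i ≠ 1 := by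
  decide +kernel

theorem inv_rep {x : M} (h2 : x * x = 1) (h1 : x ≠ 1) : ∃ i < 8, ∃ m : M, m * x * m⁻¹ = rp i := by
  obtain ⟨g, hg⟩ := S86.inv_class (MI.sq h2).1
  refine MI.red (sy g) ?_
  have k1 : sy g * x * (sy g)⁻¹ ≠ 1 := fun e => h1 (conj_eq_one_iff.1 e)
  have k2 := (MI.sq (x := sy g * x * (sy g)⁻¹) (by rw [conj_mul, h2]; group)).2
  change (sy g * x * (sy g)⁻¹).l ∈ _ at hg
  generalize sy g * x * (sy g)⁻¹ = y at hg k1 k2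
  obtain ⟨a, l⟩ := y
  simp only [List.mem_cons, List.not_mem_nil, or_false] at hg k2
  rcases hg with rfl | rfl | rfl | rfl | rfl
  · obtain ⟨g, e⟩ := S86.Wt.to_e1 (u := a) fun e => k1 (by rw [e]; rfl)
    exact ⟨0, by decide, sy g, by rw [MI.conj_sy, e, mul_one, mul_inv_cancel, rp_vals.1]; rfl⟩
  · rcases (by decide +kernel : ∀ a, sa t1 a = a → (∃ v ∈ [1, f1], tr v * ⟨a, t1⟩ * (tr v)⁻¹ = rp 1) ∨
      e1 ≠ 1 ∧ a ≠ 1 ∧ e1 ≠ a ∧ bf e1 a = false) a k2 with ⟨v, -, e⟩ | ⟨a1, a2, a3, a4⟩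
    · exact ⟨1, by decide, _, e⟩
    obtain ⟨g, e, e'⟩ := S86.Wt.to_perp a1 a2 a3 a4
    exact ⟨2, by decide, sy g, by rw [MI.conj_sy, e', S86.vals.1, S86.conj_tv, e]; decide +kernel⟩
  · refine MI.red (sy (oc 34629263493)⁻¹) ?_
    have e : (oc 34629263493)⁻¹ * S86.s12 * (oc 34629263493)⁻¹⁻¹ = w12 := by decide +kernel
    rw [MI.conj_sy, e]
    exact MI.rest' (by simp) (by rw [← e, S86.Wt.cj, k2])
  · exact MI.rest' (by simp) k2
  · exact MI.rest' (by simp) k2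

theorem conj_of_iv {x y : M} (x2 : x * x = 1) (x1 : x ≠ 1) (y2 : y * y = 1) (y1 : y ≠ 1) (h : iv x = iv y) :
    ∃ m : M, m * x * m⁻¹ = y := by
  obtain ⟨i, hi, m, e⟩ := inv_rep x2 x1
  obtain ⟨j, hj, m', e'⟩ := inv_rep y2 y1
  rw [← iv_conj m, ← iv_conj m' y, e, e', iv_rp i hi, iv_rp j hj] at h
  obtain rfl : i = j := by
    clear e e'
    revert j
    revert i
    decide
  exact ⟨m'⁻¹ * m, by rw [show m'⁻¹ * m * x * (m'⁻¹ * m)⁻¹ = m'⁻¹ * (m * x * m⁻¹) * m' by group, e, ← e']; group⟩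

theorem sq_rp : ∀ i ∈ [0, 3, 4, 6, 7], ∃ t : M, t * t = rp i := by
  intro i hi
  obtain ⟨k, n, -, a1, a2, a3⟩ := (by decide +kernel : ∀ i ∈ [0, 3, 4, 6, 7], i < 8 ∧ ∃ n ∈ [520, 4112, 6192, 8448, 9476],
    te n * te n * (te n * te n) = 1 ∧ te n * te n ≠ 1 ∧ iv (te n * te n) = iv (rp i)) i hi
  obtain ⟨m, e⟩ := conj_of_iv a1 a2 (rp_mem i k).2.1 (rp_mem i k).2.2 a3
  exact ⟨m * te n * m⁻¹, by rw [conj_mul, e]⟩

theorem nsq_d (t : M) : t * t ≠ d ∧ t * t ≠ z * d :=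
  ⟨fun e => S86.nsq t.l (v := e1) (by decide +kernel) (congrArg M.l e),
    fun e => S86.nsq t.l (v := e1) (by decide +kernel) ((congrArg M.l e).trans (one_mul _))⟩

end CfsgLib.Fi64
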