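import Mathlib
import Cfsg.Agent.Lib.Fi64.MI

/-! The non-squares in `Bm` determine `Wm` (project E64, plans/E64.md). -/

set_option autoImplicit false
set_option maxRecDepth 100000
set_option Elab.async false

namespace CfsgLib.Fi64

open Subgroup Cfsg CfsgLib.W2 CfsgLib.Tech CfsgLib.PComp
open CfsgLib.S86 (E64 SM e1 f1 e2 f2 e3 f3 bf sa tv oc t1)
open CfsgLib.Parr (P0 V0 vc lin mp idM Act Gam Gam0 L0 U0 OK q0 b0 om t0 v0 sg nC Sg Tst)

/-- the class of `te n` -/
def mkTy (n : ℕ) : ℕ := Nat.land (Nat.shiftRight 0x2924916e491b71c8e3b6db6d723723b6db6db6db6dfb7dfeb6db6db6db6db6db6d7237238dc723b6db6db6db6ddfedfeb6db6db6db6d8dc723b6db6db6db6d71c8e3b6db6ddf7fbe6e491b452491b6db6d8e38e3b6db6d8e38e3b6db6dfbefbeb6db6d8dc723b6db6db6db6db6db6db6db6d6e491bdbfff671c8e3b6db6d48a49191b91bb6db6db6db6d91b91bff6ff6723723b6db6db6db6db6db6d4922919246db9246dbfffdb6b6db6d8e38e391b91b4914919246db492451492489000000 (Nat.mul 3 n)) 7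

theorem mk_lt : ∀ n < 512, mkTy n < 8 := by decide +kernel

theorem mk_iv : ∀ n < 512, n = 0 ∨ iv (te n) = [(64, true, false), (32, false, true), (32, false, false),
    (16, false, true), (16, false, false), (8, false, true), (16, true, true), (16, true, false)].getD (mkTy n)
      (0, true, true) := by decide +kernel

/-- four unions of classes and a derived set -/
def mkM (i : ℕ) : ℕ := [0x81000000000000000000000000000000000000000000000000410000000000000000000000000000000021000000000000000000090000000000001100050300,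
  0xff000000000000000000000000000000000000000000000000ff00000000000000000000000000000000ff000000000000000000ff000000000000ff00ffff00,
  0x810000ff00ffff00ffffff0000ffff00ffff00ffff00ff000041ff00ff00ff00ff00ffffffff000000ff2100ffff000000ffffff09000000ff00001100050300,
  0xff0000ff00ffff00ffffff0000ffff00ffff00ffff00ff0000ffff00ff00ff00ff00ffffffff000000ffff00ffff000000ffffffff000000ff0000ff00ffff00,
  0xc3a5009900000000000099690000000000690000a50000c300005500550000006900000000c300a50000330000330099000000000f0f00005533000f0000ff].getD i 0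

theorem mk_ty : ∀ n < 512, (bit (mkM 0) n = true ↔ mkTy n = 1) ∧
    (bit (mkM 1) n = true ↔ mkTy n = 1 ∨ mkTy n = 2) ∧ (bit (mkM 2) n = true ↔ mkTy n = 1 ∨ mkTy n = 5) ∧
    (bit (mkM 3) n = true ↔ mkTy n = 1 ∨ mkTy n = 2 ∨ mkTy n = 5) := by decide +kernel

/-- the number of ways to write `k` as a sum of two members of `m` -/
noncomputable def mkC (m k : ℕ) : ℕ := cntN (fun n => Bool.rec false (bit m (Nat.xor n k)) (bit m n)) 512

theorem mk_0 : ∀ k < 512, (2 ≤ mkC (mkM 0) k ↔ bit (mkM 4) k = true) := by decide +kernel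
theorem mk_1 : ∀ k < 512, (56 ≤ mkC (mkM 1) k ↔ k < 8) := by decide +kernel
theorem mk_2 : ∀ k < 512, (226 ≤ mkC (mkM 2) k ↔ k < 8) := by decide +kernel
theorem mk_3 : ∀ k < 512, (280 ≤ mkC (mkM 3) k ↔ k < 8) := by decide +kernel
theorem mk_4 : ∀ k < 512, (44 ≤ mkC (mkM 4) k ↔ k < 8) := by decide +kernel

theorem mkC_le {s : ℕ → ℕ} (lt : ∀ n < 512, s n < 512) (inj : ∀ n < 512, ∀ k < 512, s n = s k → n = k)
    (ad : ∀ n < 512, ∀ k < 512, s (n ^^^ k) = s n ^^^ s k) {m : ℕ}
    (hm : ∀ n < 512, bit m n = true → bit m (s n) = true) {k : ℕ} (hk : k < 512) :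
    mkC m k ≤ mkC m (s k) := by
  have e : ∀ a b : Bool, (Bool.rec false b a : Bool) = true ↔ a = true ∧ b = true := by decide
  rw [mkC, mkC, cntN_eq, cntN_eq]
  refine Finset.card_le_card_of_injOn s (fun n hn => ?_) fun a ha b hb => inj a ?_ b ?_
  · simp only [Finset.coe_filter, Finset.mem_range, Set.mem_setOf_eq, e] at hn ⊢
    refine ⟨lt n hn.1, hm n hn.1 hn.2.1, ?_⟩
    have := hm _ (Nat.xor_lt_two_pow (n := 9) hn.1 hk) hn.2.2
    rwa [ad n hn.1 k hk] at this
  · exact Finset.mem_range.1 (Finset.mem_filter.1 ha).1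
  · exact Finset.mem_range.1 (Finset.mem_filter.1 hb).1

theorem count_W {σ : M → M} (h : Aut Bm σ) {NS : M → Prop} (hσ : ∀ x ∈ Bm, NS (σ x) ↔ NS x)
    (hc : ∀ m : M, ∀ x ∈ Bm, m * x * m⁻¹ ∈ Bm → (NS (m * x * m⁻¹) ↔ NS x)) (h1 : ¬ NS 1) (hd : NS (rp 1))
    (hn : ∀ i ∈ [0, 3, 4, 6, 7], ¬ NS (rp i)) : ∀ x ∈ Wm, σ x ∈ Wm := by
  have ex : ∀ n, ∃ k, n < 512 → k < 512 ∧ te k = σ (te n) := fun n => by
    by_cases hn : n < 512
    · exact (exists_B (h.mem _ (te_mem_B hn))).imp fun k hk _ => hk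
    · exact ⟨0, fun e => absurd e hn⟩
  choose s hs using ex
  have ti : ∀ {n k}, n < 512 → k < 512 → te n = te k → n = k := fun a b => te_inj (by omega) (by omega)
  have xl : ∀ {n k}, n < 512 → k < 512 → n ^^^ k < 512 := fun a b => Nat.xor_lt_two_pow (n := 9) a b
  have le := fun {m : ℕ} (hm : ∀ n < 512, bit m n = true → bit m (s n) = true) {k : ℕ} (hk : k < 512) =>
    mkC_le (fun n hn => (hs n hn).1)
      (fun n hn k hk e => ti hn hk (h.inj _ (te_mem_B hn) _ (te_mem_B hk)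
        (by rw [← (hs n hn).2, e, (hs k hk).2])))
      (fun n hn k hk => ti (hs _ (xl hn hk)).1 (xl (hs n hn).1 (hs k hk).1) (by
        rw [(hs _ (xl hn hk)).2, te_xor hn hk, te_xor (hs n hn).1 (hs k hk).1, (hs n hn).2, (hs k hk).2,
          h.mul _ (te_mem_B hn) _ (te_mem_B hk)])) hm hk
  have ty : ∀ n < 512, (NS (te n) ↔ NS (rp (mkTy n))) := fun n hl => by
    by_cases n0 : n = 0
    · subst n0
      rw [show te 0 = 1 by decide +kernel, show mkTy 0 = 0 by decide +kernel]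
      exact iff_of_false h1 (hn 0 (by simp))
    obtain ⟨r1, r2, r3⟩ := rp_mem _ (mk_lt n hl)
    obtain ⟨m, hm⟩ := conj_of_iv (B_sq (te_mem_B hl))
      (fun e => n0 (ti hl (by norm_num) (e.trans (by decide +kernel)))) r2 r3
      (((mk_iv n hl).resolve_left n0).trans (iv_rp _ (mk_lt n hl)).symm)
    rw [← hm]
    exact (hc m _ (te_mem_B hl) (hm ▸ r1)).symm
  have inv : ∀ {m : ℕ} {I : ℕ → Prop}, (∀ i < 8, NS (rp i) ↔ I i) → (∀ n < 512, bit m n = true ↔ I (mkTy n)) →
      ∀ n < 512, bit m n = true → bit m (s n) = true := fun hI hm n hn e => by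
    rw [hm _ (hs n hn).1, ← hI _ (mk_lt _ (hs n hn).1), ← ty _ (hs n hn).1, (hs n hn).2, hσ _ (te_mem_B hn),
      ty n hn, hI _ (mk_lt n hn)]
    exact (hm n hn).1 e
  intro x hx
  obtain ⟨k, hk, rfl⟩ := exists_W hx
  have hk' : k < 512 := by omega
  rw [← (hs k hk').2]
  refine te_mem_W ?_
  have h0 := hn 0 (by simp)
  have h3 := hn 3 (by simp)
  have h4 := hn 4 (by simp)
  have h6 := hn 6 (by simp)
  have h7 := hn 7 (by simp)
  by_cases h2 : NS (rp 2) <;> by_cases h5 : NS (rp 5)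
  · exact (mk_3 _ (hs k hk').1).1 (((mk_3 k hk').2 hk).trans (le (inv (I := fun i => i = 1 ∨ i = 2 ∨ i = 5)
      (fun i hi => by interval_cases i <;> simp [*]) fun n hn => (mk_ty n hn).2.2.2) hk'))
  · exact (mk_1 _ (hs k hk').1).1 (((mk_1 k hk').2 hk).trans (le (inv (I := fun i => i = 1 ∨ i = 2)
      (fun i hi => by interval_cases i <;> simp [*]) fun n hn => (mk_ty n hn).2.1) hk'))
  · exact (mk_2 _ (hs k hk').1).1 (((mk_2 k hk').2 hk).trans (le (inv (I := fun i => i = 1 ∨ i = 5)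
      (fun i hi => by interval_cases i <;> simp [*]) fun n hn => (mk_ty n hn).2.2.1) hk'))
  · have := inv (I := fun i => i = 1) (fun i hi => by interval_cases i <;> simp [*])
      fun n hn => (mk_ty n hn).1
    exact (mk_4 _ (hs k hk').1).1 (((mk_4 k hk').2 hk).trans (le (fun n hn e =>
      (mk_0 _ (hs n hn).1).1 (((mk_0 n hn).2 e).trans (le this hn))) hk'))

end CfsgLib.Fi64
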