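import Mathlib
import Cfsg.Agent.Lib.Fi64.MT

/-! The subgroup `Qm` of the model (project E64, plans/E64.md). -/

set_option autoImplicit false
set_option maxRecDepth 100000
set_option Elab.async false

namespace CfsgLib.Fi64

open Subgroup Cfsg CfsgLib.W2 CfsgLib.Tech CfsgLib.PComp
open CfsgLib.S86 (E64 SM e1 f1 e2 f2 e3 f3 bf sa tv oc t1)
open CfsgLib.Parr (P0 V0 vc lin mp idM Act Gam Gam0 L0 U0 OK q0 b0 om t0 v0 sg nC Sg Tst)

theorem qix_qe : ∀ n < 1024, qix (qe n) = n := by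
  decide +kernel

theorem mq_key {x : M} (h : x ∈ Qm) : qix x < 1024 ∧ qe (qix x) = x := by
  have k : ∀ u : E64, ∀ b ∈ [1, e1], ∀ c ∈ [1, e1], ∀ b' ∈ [1, e1], ∀ c' ∈ [1, e1],
      S86.SB e1 u (e2 * b) (f2 * c) (e3 * b') (f3 * c') → ∀ a : E64, bf a e1 = false →
        qix ⟨a, S86.mk e1 u (e2 * b) (f2 * c) (e3 * b') (f3 * c')⟩ < 1024 ∧
          qe (qix ⟨a, S86.mk e1 u (e2 * b) (f2 * c) (e3 * b') (f3 * c')⟩) =
            ⟨a, S86.mk e1 u (e2 * b) (f2 * c) (e3 * b') (f3 * c')⟩ := by decide +kernel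
  have l : ∀ v, bf v e1 = false → ∃ b ∈ [1, e1], sa x.l v = v * b := fun v hv => by
    rcases h.2.2 v hv with e | e
    exacts [⟨1, by simp, by rw [e, mul_one]⟩, ⟨e1, by simp, e⟩]
  obtain ⟨b, hb, p⟩ := l e2 (by decide +kernel)
  obtain ⟨c, hc, q⟩ := l f2 (by decide +kernel)
  obtain ⟨b', hb', p'⟩ := l e3 (by decide +kernel)
  obtain ⟨c', hc', q'⟩ := l f3 (by decide +kernel)
  have o : sa x.l e1 = e1 := h.2.1
  have s := S86.sb_sa x.l
  have m := S86.mk_sa x.l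
  rw [o, p, q, p', q'] at s m
  have := k _ b hb c hc b' hb' c' hc' s x.a h.1
  rwa [m] at this

theorem exists_Q {x : M} (h : x ∈ Qm) : ∃ n < 1024, qe n = x :=
  ⟨_, mq_key h⟩

theorem qe_qix {x : M} (h : x ∈ Qm) : qe (qix x) = x :=
  (mq_key h).2

theorem mq_card {S : Subgroup M} (h : S ≤ Qm) (p : ℕ → Bool) (hp : ∀ n < 1024, p n = true ↔ qe n ∈ S) :
    Nat.card S = cntN p 1024 := by
  rw [cntN_eq, ← Nat.card_eq_finsetCard]
  refine Nat.card_congr ⟨fun x => ⟨qix x, ?_⟩, fun n => ⟨qe n, ?_⟩, fun x => Subtype.ext (qe_qix (h x.2)),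
    fun n => Subtype.ext (qix_qe _ (Finset.mem_range.1 (Finset.mem_filter.1 n.2).1))⟩
  · have k := mq_key (h x.2)
    exact Finset.mem_filter.2 ⟨Finset.mem_range.2 k.1, (hp _ k.1).2 (k.2.symm ▸ x.2)⟩
  · have k := Finset.mem_filter.1 n.2
    exact (hp _ (Finset.mem_range.1 k.1)).1 k.2

theorem card_Q : Nat.card Qm = 1024 :=
  (mq_card le_rfl (fun _ => true) fun n _ => ⟨fun _ => qe_mem n, fun _ => rfl⟩).trans (by decide +kernel)

theorem card_Z : Nat.card Zm = 4 :=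
  (mq_card Z_le_Q (fun n => decide (qe n ∈ Zm)) fun _ _ => decide_eq_true_iff).trans (by decide +kernel)

theorem card_BQ : Nat.card (Bm ⊓ Qm : Subgroup M) = 64 :=
  (mq_card inf_le_right (fun n => decide (qe n ∈ Bm)) fun n _ =>
    decide_eq_true_iff.trans ⟨fun h => ⟨h, qe_mem n⟩, fun h => h.1⟩).trans (by decide +kernel)

theorem mem_Z {x : M} : x ∈ Zm ↔ x = 1 ∨ x = z ∨ x = d ∨ x = z * d := by
  show x ∈ [1, z, d, z * d] ↔ _
  simp only [List.mem_cons, List.not_mem_nil, or_false]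

theorem mq_one : τ 1 = 0 := by decide +kernel

theorem τ_mul {x y : M} (hx : x ∈ Qm) (hy : y ∈ Qm) : τ (x * y) = τ x + τ y := by
  have k : ∀ n < 1024, ∀ i < 10, τ (qe n * qg i) = τ (qe n) + τ (qg i) := by decide +kernel
  obtain ⟨n, -, rfl⟩ := exists_Q hy
  refine (pe_ind (R := fun a (_ : M) => a ∈ Qm ∧ ∀ x ∈ Qm, τ (x * a) = τ x + τ a) (G' := qg)
    ⟨one_mem _, fun x _ => by rw [mul_one, mq_one, add_zero]⟩
    (fun a _ c _ ha hc => ⟨mul_mem ha.1 hc.1, fun x hx => by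
      rw [← mul_assoc, hc.2 _ (mul_mem hx ha.1), ha.2 _ hx, hc.2 _ ha.1, add_assoc]⟩) n 10
    fun i hi => ⟨qg_mem i hi, fun x hx => ?_⟩).2 x hx
  obtain ⟨m, hm, rfl⟩ := exists_Q hx
  exact k m hm i hi

theorem τ_surj (v : V0) : ∃ x ∈ Qm, τ x = v :=
  ⟨_, qe_mem _, (by decide +kernel : ∀ v : V0, τ (qe (4 * (lin 0x844cc44821133112 v).n)) = v) v⟩

theorem τ_eq_zero {x : M} (hx : x ∈ Qm) : τ x = 0 ↔ x ∈ Zm := by
  obtain ⟨n, hn, rfl⟩ := exists_Q hx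
  exact (by decide +kernel : ∀ n < 1024, τ (qe n) = 0 ↔ qe n ∈ Zm) n hn

theorem τ_eq {x y : M} (hx : x ∈ Qm) (hy : y ∈ Qm) : τ x = τ y ↔ x⁻¹ * y ∈ Zm := by
  have e : τ x⁻¹ = τ x := Parr.add_eq_zero'.1 (by rw [← τ_mul (inv_mem hx) hx, inv_mul_cancel, mq_one])
  rw [← τ_eq_zero (mul_mem (inv_mem hx) hy), τ_mul (inv_mem hx) hy, e, Parr.add_eq_zero']

theorem Q_sq {x : M} (hx : x ∈ Qm) : (q0 (τ x) = 0 ∧ x * x = 1) ∨ (q0 (τ x) = 1 ∧ x * x = z) := by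
  obtain ⟨n, hn, rfl⟩ := exists_Q hx
  exact (by decide +kernel : ∀ n < 1024, (q0 (τ (qe n)) = 0 ∧ qe n * qe n = 1) ∨
    (q0 (τ (qe n)) = 1 ∧ qe n * qe n = z)) n hn

theorem Z_cent {c x : M} (hc : c ∈ Zm) (hx : x ∈ Qm) : Commute c x := by
  obtain ⟨n, -, rfl⟩ := exists_Q hx
  have k : ∀ c ∈ [1, z, d, z * d], ∀ i < 10, qg i * c = c * qg i := by decide +kernel
  exact (mem_centralizer_singleton_iff.1
    (pe_mem (S := centralizer {c}) n 10 fun i hi => mem_centralizer_singleton_iff.2 (k c hc i hi))).symm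

/-- the power of `z` -/
noncomputable def mqZ (c : ZMod 2) : M := if c = 0 then 1 else z

theorem mqZ_add : ∀ a b, mqZ (a + b) = mqZ a * mqZ b := by decide +kernel

theorem mqZ_mem : ∀ a, mqZ a ∈ Zm := by decide +kernel

theorem mq_sq {x : M} (hx : x ∈ Qm) : x * x = mqZ (q0 (τ x)) := by
  rcases Q_sq hx with ⟨h, e⟩ | ⟨h, e⟩ <;> rw [h, e] <;> rfl

theorem Q_comm {x y : M} (hx : x ∈ Qm) (hy : y ∈ Qm) :
    (b0 (τ x) (τ y) = 0 ∧ x * y = y * x) ∨ (b0 (τ x) (τ y) = 1 ∧ x * y = y * x * z) := by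
  have e := mq_sq (mul_mem hy hx)
  rw [τ_mul hy hx, Parr.q0_add, mqZ_add, mqZ_add, ← mq_sq hx, ← mq_sq hy, Parr.b0_comm] at e
  have c := Z_cent (mqZ_mem (b0 (τ x) (τ y))) hx
  have k : x * y = y * x * mqZ (b0 (τ x) (τ y)) := by
    refine mul_left_cancel (a := y) (mul_right_cancel (b := x) ?_)
    rw [mul_assoc y (y * x * _), mul_assoc (y * x), c.eq]
    simpa only [mul_assoc] using e
  rcases ExtraTwo.zmod2_cases (b0 (τ x) (τ y)) with h | h <;> rw [h] at k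
  exacts [Or.inl ⟨h, k.trans (mul_one _)⟩, Or.inr ⟨h, k⟩]

theorem mq_tr {m : M} {v : E64} : Commute m (tr v) ↔ sa m.l v = v := by
  rw [Commute, SemiconjBy, ← mul_inv_eq_iff_eq_mul, conj_tr]
  exact ⟨congrArg M.a, congrArg tr⟩

theorem cent_Q {m : M} (h : ∀ x ∈ Qm, Commute m x) : m ∈ Zm := by
  have k : ∀ u : E64, S86.SB e1 u e2 f2 e3 f3 → ∀ a : E64,
      (∀ i < 10, Commute (⟨a, S86.mk e1 u e2 f2 e3 f3⟩ : M) (qg i)) → (⟨a, S86.mk e1 u e2 f2 e3 f3⟩ : M) ∈ Zm := by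
    decide +kernel
  have l : ∀ v, tr v ∈ Qm → sa m.l v = v := fun v hv => mq_tr.1 (h _ hv)
  have s := S86.sb_sa m.l
  have e := S86.mk_sa m.l
  rw [l e1 (by decide +kernel), l e2 (by decide +kernel), l f2 (by decide +kernel), l e3 (by decide +kernel),
    l f3 (by decide +kernel)] at s e
  have := k _ s m.a
  rw [e] at this
  exact this fun i hi => h _ (qg_mem i hi)

theorem cent_T {m : M} (h : ∀ x ∈ Tm, Commute m x) : m = 1 ∨ m = z :=
  (by decide +kernel : ∀ m ∈ [1, z, d, z * d], (∀ i < 15, Commute m (tg i)) → m = 1 ∨ m = z) m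
    (cent_Q fun x hx => h x (Q_le_T hx)) fun i hi => h _ (tg_mem i hi)

theorem ab64 {Y : Subgroup M} (h : Y ≤ Qm) (hc : ∀ x ∈ Y, ∀ y ∈ Y, Commute x y) : Nat.card Y ≤ 64 := by
  let f : Y →* Multiplicative V0 :=
    MonoidHom.mk' (fun y => Multiplicative.ofAdd (τ y)) fun a b => τ_mul (h a.2) (h b.2)
  let U : Submodule (ZMod 2) V0 :=
    { carrier := {v | ∃ y ∈ Y, τ y = v}
      add_mem' := by
        rintro _ _ ⟨a, ha, rfl⟩ ⟨b, hb, rfl⟩
        exact ⟨_, mul_mem ha hb, τ_mul (h ha) (h hb)⟩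
      zero_mem' := ⟨1, one_mem _, mq_one⟩
      smul_mem' := fun c v hv => by
        rcases ExtraTwo.zmod2_cases c with rfl | rfl
        exacts [⟨1, one_mem _, mq_one⟩, hv] }
  have h1 : Nat.card U ≤ 16 := Parr.card_le_of_iso (by
    rintro _ ⟨a, ha, rfl⟩ _ ⟨b, hb, rfl⟩
    refine (Q_comm (h ha) (h hb)).elim (·.1) fun k => absurd ?_ (by decide +kernel : z ≠ 1)
    exact left_eq_mul.1 ((hc a ha b hb).eq.symm.trans k.2))
  have h2 : Nat.card f.range ≤ Nat.card U := Nat.card_le_card_of_injective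
    (fun r => ⟨r.1.toAdd, by obtain ⟨_, y, rfl⟩ := r; exact ⟨y, y.2, rfl⟩⟩)
    fun a b e => Subtype.ext (congrArg (fun u : U => u.1) e)
  have h3 : Nat.card f.ker ≤ Nat.card Zm := Nat.card_le_card_of_injective
    (fun r => ⟨r.1.1, (τ_eq_zero (h r.1.2)).1 r.2⟩) fun a b e =>
      Subtype.ext (Subtype.ext (congrArg (fun u : Zm => u.1) e))
  have h4 := f.ker.card_mul_index
  rw [index_ker] at h4
  rw [card_Z] at h3
  exact h4 ▸ Nat.mul_le_mul h3 (h2.trans h1)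

theorem mem_Cz {m : M} : m ∈ Cz ↔ Commute m z :=
  mq_tr.symm

theorem Cz_conj {m x : M} (hm : m ∈ Cz) (hx : x ∈ Qm) : m * x * m⁻¹ ∈ Qm := by
  have k : ∀ g ∈ Cz, ∀ v, bf (sa g.l v) e1 = bf v e1 := fun g hg v => by
    have o : sa g.l e1 = e1 := hg
    rw [← S86.bf_sa g.l v e1, o]
  refine ⟨?_, mul_mem (mul_mem hm hx.2.1) (inv_mem hm), fun v hv => ?_⟩
  · rw [mul_a, mul_a, S86.bf_mul, S86.bf_mul, k _ hm, k _ (mul_mem hm hx.2.1), inv_a, ← inv_l, k _ (inv_mem hm), hx.1]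
    simp
  · have o : sa m.l e1 = e1 := hm
    rw [mul_l, mul_l, S86.mul_sa, S86.mul_sa]
    rcases hx.2.2 (sa m⁻¹.l v) ((k _ (inv_mem hm) v).trans hv) with e | e <;> rw [e, inv_l]
    exacts [Or.inl (S86.sa_inv_sa _ _), Or.inr (by rw [S86.sa_mul, S86.sa_inv_sa, o])]

theorem Cz_d {m : M} (hm : m ∈ Cz) : m * d * m⁻¹ = d ∨ m * d * m⁻¹ = z * d := by
  have o : sa m.l e1 = e1 := hm
  have l : m.l * tv e1 * m.l⁻¹ = tv e1 := by rw [S86.conj_tv, o]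
  have e : m * d * m⁻¹ = ⟨m.a * sa (tv e1) m.a, tv e1⟩ := M.ext (by
    show m.a * sa m.l 1 * sa (m.l * tv e1) (sa m.l⁻¹ m.a) = _
    rw [S86.sa_one, mul_one, ← S86.mul_sa, l]) l
  rw [e]
  exact (by decide +kernel : ∀ a : E64, (⟨a * sa (tv e1) a, tv e1⟩ : M) = d ∨ (⟨a * sa (tv e1) a, tv e1⟩ : M) = z * d) _

theorem act_basis {g : P0} (hg : g ∈ OK 0) {C : ℕ} (h : ∀ i < 10, g (τ (qg i)) = lin C (τ (qg i))) : Act g C := by
  intro v
  have k : ∀ i < 8, lin TAU (vc (2 ^ i)) = τ (qg (i + 2)) := by decide +kernel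
  rw [← (by decide +kernel : ∀ v : V0, lin TAU (lin 0x844cc44821133112 v) = v) v]
  exact Parr.add_ext (f := fun v => g (lin TAU v)) (g := fun v => lin C (lin TAU v))
    (fun u v => by rw [Parr.lin_add, Parr.OK.add hg]) (fun u v => by rw [Parr.lin_add, Parr.lin_add])
    (fun i hi => by rw [k i hi]; exact h _ (by omega)) _

end CfsgLib.Fi64
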