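import Mathlib
import Cfsg.Agent.Lib.Fi64.Api
import Cfsg.Agent.Lib.Fi64.MQ
import Cfsg.Agent.Lib.Fi64.MI
import Cfsg.Agent.Lib.Fi64.MJ
import Cfsg.Agent.Lib.Fi64.MK
import Cfsg.Agent.Lib.Fi64.Gold

/-! The case that `T` is a Sylow subgroup (project E64, plans/E64.md). -/

set_option autoImplicit false
set_option maxRecDepth 100000
set_option Elab.async false

namespace CfsgLib.Fi64

open Subgroup Cfsg CfsgLib.W2 CfsgLib.Tech CfsgLib.PComp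
open CfsgLib.S86 (E64 SM e1 f1 e2 f2 e3 f3 bf sa tv oc t1)
open CfsgLib.Parr (P0 V0 vc lin mp idM Act Gam Gam0 L0 U0 OK q0 b0 om t0 v0 sg nC Sg Tst)

variable {G : Type*} [Group G] [Finite G]

namespace Sit

variable {A : Subgroup G} {π : G → M} {j : M → G} (S : Sit A π j)
include S

theorem c1_nsq (h : IsSylowIn 2 (J j Tm) ⊤) (t : G) : t * t ≠ j d := by
  have zT : z ∈ Tm := tr_mem _
  have dZ : d ∈ Zm := mem_Z.2 (by simp)
  have dT : d ∈ Tm := Q_le_T (Z_le_Q dZ)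
  have m := fun x (hx : x ∈ Tm) => (S.j_mem (X := Tm) hx).2 hx
  refine nsq h (m z zT) (m d dT) (fun e => absurd ((S.j_eq_one zT).1 e) (by decide +kernel))
    ((S.j_sq zT).2 (by decide +kernel)) ((S.j_sq dT).2 (by decide +kernel)) (fun x hx => ?_) (fun x hx => ?_)
    (fun x hx k => ?_) (fun x hx _ k => ?_)
    ⟨j (qe 72), m _ (Q_le_T (qe_mem _)), (S.j_comm (Q_le_T (qe_mem _)) dT).2 (Z_cent dZ (qe_mem _)).symm, by
      rw [← S.jm _ (Q_le_T (qe_mem _)) _ (Q_le_T (qe_mem _)), show qe 72 * qe 72 = z by decide +kernel]⟩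
    (fun x hx => ?_) t <;> obtain ⟨y, hy, -, rfl⟩ := S.mem_J.1 hx
  · exact (S.j_comm hy zT).2 (mem_Cz.1 (T_le_Cz hy))
  · rw [← S.j_conj hy dT, ← S.jm _ zT _ dT]
    exact (Cz_d (T_le_Cz hy)).imp (congrArg j) (congrArg j)
  · exact (cent_T fun x hx => (S.j_comm hy hx).1 (k _ (m x hx))).imp (S.j_eq_one hy).2 (congrArg j)
  · rw [← S.jm _ zT _ dT]
    exact (mem_Z.1 (cent_Q fun x hx => (S.j_comm hy (Q_le_T hx)).1 (k _ (m x (Q_le_T hx))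
      ((S.j_comm (Q_le_T hx) dT).2 (Z_cent dZ hx).symm)))).imp (S.j_eq_one hy).2
      (Or.imp (congrArg j) (Or.imp (congrArg j) (congrArg j)))
  · rw [← S.jm _ zT _ dT, ← S.jm _ hy _ hy]
    exact ⟨fun e => (nsq_d y).1 (S.j_inj (mul_mem hy hy) dT e),
      fun e => (nsq_d y).2 (S.j_inj (mul_mem hy hy) (mul_mem zT dT) e)⟩

theorem c1_wc {k : G} (h : cj k (J j Bm) ≤ J j Tm) : cj k (J j Bm) = J j Bm := by
  let E : Subgroup M := subOf (fun x => x ∈ Tm ∧ j x ∈ cj k (J j Bm)) ⟨one_mem _, S.j_one ▸ one_mem _⟩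
    fun a b ha hb => ⟨mul_mem ha.1 hb.1, S.jm a ha.1 b hb.1 ▸ mul_mem ha.2 hb.2⟩
  have e : cj k (J j Bm) = J j E := le_antisymm (fun g hg => by
      obtain ⟨x, hx, -, rfl⟩ := S.mem_J.1 (h hg)
      exact (S.j_mem hx).2 ⟨hx, hg⟩) fun g hg => by
    obtain ⟨x, hx, -, rfl⟩ := S.mem_J.1 hg
    exact hx.2
  have l : E ≤ Tm := fun x hx => hx.1
  rw [e, J_T l (fun x hx => ?_) (by rw [← S.card_J l, ← e, card_cj, S.card_J (B_le_U.trans U_le_T), card_B])]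
  obtain ⟨y, hy, hy', e'⟩ := S.mem_J.1 (mem_cj.1 hx.2)
  have := (S.j_sq hy').2 (B_sq hy)
  rw [e', show k⁻¹ * j x * k * (k⁻¹ * j x * k) = k⁻¹ * (j x * j x) * k⁻¹⁻¹ by group, conj_eq_one_iff] at this
  exact (S.j_sq hx.1).1 this

theorem c1_W (h : IsSylowIn 2 (J j Tm) ⊤) {r : G} (hr : r ∈ Nm (J j Bm)) : ∀ x ∈ Wm, π (r * j x * r⁻¹) ∈ Wm := by
  have BT := B_le_U.trans U_le_T
  have k : ∀ n g : G, (∃ t, t * t = n * g * n⁻¹) ↔ ∃ t, t * t = g := fun n g =>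
    ⟨fun ⟨t, e⟩ => ⟨n⁻¹ * t * n, by rw [show n⁻¹ * t * n * (n⁻¹ * t * n) = n⁻¹ * (t * t) * n by group, e]; group⟩,
      fun ⟨t, e⟩ => ⟨n * t * n⁻¹, by rw [conj_mul, e]⟩⟩
  obtain ⟨a, e⟩ := S.aut BT hr
  refine count_W a (NS := fun x => ¬ ∃ t, t * t = j x) (fun x hx => by rw [e x hx, k]) (fun m x hx hx' => ?_)
    (fun k => k ⟨1, by rw [S.j_one, mul_one]⟩) (fun ⟨t, e⟩ => S.c1_nsq h t (rp_vals.2.1 ▸ e)) fun i hi k => ?_
  · obtain ⟨n, -, -, e⟩ := S.conjM (BT hx) (BT hx') rfl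
    rw [← e, k]
  · obtain ⟨t, ht⟩ := sq_rp i hi
    obtain ⟨g, -, e⟩ := S.sq (te_mem _) ht
    exact k ⟨g, e⟩

theorem c1_sc (h : IsSylowIn 2 (J j Tm) ⊤) (k : G) {a : G} (ha : a ∈ A) (hk : k * a * k⁻¹ ∈ J j Tm) :
    k * a * k⁻¹ ∈ A := by
  have BT := B_le_U.trans U_le_T
  obtain ⟨v, rfl⟩ := S.mem_A.1 ha
  by_cases v1 : v = 1
  · rw [v1, show tr 1 = 1 from rfl, S.j_one, mul_one, mul_inv_cancel]; exact one_mem _
  obtain ⟨x, hx, -, e⟩ := S.mem_J.1 hk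
  obtain ⟨i, hi, m, hm⟩ := inv_rep (x := x) ((S.j_sq hx).1 (by
      rw [e, conj_mul, ← S.jm _ (tr_mem v) _ (tr_mem v), ← tr_mul, S86.E_sq, show tr 1 = 1 from rfl, S.j_one]; group))
    fun x1 => v1 (by
      rw [x1, S.j_one, eq_comm, conj_eq_one_iff, S.j_eq_one (tr_mem v)] at e
      exact congrArg M.a e)
  have iB := (rp_mem i hi).1
  obtain ⟨n, hn, -, e1'⟩ := S.conjM hx (BT iB) hm
  obtain ⟨g, hg⟩ := S86.Wt.to_e1 v1
  obtain ⟨n', hn', e2'⟩ := S.πs (sy g)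
  have e3' := S.conj_A hn' v
  rw [e2', show (sy g).l = g from rfl, hg] at e3'
  have e4 : n * k * n'⁻¹ * j z * (n * k * n'⁻¹)⁻¹ = j (rp i) := by rw [z, ← e3', ← e1', e]; group
  have zW : z ∈ Wm := by decide +kernel
  obtain ⟨r, -, hr, e5⟩ := wcf h (S.J_le_T Bm) (fun a ha b hb => by
      obtain ⟨x, hx, hx', rfl⟩ := S.mem_J.1 ha
      obtain ⟨y, hy, hy', rfl⟩ := S.mem_J.1 hb
      exact (S.j_comm hx' hy').2 (B_comm hx hy)) (fun k _ => S.c1_wc) (mem_top (n * k * n'⁻¹))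
    ((S.j_mem (tr_mem _)).2 (W_le_B zW)) (by rw [show j (tr e1) = j z from rfl, e4]; exact (S.j_mem (BT iB)).2 iB)
  have e6 := S.c1_W h hr z zW
  rw [show j (tr e1) = j z from rfl, e4] at e5
  rw [e5, S.πj _ (BT iB)] at e6
  have e7 : j (rp i) ∈ A := by rw [S.hA]; exact (S.j_mem (BT iB)).2 (W_le_Ab e6)
  have := conj_mem_of_mem_normalizer' hn e7
  rwa [← e1', show n⁻¹ * (n * j x * n⁻¹) * n = j x by group, e] at this

theorem case1 (h : IsSylowIn 2 (J j Tm) ⊤) : A.Normal := by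
  have dT : d ∈ Tm := Q_le_T (Z_le_Q (mem_Z.2 (by simp)))
  have := gold0 (E := A) (i := j d) h (S.hA ▸ S.J_le_T Ab) (fun e he => by
      obtain ⟨v, rfl⟩ := S.mem_A.1 he
      rw [← S.jm _ (tr_mem v) _ (tr_mem v), ← tr_mul, S86.E_sq]; exact S.j_one)
    (fun k e he => S.c1_sc h k he)
    (fun s hs k => S.two_cent (fun e he => (k e he).symm) (Two.of_mem (S.pgJ Tm) hs)) ((S.j_mem dT).2 dT)
    (fun k => (by decide +kernel : d ∉ Ab) ((S.j_mem dT).1 (S.hA ▸ k))) ((S.j_sq dT).2 (by decide +kernel))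
    fun L l hL => by
      refine or_iff_not_imp_left.2 fun k => ?_
      push Not at k
      obtain ⟨g, hg, e, he, k⟩ := k
      obtain ⟨n, n1, n2, n3⟩ := S.normal_N (fun n hn x hx _ => hL n hn x hx) hg (l hg)
        (fun k' => k ((S.cent_A (l hg)).2 k' e he).symm) d.l
      refine ⟨n, n1, fun e he => ((S.cent_A (mul_mem (inv_mem n2) (S.jN d dT))).2 ?_ e he).symm⟩
      rw [S.πm _ (inv_mem n2) _ (S.jN d dT), S.π_inv n2, S.πj d dT, mul_l, inv_l, n3, inv_mul_cancel]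
  rw [show pPrimeCore 2 G = ⊥ from S.hO, bot_sup_eq] at this
  exact normalizer_eq_top_iff.1 this

end Sit

end CfsgLib.Fi64
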