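import Mathlib
import Cfsg.Agent.Lib.Fi64.Api
import Cfsg.Agent.Lib.Fi64.MQ

/-! The normalizer of `Q` (project E64, plans/E64.md). -/

set_option autoImplicit false
set_option maxRecDepth 100000
set_option Elab.async false

namespace CfsgLib.Fi64

open Subgroup Cfsg CfsgLib.W2 CfsgLib.Tech CfsgLib.PComp
open CfsgLib.S86 (E64 SM e1 f1 e2 f2 e3 f3 bf sa tv oc t1)
open CfsgLib.Parr (P0 V0 vc lin mp idM Act Gam Gam0 L0 U0 OK q0 b0 om t0 v0 sg nC Sg Tst)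

variable {G : Type*} [Group G] [Finite G]

theorem h0_z : z ∈ Zm := mem_Z.2 (.inr (.inl rfl))
theorem h0_d : d ∈ Zm := mem_Z.2 (.inr (.inr (.inl rfl)))
theorem h0_zT : z ∈ Tm := Q_le_T (Z_le_Q h0_z)
theorem h0_dT : d ∈ Tm := Q_le_T (Z_le_Q h0_d)
theorem h0_zd : z * z = 1 ∧ z ≠ 1 ∧ d * d = 1 ∧ d ≠ 1 ∧ d ≠ z ∧ Commute z d ∧ qe 72 * qe 72 = z := by decide +kernel

theorem h0_τ_inv {x : M} (hx : x ∈ Qm) : τ x⁻¹ = τ x := by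
  rw [← Parr.add_eq_zero', ← τ_mul (inv_mem hx) hx, inv_mul_cancel, τ_eq_zero (one_mem _)]
  exact one_mem _

theorem h0_q {x : M} (hx : x ∈ Qm) : q0 (τ x) = if x * x = 1 then 0 else 1 := by
  rcases Q_sq hx with ⟨a, e⟩ | ⟨a, e⟩ <;> rw [a, e]
  · rw [if_pos rfl]
  · rw [if_neg h0_zd.2.1]

namespace Sit

variable {A : Subgroup G} {π : G → M} {j : M → G} (S : Sit A π j)
include S

theorem mem_Q {g : G} : g ∈ J j Qm ↔ ∃ x ∈ Qm, j x = g := by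
  exact S.mem_J.trans ⟨fun ⟨x, a, _, e⟩ => ⟨x, a, e⟩, fun ⟨x, a, e⟩ => ⟨x, a, Q_le_T a, e⟩⟩

theorem mem_JZ {g : G} : g ∈ J j Zm ↔ g = 1 ∨ g = j z ∨ g = j d ∨ g = j z * j d := by
  have e := S.jm _ h0_zT _ h0_dT
  constructor
  · intro h
    obtain ⟨x, a, -, rfl⟩ := S.mem_J.1 h
    rcases mem_Z.1 a with rfl | rfl | rfl | rfl
    exacts [.inl S.j_one, .inr (.inl rfl), .inr (.inr (.inl rfl)), .inr (.inr (.inr e))]
  · have a := (S.j_mem (X := Zm) h0_zT).2 h0_z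
    have b := (S.j_mem (X := Zm) h0_dT).2 h0_d
    rintro (rfl | rfl | rfl | rfl)
    exacts [one_mem _, a, b, mul_mem a b]

theorem zd : j z * j z = 1 ∧ j z ≠ 1 ∧ j d * j d = 1 ∧ j d ≠ 1 ∧ j d ≠ j z ∧ Commute (j z) (j d) ∧ j (z * d) = j z * j d := by
  obtain ⟨a, b, c, e, g, k, -⟩ := h0_zd
  exact ⟨(S.j_sq h0_zT).2 a, fun h => b ((S.j_eq_one h0_zT).1 h), (S.j_sq h0_dT).2 c,
    fun h => e ((S.j_eq_one h0_dT).1 h), fun h => g (S.j_inj h0_dT h0_zT h), (S.j_comm h0_zT h0_dT).2 k,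
    S.jm _ h0_zT _ h0_dT⟩

theorem T_le_H : J j Tm ≤ Nm (J j Qm) := by
  intro g hg
  obtain ⟨x, hx, -, rfl⟩ := S.mem_J.1 hg
  refine mem_normalizer_of_forall fun y hy => ?_
  obtain ⟨w, hw, rfl⟩ := S.mem_Q.1 hy
  rw [← S.j_conj hx (Q_le_T hw)]
  exact S.mem_Q.2 ⟨_, Cz_conj (T_le_Cz hx) hw, rfl⟩

theorem jH {x : M} (hx : x ∈ Tm) : j x ∈ Nm (J j Qm) := by
  exact S.T_le_H ((S.j_mem hx).2 hx)

theorem C_le_H : Ce (J j Qm) ≤ Nm (J j Qm) := by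
  exact centralizer_le_normalizer _

theorem H_conj_C {h c : G} (hh : h ∈ Nm (J j Qm)) (hc : c ∈ Ce (J j Qm)) : h * c * h⁻¹ ∈ Ce (J j Qm) := by
  intro s hs
  simpa [mul_assoc] using congrArg (fun y => h * y * h⁻¹) (hc _ (conj_mem_of_mem_normalizer' hh hs))

theorem H_z {h : G} (hh : h ∈ Nm (J j Qm)) : Commute h (j z) := by
  have m := qe_mem 72
  obtain ⟨y, hy, e⟩ := S.mem_Q.1 (conj_mem_of_mem_normalizer hh (S.mem_Q.2 ⟨_, m, rfl⟩))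
  have e2 : j (y * y) = h * j z * h⁻¹ := by
    rw [S.jm _ (Q_le_T hy) _ (Q_le_T hy), e, conj_mul, ← S.jm _ (Q_le_T m) _ (Q_le_T m), h0_zd.2.2.2.2.2.2]
  rcases Q_sq hy with ⟨-, k⟩ | ⟨-, k⟩ <;> rw [k] at e2
  · rw [S.j_one, eq_comm, conj_eq_one_iff] at e2
    exact absurd e2 S.zd.2.1
  · exact (eq_mul_inv_iff_mul_eq.1 e2).symm

theorem h0_ZC {g : G} : g ∈ J j Zm ↔ g ∈ J j Qm ∧ g ∈ Ce (J j Qm) := by
  constructor
  · intro h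
    refine ⟨S.J_mono Z_le_Q h, fun y hy => ?_⟩
    obtain ⟨x, a, b, rfl⟩ := S.mem_J.1 h
    obtain ⟨w, hw, rfl⟩ := S.mem_Q.1 hy
    exact ((S.j_comm b (Q_le_T hw)).2 (Z_cent a hw)).symm
  · rintro ⟨a, b⟩
    obtain ⟨x, hx, rfl⟩ := S.mem_Q.1 a
    exact (S.j_mem (Q_le_T hx)).2 (cent_Q fun y hy =>
      (S.j_comm (Q_le_T hx) (Q_le_T hy)).1 (b _ (S.mem_Q.2 ⟨y, hy, rfl⟩)).symm)

theorem h0_nZ {h g : G} (hh : h ∈ Nm (J j Qm)) (hg : g ∈ J j Zm) : h * g * h⁻¹ ∈ J j Zm :=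
  S.h0_ZC.2 ⟨conj_mem_of_mem_normalizer hh (S.h0_ZC.1 hg).1, S.H_conj_C hh (S.h0_ZC.1 hg).2⟩

theorem H_d {h : G} (hh : h ∈ Nm (J j Qm)) : h * j d * h⁻¹ = j d ∨ h * j d * h⁻¹ = j z * j d := by
  rcases S.mem_JZ.1 (S.h0_nZ hh ((S.j_mem h0_dT).2 h0_d)) with e | e | e
  · exact absurd (conj_eq_one_iff.1 e) S.zd.2.2.2.1
  · rw [mul_inv_eq_iff_eq_mul, ← (S.H_z hh).eq, mul_right_inj] at e
    exact absurd e S.zd.2.2.2.2.1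
  · exact e

theorem Q_sqG {g : G} (hg : g ∈ J j Qm) : g * g ∈ zpowers (j z) := by
  obtain ⟨x, hx, rfl⟩ := S.mem_Q.1 hg
  rw [← S.jm _ (Q_le_T hx) _ (Q_le_T hx)]
  rcases Q_sq hx with ⟨-, k⟩ | ⟨-, k⟩ <;> rw [k]
  exacts [S.j_one ▸ one_mem _, mem_zpowers _]

theorem Q_commG {g k : G} (hg : g ∈ J j Qm) (hk : k ∈ J j Qm) : g * k * g⁻¹ * k⁻¹ ∈ zpowers (j z) := by
  obtain ⟨x, hx, rfl⟩ := S.mem_Q.1 hg
  obtain ⟨y, hy, rfl⟩ := S.mem_Q.1 hk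
  have a := Q_le_T hx
  have b := Q_le_T hy
  rw [← S.jm _ a _ b]
  rcases Q_comm hx hy with ⟨-, k⟩ | ⟨-, k⟩ <;> rw [k]
  · rw [S.jm _ b _ a]; simp
  · rw [← (Z_cent h0_z (mul_mem hy hx)).eq, S.jm _ h0_zT _ (mul_mem b a), S.jm _ b _ a]
    simp [mul_assoc]

theorem liftH {m : M} (hm : m ∈ Cz) :
    ∃ n ∈ Nm A, n ∈ Nm (J j Qm) ∧ π n = m ∧ ∀ x ∈ Qm, n * j x * n⁻¹ = j (m * x * m⁻¹) := by
  exact S.liftN Q_le_T fun x hx => Cz_conj hm hx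

theorem piH {n : G} (hn : n ∈ Nm A) (hh : n ∈ Nm (J j Qm)) :
    π n ∈ Cz ∧ ∀ x ∈ Qm, n * j x * n⁻¹ = j (π n * x * (π n)⁻¹) := by
  refine ⟨mem_Cz.2 ?_, fun x hx =>
    (S.cj_eq hn (Q_le_T hx) (conj_mem_of_mem_normalizer hh (S.mem_Q.2 ⟨x, hx, rfl⟩))).2.2⟩
  have := congrArg π (S.H_z hh).eq
  rwa [S.πm _ hn _ (S.jN _ h0_zT), S.πm _ (S.jN _ h0_zT) _ hn, S.πj _ h0_zT] at this

theorem ab64G {Y : Subgroup G} (h : Y ≤ J j Qm) (hc : ∀ x ∈ Y, ∀ y ∈ Y, Commute x y) : Nat.card Y ≤ 64 := by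
  let Y' : Subgroup M := (Y.comap S.jh).map Tm.subtype
  have m : ∀ x ∈ Y', x ∈ Tm ∧ j x ∈ Y := by
    rintro _ ⟨x, hx, rfl⟩
    exact ⟨x.2, hx⟩
  have l : Y ≤ J j Y' := fun y hy => by
    obtain ⟨x, hx, rfl⟩ := S.mem_Q.1 (h hy)
    exact (S.j_mem (Q_le_T hx)).2 ⟨⟨x, Q_le_T hx⟩, hy, rfl⟩
  refine (card_le_of_le l).trans ?_
  rw [S.card_J (map_subtype_le _)]
  exact ab64 (fun x hx => (S.j_mem (m x hx).1).1 (h (m x hx).2)) fun x hx y hy =>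
    (S.j_comm (m x hx).1 (m y hy).1).1 (hc _ (m x hx).2 _ (m y hy).2)

theorem exists_rep : ∃ f, Rep A π j f := by
  classical
  choose s sQ sp using τ_surj
  have wd : ∀ h : Nm (J j Qm), ∀ x ∈ Qm, τ (π (h * j (s (τ x)) * (h : G)⁻¹)) = τ (π (h * j x * (h : G)⁻¹)) :=
    fun h x hx => by
    obtain ⟨a, e⟩ := S.aut Q_le_T h.2
    have m := (τ_eq (sQ _) hx).1 (sp (τ x))
    have m' := mul_mem (inv_mem (sQ (τ x))) hx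
    rw [τ_eq (a.mem _ (sQ _)) (a.mem _ hx), ← a.inv (sQ _), ← a.mul _ (inv_mem (sQ _)) _ hx,
      ← S.j_mem (Q_le_T (a.mem _ m')), e _ m']
    exact S.h0_nZ h.2 ((S.j_mem (Q_le_T m')).2 m)
  let r : Nm (J j Qm) →* P0 := MonoidHom.toHomPerm
    { toFun := fun h v => τ (π (h * j (s v) * (h : G)⁻¹))
      map_one' := funext fun v => by simp [S.πj _ (Q_le_T (sQ v)), sp]; rfl
      map_mul' := fun a b => funext fun v => by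
        change _ = τ (π (_ * j (s (τ _)) * _))
        obtain ⟨c, e⟩ := S.aut Q_le_T b.2
        rw [wd a _ (c.mem _ (sQ v)), e _ (sQ v)]; simp [mul_assoc] }
  have ra : ∀ h : Nm (J j Qm), ∀ x ∈ Qm, r h (τ x) = τ (π (h * j x * (h : G)⁻¹)) := wd
  refine ⟨fun g => if h : g ∈ Nm (J j Qm) then r ⟨g, h⟩ else 1, S, fun a ha b hb => ?_,
    fun h hh x hx y hy e => ?_, fun h hh => ?_⟩
  · rw [dif_pos ha, dif_pos hb, dif_pos (mul_mem ha hb), ← map_mul]; rfl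
  · rw [dif_pos hh, ra _ x hx, e, S.πj _ (Q_le_T hy)]
  · obtain ⟨a, e⟩ := S.aut Q_le_T hh
    rw [dif_pos hh]
    refine ⟨fun u v => ?_, fun v => ?_⟩
    · rw [← sp u, ← sp v, ← τ_mul (sQ u) (sQ v), ra _ _ (mul_mem (sQ u) (sQ v)), ra _ _ (sQ u), ra _ _ (sQ v),
        ← τ_mul (a.mem _ (sQ u)) (a.mem _ (sQ v)), ← a.mul _ (sQ u) _ (sQ v)]
    · rw [← sp v, ra _ _ (sQ v), Parr.qk_zero_left, Parr.qk_zero_left, h0_q (a.mem _ (sQ v)), h0_q (sQ v),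
        ← a.mul _ (sQ v) _ (sQ v)]
      congr 1
      exact propext ⟨fun k => a.inj _ (mul_mem (sQ v) (sQ v)) _ (one_mem _) (k.trans a.one.symm),
        fun k => k ▸ a.one⟩

end Sit

namespace Rep

variable {A : Subgroup G} {π : G → M} {j : M → G} {f : G → P0} (R : Rep A π j f)
include R

theorem h0_comm {h : G} (hh : h ∈ Nm (J j Qm)) {x y : M} (hx : x ∈ Qm) (hy : y ∈ Qm)
    (e : h * j x * h⁻¹ * (j x)⁻¹ = j y) : τ y = f h (τ x) + τ x := by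
  rw [R.act h hh x hx _ (mul_mem hy hx) (by rw [R.jm _ (Q_le_T hy) _ (Q_le_T hx), ← e, inv_mul_cancel_right]),
    τ_mul hy hx, Parr.add_add_cancel]

theorem h0_fix {h : G} (hh : h ∈ Nm (J j Qm)) {x : M} (hx : x ∈ Qm) :
    f h (τ x) = τ x ↔ h * j x * h⁻¹ * (j x)⁻¹ ∈ J j Zm := by
  have m := R.mem_Q.2 ⟨x, hx, rfl⟩
  obtain ⟨y, hy, e⟩ := R.mem_Q.1 (mul_mem (conj_mem_of_mem_normalizer hh m) (inv_mem m))
  rw [← Parr.add_eq_zero', ← R.h0_comm hh hx hy e.symm, τ_eq_zero hy, ← e, R.j_mem (Q_le_T hy)]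

theorem f_eq_one {h : G} (hh : h ∈ Nm (J j Qm)) :
    f h = 1 ↔ ∀ g ∈ J j Qm, h * g * h⁻¹ * g⁻¹ ∈ J j Zm := by
  constructor
  · intro e g hg
    obtain ⟨x, hx, rfl⟩ := R.mem_Q.1 hg
    exact (R.h0_fix hh hx).1 (by rw [e]; rfl)
  · intro e
    refine Equiv.ext fun v => ?_
    obtain ⟨x, hx, rfl⟩ := τ_surj v
    exact (R.h0_fix hh hx).2 (e _ (R.mem_Q.2 ⟨x, hx, rfl⟩))

theorem f_Q {g : G} (hg : g ∈ J j Qm) : f g = 1 := by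
  refine (R.f_eq_one (le_normalizer hg)).2 fun k hk => ?_
  exact zpowers_le.2 ((R.j_mem h0_zT).2 h0_z) (R.Q_commG hg hk)

theorem f_C {c : G} (hc : c ∈ Ce (J j Qm)) : f c = 1 := by
  refine (R.f_eq_one (R.C_le_H hc)).2 fun k hk => ?_
  rw [← hc k hk]; simp

theorem f_N {n : G} (hn : n ∈ Nm A) (hh : n ∈ Nm (J j Qm)) {x : M} (hx : x ∈ Qm) : f n (τ x) = τ (π n * x * (π n)⁻¹) := by
  obtain ⟨a, b⟩ := R.piH hn hh
  exact R.act n hh x hx _ (Cz_conj a hx) (b x hx)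

theorem f_fix {h : G} (hh : h ∈ Nm (J j Qm)) {x : M} (hx : x ∈ Qm) : f h (τ x) = τ x ↔ h * j x * h⁻¹ * (j x)⁻¹ ∈ J j Zm := by
  exact R.h0_fix hh hx

theorem f_comm {h : G} (hh : h ∈ Nm (J j Qm)) {x y : M} (hx : x ∈ Qm) (hy : y ∈ Qm) (e : h * j x * h⁻¹ * (j x)⁻¹ = j y) :
    τ y = f h (τ x) + τ x := by
  exact R.h0_comm hh hx hy e

end Rep

end CfsgLib.Fi64
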