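import Mathlib
import Cfsg.Agent.Lib.Fi64.MQ

/-! The centralizer of `z` in the model (project E64, plans/E64.md). -/

set_option autoImplicit false
set_option maxRecDepth 100000
set_option Elab.async false

namespace CfsgLib.Fi64

open Subgroup Cfsg CfsgLib.W2 CfsgLib.Tech CfsgLib.PComp
open CfsgLib.S86 (E64 SM e1 f1 e2 f2 e3 f3 bf sa tv oc t1)
open CfsgLib.Parr (P0 V0 vc lin mp idM Act Gam Gam0 L0 U0 OK q0 b0 om t0 v0 sg nC Sg Tst)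

theorem tr_mem_Q {v : E64} : tr v ∈ Qm ↔ bf v e1 = false := by
  revert v
  decide +kernel

theorem inR_zero {w : V0} : inR 0 w ↔ ∃ v, bf v e1 = false ∧ τ (tr v) = w := by
  refine ⟨fun h => ?_, fun ⟨v, h, e⟩ => e ▸ ?_⟩
  · revert w
    decide +kernel
  · clear e
    revert v
    decide +kernel

theorem triv_A0 {m : M} (hm : m ∈ Cz) (h : ∀ v, bf v e1 = false → τ (tr (sa m.l v)) = τ (tr v)) : m ∈ Qm ∨ a0 * m ∈ Qm := by
  have hm' : sa m.l e1 = e1 := hm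
  have k : ∀ v, bf v e1 = false → sa m.l v = v ∨ sa m.l v = v * e1 := fun v hv =>
    (by decide +kernel : ∀ u v : E64, (tr u)⁻¹ * tr v ∈ Zm → u = v ∨ u = v * e1) _ _
      ((τ_eq (tr_mem_Q.2 (by rw [← hm', S86.bf_sa, hv])) (tr_mem_Q.2 hv)).1 (h v hv))
  cases e : bf m.a e1
  · exact .inl ⟨e, hm, k⟩
  · refine .inr ⟨?_, mul_mem (by decide +kernel) hm, ?_⟩
    · show bf (f1 * sa 1 m.a) e1 = false
      rw [S86.one_sa, S86.bf_mul, e]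
      decide +kernel
    · show ∀ v, bf v e1 = false → sa (1 * m.l) v = v ∨ sa (1 * m.l) v = v * e1
      rwa [one_mul]

theorem triv_V {m : M} (hm : m ∈ Cz) (h : ∀ x ∈ Qm, τ (m * x * m⁻¹) = τ x) : m ∈ Qm := by
  refine (triv_A0 hm fun v hv => conj_tr m v ▸ h _ (tr_mem_Q.2 hv)).resolve_right fun hq => ?_
  obtain ⟨n, hn, e⟩ := exists_Q hq
  have := h _ (qg_mem 7 (by omega))
  rw [← inv_mul_eq_of_eq_mul e] at this
  exact (by decide +kernel : ∀ n < 1024, τ (a0⁻¹ * qe n * qg 7 * (a0⁻¹ * qe n)⁻¹) ≠ τ (qg 7)) n hn this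

theorem inv_a0Q {q : M} (hq : q ∈ Qm) (h : a0 * q * (a0 * q) = 1) : ∃ q' ∈ Qm, q' * a0 * q'⁻¹ = a0 * q := by
  obtain ⟨n, hn, rfl⟩ := exists_Q hq
  obtain ⟨k, -, e⟩ := (by decide +kernel : ∀ n < 1024, a0 * qe n * (a0 * qe n) = 1 →
    ∃ k < 32, qe (64 * (k / 2) + 2 * (k % 2)) * a0 * (qe (64 * (k / 2) + 2 * (k % 2)))⁻¹ = a0 * qe n) n hn h
  exact ⟨_, qe_mem _, e⟩

theorem comm_a0 {q : M} (hq : q ∈ Qm) : q * a0 * q⁻¹ * a0⁻¹ ∈ Ab := by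
  show (q * a0 * q⁻¹ * a0⁻¹).l = 1
  rw [a0, conj_tr, mul_l, inv_l]
  exact mul_inv_cancel (1 : SM)

theorem comm_a0' {v : E64} (h : bf v e1 = false) : ∃ q ∈ Qm, q * a0 * q⁻¹ * a0⁻¹ = tr v := by
  obtain ⟨k, -, e⟩ := (by decide +kernel : ∀ v, bf v e1 = false →
    ∃ k < 32, qe (64 * (k / 2) + 2 * (k % 2)) * a0 * (qe (64 * (k / 2) + 2 * (k % 2)))⁻¹ * a0⁻¹ = tr v) v h
  exact ⟨_, qe_mem _, e⟩

theorem hg_mem : ∀ i < 6, hg i ∈ Cz := by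
  decide +kernel

theorem gen_Cz {K : Subgroup M} (hQ : Qm ≤ K) (h : ∀ i < 6, hg i ∈ K) : Cz ≤ K := by
  let S : Subgroup SM := K.comap (MonoidHom.mk' sy sy_mul)
  have cj : ∀ {u w}, tv u ∈ S → tv w ∈ S → tv (sa (tv u) w) ∈ S := fun hu hw =>
    S86.conj_tv _ _ ▸ mul_mem (mul_mem hu hw) (inv_mem hu)
  have b : ∀ u ∈ [1, e2, f2, e3, f3, e2 * e3], tv u ∈ S := by
    simp only [List.forall_mem_cons]
    exact ⟨S86.tv_one ▸ one_mem S, h 1 (by omega), h 2 (by omega), h 3 (by omega), h 4 (by omega), h 5 (by omega),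
      by simp⟩
  have hS : ∀ w, bf e1 w = false → tv w ∈ S := fun w hw => by
    obtain ⟨a, ha, a', ha', c, hc, c', hc', u, hu, e⟩ := (by decide +kernel : ∀ w, bf e1 w = false →
      ∃ a ∈ [1, e2, f2, e3, f3, e2 * e3], ∃ a' ∈ [1, e2, f2, e3, f3, e2 * e3], ∃ c ∈ [1, e2, f2, e3, f3, e2 * e3],
      ∃ c' ∈ [1, e2, f2, e3, f3, e2 * e3], ∃ u ∈ [1, e2, f2, e3, f3, e2 * e3],
        sa (tv a) (sa (tv a') (sa (tv c) (sa (tv c') u))) = w ∨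
        sa (tv a) (sa (tv a') (sa (tv c) (sa (tv c') u))) = w * e1) w hw
    have k := cj (b a ha) (cj (b a' ha') (cj (b c hc) (cj (b c' hc') (b u hu))))
    rcases e with e | e <;> rw [e] at k
    · exact k
    · exact (S.mul_mem_cancel_right k).1 (hQ ((by decide +kernel : ∀ w, bf e1 w = false →
        sy (tv w * tv (w * e1)) ∈ Qm) w hw))
  have hl : ∀ m, (∀ z ∈ [e1], sa m z = z) → m ∈ S := fun m hm => by
    refine S86.Wt.red (b := f1) (fun w h => hS w (h _ (by simp))) (by decide +kernel) (fun m hm => ?_) m hm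
    refine S86.Wt.red (b := e2) (fun w h => hS w (h _ (by simp))) (by decide +kernel) (fun m hm => ?_) m hm
    refine S86.Wt.red (b := f2) (fun w h => hS w (h _ (by simp))) (by decide +kernel) (fun m hm => ?_) m hm
    refine S86.Wt.red (b := e3) (fun w h => hS w (h _ (by simp))) (by decide +kernel) (fun m hm => ?_) m hm
    refine S86.Wt.red (b := f3) (fun w h => hS w (h _ (by simp))) (by decide +kernel) (fun m hm => ?_) m hm
    have : m = 1 := by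
      refine S86.sa_ext ?_ ?_ ?_ ?_ ?_ ?_ <;> rw [S86.one_sa] <;> exact hm _ (by simp)
    exact this ▸ S.one_mem
  intro m hm
  rw [← tr_mul_sy m]
  refine mul_mem ?_ (hl m.l fun z hz => by rw [List.mem_singleton.1 hz]; exact hm)
  cases e : bf m.a e1
  · exact hQ (tr_mem_Q.2 e)
  · rw [← mul_inv_cancel_left f1 m.a, tr_mul]
    refine mul_mem (h 0 (by omega)) (hQ (tr_mem_Q.2 ?_))
    rw [S86.bf_mul, e]
    decide +kernel

theorem hg_act : ∀ i < 6, ∀ k < 10, τ (hg i * qg k * (hg i)⁻¹) = lin (hc i) (τ (qg k)) := by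
  decide +kernel

theorem bq_act : ∀ k < 10, τ (bq 0 1 (qg k)) = lin (hc 6) (τ (qg k)) := by
  decide +kernel

/-- the action of `a0` on `V0` -/
theorem a0_act : (∀ v, inR 0 v → lin (hc 0) v = v) ∧ (∀ v, inR 0 (lin (hc 0) v + v)) ∧ ∃ v, lin (hc 0) v ≠ v := by
  decide +kernel

theorem yy_mem : ∀ i < 5, yy i ∈ Tm := by
  decide +kernel

theorem dt_coset {i : ℕ} (hi : i < 5) {q : M} (hq : q ∈ Qm) (h : yy i * q * (yy i * q) = 1) (hd : DT (yy i * q)) :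
    (i = 0 ∧ (q = d ∨ q = z * d)) ∨ (i = 3 ∧ ∃ q' ∈ Qm, q' * h2 * q'⁻¹ = h2 * q) := by
  obtain ⟨n, hn, rfl⟩ := exists_Q hq
  refine ((by decide +kernel : ∀ i < 5, ∀ n < 1024, yy i * qe n * (yy i * qe n) = 1 → DT (yy i * qe n) →
    (i = 0 ∧ (qe n = d ∨ qe n = z * d)) ∨ (i = 3 ∧ ∃ k < 4, qe (128 * (k / 2) + 8 * (k % 2)) * h2 *
      (qe (128 * (k / 2) + 8 * (k % 2)))⁻¹ = h2 * qe n)) i hi n hn h hd).imp_right (And.imp_right ?_)
  exact fun ⟨k, _, e⟩ => ⟨_, qe_mem _, e⟩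

theorem cen_h2 {q : M} (hq : q ∈ Qm) (h : q * h2 * q⁻¹ * h2⁻¹ ∈ Zm) : Commute q h2 := by
  obtain ⟨n, hn, rfl⟩ := exists_Q hq
  clear hq
  revert n
  decide +kernel

theorem v0_sq {q : M} (hq : q ∈ Qm) (h : h2 * h3 * q * (h2 * h3 * q) ∈ Zm) : q ∈ Bm := by
  obtain ⟨n, hn, rfl⟩ := exists_Q hq
  clear hq
  revert n
  decide +kernel

theorem v0_fix {q : M} (hq : q ∈ Qm) (h : v0 (τ q) = τ q) : q ∈ Bm := by
  obtain ⟨n, hn, rfl⟩ := exists_Q hq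
  clear hq
  revert n
  decide +kernel

theorem h2_inv {q : M} (hq : q ∈ Qm) (h : h2 * q * (h2 * q) = 1) : ∃ m ∈ Cz, m * (h2 * q) * m⁻¹ ∈ Bm := by
  obtain ⟨n, hn, rfl⟩ := exists_Q hq
  obtain ⟨m, hm, e⟩ := (by decide +kernel : ∀ n < 1024, h2 * qe n * (h2 * qe n) = 1 →
    ∃ m ∈ [1, x3, x3⁻¹], m * (h2 * qe n) * m⁻¹ ∈ Bm) n hn h
  exact ⟨m, (by decide +kernel : ∀ m ∈ [1, x3, x3⁻¹], m ∈ Cz) m hm, e⟩

theorem h2_four {q : M} (hq : q ∈ Qm) (h : h2 * q * (h2 * q) = z) : ∃ c ∈ Qm, ∃ c' ∈ Qm, c * c = 1 ∧ c' * c' = 1 ∧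
    Commute c h2 ∧ Commute c' h2 ∧ q = c * c' := by
  obtain ⟨n, hn, rfl⟩ := exists_Q hq
  obtain ⟨k, -, e⟩ := (by decide +kernel : ∀ n < 1024, h2 * qe n * (h2 * qe n) = z →
    ∃ k < 2, qe (16 * k + 16) * qe (16 * k + 16) = 1 ∧ qe (16 * k + 16) * qe n * (qe (16 * k + 16) * qe n) = 1 ∧
      Commute (qe (16 * k + 16)) h2 ∧ Commute (qe (16 * k + 16) * qe n) h2 ∧
      qe n = qe (16 * k + 16) * (qe (16 * k + 16) * qe n)) n hn h
  exact ⟨_, qe_mem _, _, mul_mem (qe_mem _) hq, e⟩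

theorem outer_d {i : ℕ} (hi : i = 1 ∨ i = 2) {q : M} (hq : q ∈ Qm) : ¬ Commute (yy i * q) d := by
  obtain ⟨n, hn, rfl⟩ := exists_Q hq
  clear hq
  rcases hi with rfl | rfl <;> revert n <;> decide +kernel

/-- the two hexads through `d`, `z * d` which are used -/
noncomputable def hx (v : E64) (i : ℕ) : M := [sy (tv v), tr v * sy (tv v), sy (tv (e1 * v)), tr (e1 * v) * sy (tv (e1 * v))].getD i 1

theorem hx_ok : ∀ v ∈ [e2, e3], hx v 0 * hx v 1 * hx v 2 * hx v 3 = z ∧ (∀ i < 4, hx v i ∈ Bm ∧ DT (hx v i) ∧ hx v i ∉ Zm) ∧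
    ∀ i < 4, ∀ k < i, hx v i ≠ hx v k := by
  decide +kernel

theorem BQ_le {K : Subgroup M} (hZ : Zm ≤ K) (h : ∀ v ∈ [e2, e3], hx v 0 * hx v 1 ∈ K ∧ hx v 0 * hx v 2 ∈ K) : Bm ⊓ Qm ≤ K := by
  rintro _ ⟨hB, hq⟩
  obtain ⟨n, hn, rfl⟩ := exists_Q hq
  obtain ⟨h1, h2⟩ := h e2 (by simp)
  obtain ⟨h3, h4⟩ := h e3 (by simp)
  have hd : d ∈ K := hZ (by decide +kernel)
  rw [(by decide +kernel : ∀ n < 1024, qe n ∈ Bm → qe n = pe (fun i => [z, d, hx e2 0 * hx e2 1, 1, hx e3 0 * hx e3 1, 1,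
    d * (hx e2 0 * hx e2 2), 1, d * (hx e3 0 * hx e3 2), 1].getD i 1) 10 n) n hn hB]
  refine pe_mem _ _ fun i hi => ?_
  interval_cases i
  exacts [hZ (by decide +kernel), hd, h1, one_mem _, h3, one_mem _, mul_mem hd h2, one_mem _, mul_mem hd h4, one_mem _]

end CfsgLib.Fi64
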