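import Mathlib
import Cfsg.Agent.Lib.Fi64.H0
import Cfsg.Agent.Lib.Fi64.MR

/-! The centralizer of `Q` (project E64, plans/E64.md). -/

set_option autoImplicit false
set_option linter.unusedSectionVars false
set_option maxRecDepth 100000
set_option Elab.async false

namespace CfsgLib.Fi64

open Subgroup Cfsg CfsgLib.W2 CfsgLib.Tech CfsgLib.PComp
open CfsgLib.S86 (E64 SM e1 f1 e2 f2 e3 f3 bf sa tv oc t1)
open CfsgLib.Parr (P0 V0 vc lin mp idM Act Gam Gam0 L0 U0 OK q0 b0 om t0 v0 sg nC Sg Tst)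

variable {G : Type*} [Group G] [Finite G]

/-- the dihedral group `⟨a0, d⟩` -/
abbrev h1D : Subgroup M := subOf (fun x => x ∈ [1, z, d, z * d, a0, a0 * z, a0 * d, a0 * z * d]) (by decide +kernel)
  fun a b ha hb => (by decide +kernel : ∀ a ∈ [1, z, d, z * d, a0, a0 * z, a0 * d, a0 * z * d],
    ∀ b ∈ [1, z, d, z * d, a0, a0 * z, a0 * d, a0 * z * d],
      a * b ∈ [1, z, d, z * d, a0, a0 * z, a0 * d, a0 * z * d]) a ha b hb

theorem h1_fact : a0 ∈ Tm ∧ a0 ∈ h1D ∧ a0 * a0 = 1 ∧ a0 ∉ Zm ∧ d * a0 * d⁻¹ = a0 * z ∧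
    (∀ x ∈ [1, z, d, z * d], x ∈ h1D) ∧
    ∀ y ∈ [1, z, d, z * d, a0, a0 * z, a0 * d, a0 * z * d], y * y = 1 → y ∈ Zm ∨ y = a0 ∨ y = a0 * z := by
  decide +kernel

theorem h1_tr (v : E64) : bf v e1 = false ∨ ∃ w, bf w e1 = false ∧ tr v = a0 * tr w := by
  rcases (by decide +kernel : ∀ v : E64, bf v e1 = false ∨ bf (f1 * v) e1 = false) v with k | k
  · exact Or.inl k
  · exact Or.inr ⟨_, k, by rw [a0, ← tr_mul, ← mul_assoc, S86.E_sq, one_mul]⟩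

omit [Finite G] in
theorem h1_sup {H N : Subgroup G} (h : H ≤ Nm N) {g : G} (hg : g ∈ H ⊔ N) : ∃ x ∈ H, ∃ y ∈ N, x * y = g := by
  rw [← SetLike.mem_coe, coe_mul_of_left_le_normalizer_right H N h] at hg
  exact hg

namespace Sit

variable {A : Subgroup G} {π : G → M} {j : M → G} (S : Sit A π j)
include S

theorem h1_ZC : J j Zm ≤ Ce (J j Qm) := fun g hg k hk => by
  obtain ⟨x, h1, h2, rfl⟩ := S.mem_J.1 hg
  obtain ⟨y, h3, h4, rfl⟩ := S.mem_J.1 hk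
  exact ((S.j_comm h2 h4).2 (Z_cent h1 h3)).symm

theorem h1_TC {x : M} (hx : x ∈ Tm) (h : j x ∈ Ce (J j Qm)) : x ∈ Zm := cent_Q fun _ hy =>
  (S.j_comm hx (Q_le_T hy)).1 (h _ ((S.j_mem (Q_le_T hy)).2 hy)).symm

theorem h1_key {c : G} (hc : c ∈ Ce (J j Qm)) (h : Two c) (ha : Commute c (j a0)) : c ∈ J j Zm := by
  have k : ∀ v, bf v e1 = false → Commute c (j (tr v)) := fun v hv =>
    (hc _ ((S.j_mem (tr_mem v)).2 (tr_mem_Q.2 hv))).symm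
  have cA : c ∈ Ce A := fun g hg => by
    obtain ⟨v, rfl⟩ := S.mem_A.1 hg
    rcases h1_tr v with e | ⟨w, e, e'⟩
    · exact (k v e).symm
    · rw [e', S.jm _ h1_fact.1 _ (tr_mem w)]
      exact (ha.mul_right (k w e)).symm
  obtain ⟨v, rfl⟩ := S.mem_A.1 (S.two_cent cA h)
  exact (S.j_mem (tr_mem v)).2 (S.h1_TC (tr_mem v) hc)

theorem h1_norm {h : G} (hh : h ∈ Nm (J j Qm)) (e : h * j a0 * h⁻¹ = j a0) : h ∈ Nm A := by
  have aT := h1_fact.1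
  have k : ∀ v, bf v e1 = false → h * j (tr v) * h⁻¹ ∈ A := fun v hv => by
    obtain ⟨q, hq, e1⟩ := comm_a0' hv
    have qT := Q_le_T hq
    obtain ⟨q', hq', e2⟩ := S.mem_Q.1 (conj_mem_of_mem_normalizer hh ((S.j_mem qT).2 hq))
    have q'T := Q_le_T hq'
    obtain ⟨w, e3⟩ := mem_Ab.1 (comm_a0 hq')
    refine S.mem_A.2 ⟨w, ?_⟩
    rw [e3, ← e1, S.jm _ (mul_mem (mul_mem qT aT) (inv_mem qT)) _ (inv_mem aT),
      S.jm _ (mul_mem (mul_mem q'T aT) (inv_mem q'T)) _ (inv_mem aT), S.j_conj qT aT, S.j_conj q'T aT, S.j_inv aT, e2]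
    conv_lhs => rw [← e]
    group
  refine mem_normalizer_of_forall fun g hg => ?_
  obtain ⟨v, rfl⟩ := S.mem_A.1 hg
  rcases h1_tr v with e1 | ⟨w, e1, e'⟩
  · exact k v e1
  · rw [e', S.jm _ aT _ (tr_mem w), ← conj_mul, e]
    exact mul_mem (S.mem_A.2 ⟨f1, rfl⟩) (k w e1)

theorem cq_syl : IsSylowIn 2 (J j Zm) (Ce (J j Qm)) := by
  have hD : J j h1D ≤ Nm (Ce (J j Qm)) := fun g hg => mem_normalizer_of_forall fun c hc =>
    S.H_conj_C (S.T_le_H (S.J_le_T _ hg)) hc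
  have hK : J j h1D ⊔ Ce (J j Qm) ≤ Nm (Ce (J j Qm)) := sup_le hD le_normalizer
  have aT := h1_fact.1
  have aD : j a0 ∈ J j h1D := (S.j_mem aT).2 h1_fact.2.1
  have ZD : J j Zm ≤ J j h1D := S.J_mono fun x hx => h1_fact.2.2.2.2.2.1 x hx
  obtain ⟨R, hR, hDR⟩ := exists_isSylowIn_ge (S.pgJ h1D) (le_sup_left (b := Ce (J j Qm)))
  have e : R = J j h1D := by
    by_contra ne
    obtain ⟨x, xR, xD, xN⟩ := exists_mem_normalizer_of_lt hR.pgroup (lt_of_le_of_ne hDR (Ne.symm ne))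
    obtain ⟨δ, hδ, c, hc, rfl⟩ := h1_sup hD (hR.le xR)
    have cR : c ∈ R := (mul_mem_cancel_left (hDR hδ)).1 xR
    have cN : c ∈ Nm (J j h1D) := (mul_mem_cancel_left (le_normalizer hδ)).1 xN
    refine xD (mul_mem hδ (ZD ?_))
    obtain ⟨y, hy, yT, e⟩ := S.mem_J.1 (conj_mem_of_mem_normalizer cN aD)
    have y2 : y * y = 1 := by
      rw [← S.j_sq yT, e, conj_mul, (S.j_sq aT).2 h1_fact.2.2.1, mul_one, mul_inv_cancel]
    rcases h1_fact.2.2.2.2.2.2 y hy y2 with k | rfl | rfl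
    · have := hc _ (S.J_mono Z_le_Q ((S.j_mem yT).2 k))
      have k2 : j a0 = j y := by
        rw [e, inv_mul_cancel_right, mul_right_inj] at this
        rw [e, ← this]
      exact absurd (S.j_inj aT yT k2 ▸ k) h1_fact.2.2.2.1
    · exact S.h1_key hc (Two.of_mem hR.pgroup cR) (mul_inv_eq_iff_eq_mul.1 e.symm)
    · have dZ : d ∈ Zm := mem_Z.2 (by simp)
      have zZ : z ∈ Zm := mem_Z.2 (by simp)
      have dT := Q_le_T (Z_le_Q dZ)
      have zT := Q_le_T (Z_le_Q zZ)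
      have dJ := (S.j_mem dT).2 dZ
      have k := S.h1_key (mul_mem hc (S.h1_ZC dJ)) (Two.of_mem hR.pgroup (mul_mem cR (hDR (ZD dJ)))) (by
        have k1 : j d * j a0 * (j d)⁻¹ = j a0 * j z := by
          rw [← S.j_conj dT aT, h1_fact.2.2.2.2.1, S.jm _ aT _ zT]
        have k2 := hc _ (S.J_mono Z_le_Q ((S.j_mem zT).2 zZ))
        rw [S.jm _ aT _ zT] at e
        refine mul_inv_eq_iff_eq_mul.1 ?_
        calc _ = c * (j d * j a0 * (j d)⁻¹) * c⁻¹ := by group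
          _ = c * j a0 * c⁻¹ * (c * j z * c⁻¹) := by rw [k1, conj_mul]
          _ = _ := by rw [← e, ← k2, mul_inv_cancel_right, mul_assoc, S.zd.1, mul_one])
      exact (mul_mem_cancel_right dJ).1 k
  have := hR.inf_of_le_normalizer hK
  rw [e, inf_eq_right.2 (le_sup_right (a := J j h1D))] at this
  convert this using 1
  refine le_antisymm (le_inf ZD S.h1_ZC) fun g hg => ?_
  obtain ⟨y, -, yT, rfl⟩ := S.mem_J.1 hg.1
  exact (S.j_mem yT).2 (S.h1_TC yT hg.2)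

theorem cq_two {c : G} (hc : c ∈ Ce (J j Qm)) (h : Two c) : c ∈ J j Zm := by
  obtain ⟨g, hg, k⟩ := S.cq_syl.exists_conj_mem hc h.pg
  have := hg _ (S.J_mono Z_le_Q k)
  rw [inv_mul_cancel_right, mul_right_inj] at this
  rwa [this]

theorem cq_dec {c : G} (hc : c ∈ Ce (J j Qm)) : ∃ ζ ∈ Zm, ∃ o ∈ opOf 2 (Ce (J j Qm)), c = j ζ * o := by
  have np := npc_of_burnside S.cq_syl fun n hn _ x hx => (hn x (S.J_mono Z_le_Q hx)).symm
  have hN : J j Zm ≤ Nm (opOf 2 (Ce (J j Qm))) := fun g hg => mem_normalizer_of_forall fun o ho => by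
    rwa [opOf_le (p := 2) (H := Ce (J j Qm)) ho g (S.J_mono Z_le_Q hg), mul_inv_cancel_right]
  obtain ⟨g, hg, o, ho, rfl⟩ := h1_sup hN (le_of_npc np S.cq_syl le_sup_right le_sup_left hc)
  obtain ⟨ζ, h1, -, rfl⟩ := S.mem_J.1 hg
  exact ⟨ζ, h1, o, ho, rfl⟩

theorem cjz {g : G} (h : Two g) {x : M} (hx : x ∈ Tm) (e : (j x)⁻¹ * g ∈ Ce (J j Qm)) :
    ∃ c ∈ Ce (J j Qm), ∃ ζ ∈ Zm, c * g * c⁻¹ = j (x * ζ) := by
  have hT : J j Tm ≤ Nm (Ce (J j Qm)) := fun g hg => mem_normalizer_of_forall fun c hc => S.H_conj_C (S.T_le_H hg) hc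
  have sy : IsSylowIn 2 (J j Tm) (J j Tm ⊔ Ce (J j Qm)) :=
    isSylowIn_of_maximal (S.pgJ _) le_sup_left fun R hR h1 h2 r hr => by
      obtain ⟨t, ht, c, hc, rfl⟩ := h1_sup hT (h2 hr)
      exact mul_mem ht (S.J_le_T _ (S.cq_two hc (Two.of_mem hR ((mul_mem_cancel_left (h1 ht)).1 hr))))
  have xT := (S.j_mem hx).2 hx
  obtain ⟨k, hk, kT⟩ := sy.exists_conj_mem (x := g)
    (by simpa using mul_mem (mem_sup_left xT) (mem_sup_right (S := J j Tm) e)) h.pg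
  obtain ⟨t, ht, c, hc, rfl⟩ := h1_sup hT hk
  have k2 : c * g * c⁻¹ ∈ J j Tm := by
    have := mul_mem (mul_mem (inv_mem ht) kT) ht
    rwa [show t⁻¹ * (t * c * g * (t * c)⁻¹) * t = c * g * c⁻¹ by group] at this
  obtain ⟨y, -, yT, ey⟩ := S.mem_J.1 k2
  refine ⟨c, hc, x⁻¹ * y, S.h1_TC (mul_mem (inv_mem hx) yT) ?_, by rw [mul_inv_cancel_left, ey]⟩
  rw [S.jm _ (inv_mem hx) _ yT, S.j_inv hx, ey,
    show (j x)⁻¹ * (c * g * c⁻¹) = (j x)⁻¹ * c * (j x)⁻¹⁻¹ * ((j x)⁻¹ * g) * c⁻¹ by group]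
  exact mul_mem (mul_mem (S.H_conj_C (inv_mem (S.jH hx)) hc) e) (inv_mem hc)

theorem ca0 {h c : G} (hh : h ∈ Nm (J j Qm)) {q : M} (hq : q ∈ Qm) (hc : c ∈ Ce (J j Qm))
    (e : h * j a0 * h⁻¹ = j (a0 * q) * c) : ∃ n ∈ Nm A, n ∈ Nm (J j Qm) ∧ ∃ c ∈ Ce (J j Qm), h = n * c := by
  have aT := h1_fact.1
  have a2 := (S.j_sq aT).2 h1_fact.2.2.1
  have xT := mul_mem aT (Q_le_T hq)
  obtain ⟨c', hc', ζ, hζ, e'⟩ := S.cjz ((Two.of_sq a2).conj h) xT (by rwa [e, inv_mul_cancel_left])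
  have q2 := mul_mem hq (Z_le_Q hζ)
  rw [mul_assoc a0] at e'
  obtain ⟨q', hq', e2⟩ := inv_a0Q q2 (by
    rw [← S.j_sq (mul_mem aT (Q_le_T q2)), ← e', conj_mul, conj_mul, a2]; group)
  have q'T := Q_le_T hq'
  rw [← e2, S.j_conj q'T aT] at e'
  have kH : (j q')⁻¹ * (c' * h) ∈ Nm (J j Qm) := mul_mem (inv_mem (S.jH q'T)) (mul_mem (S.C_le_H hc') hh)
  have kA : (j q')⁻¹ * (c' * h) ∈ Nm A := S.h1_norm kH (by
    calc _ = (j q')⁻¹ * (c' * (h * j a0 * h⁻¹) * c'⁻¹) * j q' := by group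
      _ = _ := by rw [e']; group)
  have nA : c' * h ∈ Nm A := by simpa using mul_mem (S.jN _ q'T) kA
  have nH := mul_mem (S.C_le_H hc') hh
  exact ⟨c' * h, nA, nH, _, S.H_conj_C (inv_mem nH) (inv_mem hc'), by group⟩

end Sit

end CfsgLib.Fi64
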