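import Mathlib
import Cfsg.Agent.Lib.Fi64.H1

/-! The kernel of the action and the centralizer of `a0` (project E64, plans/E64.md). -/

set_option autoImplicit false
set_option maxRecDepth 100000
set_option Elab.async false
set_option linter.unusedSectionVars false

namespace CfsgLib.Fi64

open Subgroup Cfsg CfsgLib.W2 CfsgLib.Tech CfsgLib.PComp
open CfsgLib.S86 (E64 SM e1 f1 e2 f2 e3 f3 bf sa tv oc t1)
open CfsgLib.Parr (P0 V0 vc lin mp idM Act Gam Gam0 L0 U0 OK q0 b0 om t0 v0 sg nC Sg Tst)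

variable {G : Type*} [Group G] [Finite G]

private theorem h2_two_mul {x y : G} (h : Commute x y) (hx : Two x) (hy : Two y) : Two (x * y) := by
  obtain ⟨k, hk⟩ := hx
  obtain ⟨l, hl⟩ := hy
  refine ⟨k + l, ?_⟩
  rw [h.mul_pow, pow_add, pow_mul, hk, one_pow, one_mul, mul_comm, pow_mul, hl, one_pow]

/-- `E ∪ w E` for an involution `w` normalising `E` -/
private def h2_ext (E : Subgroup G) (w : G) (h2 : w * w = 1) (hn : ∀ x ∈ E, w * x * w⁻¹ ∈ E) : Subgroup G where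
  carrier := {x | x ∈ E ∨ w * x ∈ E}
  one_mem' := Or.inl (one_mem _)
  mul_mem' := by
    rintro x y (hx | hx) (hy | hy)
    · exact Or.inl (mul_mem hx hy)
    · exact Or.inr (by have := mul_mem (hn x hx) hy; rwa [show w * x * w⁻¹ * (w * y) = w * (x * y) by group] at this)
    · exact Or.inr (mul_assoc w x y ▸ mul_mem hx hy)
    · refine Or.inl ?_
      have := mul_mem (hn _ hx) hy
      rwa [show w * (w * x) * w⁻¹ * (w * y) = w * w * (x * y) by group, h2, one_mul] at this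
  inv_mem' := by
    rintro x (hx | hx)
    · exact Or.inl (inv_mem hx)
    · refine Or.inr ?_
      have := hn _ (inv_mem hx)
      rwa [show w * (w * x)⁻¹ * w⁻¹ = w * x⁻¹ * (w * w)⁻¹ by group, h2, inv_one, mul_one] at this

private theorem h2_a0 : a0 ∈ Tm := tr_mem f1

namespace Rep

variable {A : Subgroup G} {π : G → M} {j : M → G} {f : G → P0} (R : Rep A π j f)
include R

theorem act_hg {n : G} (hn : n ∈ Nm A) (hh : n ∈ Nm (J j Qm)) {i : ℕ} (hi : i < 6) (e : π n = hg i) : Act (f n) (hc i) :=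
  act_basis (R.ok n hh) fun k hk => by
    rw [R.f_N hn hh (qg_mem k hk), e]
    exact hg_act i hi k hk

theorem h2_act : Act (f (j a0)) (hc 0) :=
  R.act_hg (R.jN _ h2_a0) (R.toSit.jH h2_a0) (by norm_num) (R.πj _ h2_a0)

theorem h2_ne : f (j a0) ≠ 1 := fun e => by
  obtain ⟨v, hv⟩ := a0_act.2.2
  exact hv ((R.h2_act v).symm.trans (by rw [e]; rfl))

theorem h2_sq : j a0 * j a0 = 1 := (R.toSit.j_sq h2_a0).2 (by decide +kernel)

theorem h2_jQ {q : M} (hq : q ∈ Qm) : j q ∈ J j Qm := R.toSit.mem_Q.2 ⟨q, hq, rfl⟩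

/-- the product `Q C(Q)` -/
def h2QC : Subgroup G where
  carrier := {h | ∃ q ∈ Qm, ∃ c ∈ Ce (J j Qm), h = j q * c}
  one_mem' := ⟨1, one_mem _, 1, one_mem _, by rw [R.toSit.j_one, one_mul]⟩
  mul_mem' := by
    rintro _ _ ⟨q, hq, c, hc, rfl⟩ ⟨q', hq', c', hc', rfl⟩
    refine ⟨q * q', mul_mem hq hq', c * c', mul_mem hc hc', ?_⟩
    rw [R.jm _ (Q_le_T hq) _ (Q_le_T hq'), mul_assoc, ← mul_assoc c, ← hc _ (R.h2_jQ hq')]
    group
  inv_mem' := by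
    rintro _ ⟨q, hq, c, hc, rfl⟩
    refine ⟨q⁻¹, inv_mem hq, c⁻¹, inv_mem hc, ?_⟩
    rw [R.toSit.j_inv (Q_le_T hq), hc _ (R.h2_jQ hq), mul_inv_rev]

theorem h2_conj {h x : G} (hh : h ∈ Nm (J j Qm)) (hx : x ∈ R.h2QC) : h * x * h⁻¹ ∈ R.h2QC := by
  obtain ⟨q, hq, c, hc, rfl⟩ := hx
  obtain ⟨q', hq', e⟩ := R.toSit.mem_Q.1 (conj_mem_of_mem_normalizer hh (R.h2_jQ hq))
  exact ⟨q', hq', _, R.toSit.H_conj_C hh hc, by rw [e]; group⟩

theorem h2_f {x : G} (hx : x ∈ R.h2QC) : x ∈ Nm (J j Qm) ∧ f x = 1 := by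
  obtain ⟨q, hq, c, hc, rfl⟩ := hx
  have a := R.toSit.jH (Q_le_T hq)
  have b := R.toSit.C_le_H hc
  exact ⟨mul_mem a b, by rw [R.fm _ a _ b, R.f_Q (R.h2_jQ hq), R.f_C hc, one_mul]⟩

theorem h2_C {c : G} (hc : c ∈ Ce (J j Qm)) : c ∈ R.h2QC := ⟨1, one_mem _, c, hc, by rw [R.toSit.j_one, one_mul]⟩

theorem h2_nQ {n : G} (hn : n ∈ Nm A) (hh : n ∈ Nm (J j Qm)) (e : π n ∈ Qm) : n ∈ R.h2QC := by
  refine ⟨π n, e, (j (π n))⁻¹ * n, fun g hg => ?_, by group⟩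
  obtain ⟨x, hx, rfl⟩ := R.toSit.mem_Q.1 hg
  have := (R.toSit.piH hn hh).2 x hx
  rw [R.toSit.j_conj (Q_le_T e) (Q_le_T hx)] at this
  calc j x * ((j (π n))⁻¹ * n) = (j (π n))⁻¹ * (j (π n) * j x * (j (π n))⁻¹) * n := by group
    _ = _ := by rw [← this]; group

theorem h2_pow {h : G} (hh : h ∈ Nm (J j Qm)) (e : f h = 1) : h ^ 4 ∈ Ce (J j Qm) := by
  obtain ⟨z2, -, d2, -, -, zd, -⟩ := R.toSit.zd
  have hz := R.toSit.H_z hh
  have hd : Commute (h * h) (j d) := by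
    have k : h * h * j d * (h * h)⁻¹ = j d := by
      rw [show h * h * j d * (h * h)⁻¹ = h * (h * j d * h⁻¹) * h⁻¹ by group]
      rcases R.toSit.H_d hh with e | e
      · rw [e, e]
      · rw [e, show h * (j z * j d) * h⁻¹ = h * j z * h⁻¹ * (h * j d * h⁻¹) by group, e, hz.eq, mul_inv_cancel_right,
          ← mul_assoc, z2, one_mul]
    exact mul_inv_eq_iff_eq_mul.1 k
  have hz2 : Commute (h * h) (j z) := hz.mul_left hz
  have key : ∀ ζ ∈ J j Zm, ζ * ζ = 1 ∧ Commute (h * h) ζ := fun ζ hζ => by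
    rcases R.toSit.mem_JZ.1 hζ with rfl | rfl | rfl | rfl
    · exact ⟨one_mul _, Commute.one_right _⟩
    · exact ⟨z2, hz2⟩
    · exact ⟨d2, hd⟩
    · exact ⟨by rw [← zd.mul_mul_mul_comm, z2, d2, one_mul], hz2.mul_right hd⟩
  intro g hg
  obtain ⟨a, b⟩ := key _ ((R.f_eq_one (mul_mem hh hh)).1 (by rw [R.fm _ hh _ hh, e, one_mul]) g hg)
  rw [show h ^ 4 = h * h * (h * h) by rw [show 4 = 2 + 2 from rfl, pow_add, pow_two]]
  generalize h * h = k at a b ⊢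
  have c : k * (k * g * k⁻¹ * g⁻¹) * k⁻¹ = k * g * k⁻¹ * g⁻¹ := by rw [b.eq, mul_inv_cancel_right]
  calc g * (k * k) = k * g * k⁻¹ * g⁻¹ * (k * g * k⁻¹ * g⁻¹) * g * (k * k) := by rw [a, one_mul]
    _ = k * (k * g * k⁻¹ * g⁻¹) * k⁻¹ * (k * g * k⁻¹ * g⁻¹) * g * (k * k) := by rw [c]
    _ = k * k * g := by group

/-- the preimage of a subgroup -/
def h2pre (Y : Subgroup P0) : Subgroup G := (Y.comap R.fh).map (Nm (J j Qm)).subtype

theorem h2_mem_pre {Y : Subgroup P0} {h : G} : h ∈ R.h2pre Y ↔ h ∈ Nm (J j Qm) ∧ f h ∈ Y :=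
  ⟨fun ⟨x, hx, e⟩ => e ▸ ⟨x.2, hx⟩, fun ⟨a, b⟩ => ⟨⟨h, a⟩, b, rfl⟩⟩

theorem h2_step {x : G} (hx : x ∈ Nm (J j Qm)) (e : f x = 1) (h : j a0 * (x * j a0 * x⁻¹) ∈ R.h2QC) : x ∈ R.h2QC := by
  obtain ⟨q, hq, c, hc, h⟩ := h
  obtain ⟨n, hn, hh, c', hc', rfl⟩ := R.toSit.ca0 hx hq hc (by
    rw [R.jm _ h2_a0 _ (Q_le_T hq), mul_assoc (j a0), ← h, ← mul_assoc (j a0), R.h2_sq, one_mul])
  rw [R.fm _ hh _ (R.toSit.C_le_H hc'), R.f_C hc', mul_one] at e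
  refine mul_mem (R.h2_nQ hn hh (triv_V (R.toSit.piH hn hh).1 fun y hy => ?_)) (R.h2_C hc')
  rw [← R.f_N hn hh hy, e]; rfl

theorem ker {h : G} (hh : h ∈ Nm (J j Qm)) (e : f h = 1) : ∃ q ∈ Qm, ∃ c ∈ Ce (J j Qm), h = j q * c := by
  have aH := R.toSit.jH h2_a0
  have a2 : f (j a0) * f (j a0) = 1 := by rw [← R.fm _ aH _ aH, R.h2_sq, R.f_one]
  let Y : Subgroup P0 := h2_ext ⊥ (f (j a0)) a2 fun x hx => by rw [mem_bot.1 hx]; simp
  let X := h2_ext R.h2QC (j a0) R.h2_sq fun x hx => R.h2_conj aH hx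
  have aL : j a0 ∈ R.h2pre Y := R.h2_mem_pre.2 ⟨aH, Or.inr (mem_bot.2 a2)⟩
  obtain ⟨S, hS, hle⟩ := exists_isSylowIn_ge (Two.of_sq R.h2_sq).pg (zpowers_le.2 aL)
  have aS : j a0 ∈ S := hle (mem_zpowers _)
  have aX : j a0 ∈ X := Or.inr (R.h2_sq ▸ one_mem _)
  have SX : S ≤ X := by
    by_contra hc
    obtain ⟨x, x1, x2, x3⟩ := exists_mem_normalizer_of_lt hS.pgroup
      (lt_of_le_of_ne (inf_le_left : S ⊓ X ≤ S) fun e => hc (inf_eq_left.1 e))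
    have key : ∀ x ∈ Nm (J j Qm), x ∈ Nm (S ⊓ X) → f x = 1 → x ∈ X := fun x b c e => by
      rcases (conj_mem_of_mem_normalizer c (show j a0 ∈ S ⊓ X from ⟨aS, aX⟩)).2 with k | k
      · have := (R.h2_f k).2
        rw [R.f_conj b aH, e, one_mul, inv_one, mul_one] at this
        exact absurd this R.h2_ne
      · exact Or.inl (R.h2_step b e k)
    obtain ⟨b, k | k⟩ := R.h2_mem_pre.1 (hS.le x1)
    · exact x2 ⟨x1, key x b x3 (mem_bot.1 k)⟩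
    · refine x2 ⟨x1, (mul_mem_cancel_left aX).1 (key _ (mul_mem aH b) (mul_mem (le_normalizer ⟨aS, aX⟩) x3) ?_)⟩
      rw [R.fm _ aH _ b]
      exact mem_bot.1 k
  obtain ⟨k, m, hm, ho⟩ := Nat.exists_eq_two_pow_mul_odd (orderOf_pos h).ne'
  have t : Two (h ^ m) := ⟨k, by rw [← pow_mul, mul_comm, ← ho, pow_orderOf_eq_one]⟩
  have f1 : f (h ^ m) = 1 := by rw [R.f_pow hh, e, one_pow]
  obtain ⟨g, g1, g2⟩ := hS.exists_conj_mem (R.h2_mem_pre.2 ⟨pow_mem hh m, f1 ▸ one_mem _⟩) t.pg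
  have gH := (R.h2_mem_pre.1 g1).1
  have hm' : h ^ m ∈ R.h2QC := by
    rcases SX g2 with k | k
    · have := R.h2_conj (inv_mem gH) k
      rwa [show g⁻¹ * (g * h ^ m * g⁻¹) * g⁻¹⁻¹ = h ^ m by group] at this
    · have := (R.h2_f k).2
      rw [R.fm _ aH _ (mul_mem (mul_mem gH (pow_mem hh m)) (inv_mem gH)), R.f_conj gH (pow_mem hh m), f1, mul_one,
        mul_inv_cancel, mul_one] at this
      exact absurd this R.h2_ne
  have h4 := R.h2_C (R.h2_pow hh e)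
  obtain ⟨r, rfl⟩ := hm
  have h2 : h ^ (4 * (r * r + r) + 1) ∈ R.h2QC := by
    rw [show 4 * (r * r + r) + 1 = (2 * r + 1) * (2 * r + 1) by ring, pow_mul]
    exact pow_mem hm' _
  rw [pow_succ, pow_mul] at h2
  exact (mul_mem_cancel_left (pow_mem h4 _)).1 h2

theorem ker_two {h : G} (hh : h ∈ Nm (J j Qm)) (e : f h = 1) (h2 : Two h) : h ∈ J j Qm := by
  obtain ⟨q, hq, c, hc, rfl⟩ := R.ker hh e
  have k : Commute (j q) c := hc _ (R.h2_jQ hq)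
  have t := h2_two_mul ((Commute.refl (j q)).mul_right k).inv_left
    (R.toSit.j_inv (Q_le_T hq) ▸ R.toSit.two_j (inv_mem (Q_le_T hq))) h2
  rw [inv_mul_cancel_left] at t
  exact mul_mem (R.h2_jQ hq) (R.toSit.J_mono Z_le_Q (R.toSit.cq_two hc t))

theorem ker_comm {h : G} (hh : h ∈ Nm (J j Qm)) (e : f h = 1) :
    Commute h (j d) ∧ ∀ g ∈ J j Qm, h * g * h⁻¹ * g⁻¹ ∈ zpowers (j z) := by
  obtain ⟨q, hq, c, hc, rfl⟩ := R.ker hh e
  have dZ : d ∈ Zm := by decide +kernel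
  refine ⟨Commute.mul_left ((R.toSit.j_comm (Q_le_T hq) (Q_le_T (Z_le_Q dZ))).2 (Z_cent dZ hq).symm)
    (hc _ (R.h2_jQ (Z_le_Q dZ))).symm, fun g hg => ?_⟩
  rw [mul_assoc (j q), ← hc g hg, show j q * (g * c) * (j q * c)⁻¹ * g⁻¹ = j q * g * (j q)⁻¹ * g⁻¹ by group]
  exact R.toSit.Q_commG (R.h2_jQ hq) hg

theorem ca {h : G} (hh : h ∈ Nm (J j Qm)) (e : Commute (f h) (f (j a0))) :
    ∃ n ∈ Nm A, n ∈ Nm (J j Qm) ∧ ∃ c ∈ Ce (J j Qm), h = n * c := by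
  have aH := R.toSit.jH h2_a0
  have b := mul_mem (mul_mem hh aH) (inv_mem hh)
  obtain ⟨q, hq, c, hc, k⟩ := R.ker (mul_mem aH b) (by
    rw [R.fm _ aH _ b, R.f_conj hh aH, e.eq, mul_inv_cancel_right, ← R.fm _ aH _ aH, R.h2_sq, R.f_one])
  exact R.toSit.ca0 hh hq hc (by
    rw [R.jm _ h2_a0 _ (Q_le_T hq), mul_assoc (j a0), ← k, ← mul_assoc (j a0), R.h2_sq, one_mul])

theorem stab {h : G} (hh : h ∈ Nm (J j Qm)) (e : ∀ v, inR 0 v → inR 0 (f h v)) :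
    ∃ n ∈ Nm A, n ∈ Nm (J j Qm) ∧ ∃ c ∈ Ce (J j Qm), h = n * c := by
  have aH := R.toSit.jH h2_a0
  have b := mul_mem (mul_mem hh aH) (inv_mem hh)
  have ep : ∀ k : ℕ, ∀ v, inR 0 v → inR 0 ((f h ^ k) v) := fun k => by
    induction k with
    | zero => exact fun _ h => h
    | succ k ih => exact fun v hv => by rw [pow_succ']; exact e _ (ih v hv)
  have ei : ∀ v, inR 0 v → inR 0 ((f h)⁻¹ v) := by
    have : h⁻¹ = h ^ (orderOf h - 1) := by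
      rw [inv_eq_iff_mul_eq_one, ← pow_succ', Nat.sub_add_cancel (orderOf_pos h), pow_orderOf_eq_one]
    rw [← R.f_inv hh, this, R.f_pow hh]
    exact ep _
  have ai : ∀ v, f h ((f h)⁻¹ v) = v := fun v => (f h).apply_symm_apply v
  have a1 : ∀ v, inR 0 v → f (j a0) v = v := fun v hv => (R.h2_act v).trans (a0_act.1 v hv)
  have a2 : ∀ v, inR 0 (f (j a0) v + v) := fun v => R.h2_act v ▸ a0_act.2.1 v
  have d1 : ∀ v, inR 0 v → f (h * j a0 * h⁻¹) v = v := fun v hv => by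
    rw [R.f_conj hh aH, Equiv.Perm.mul_apply, Equiv.Perm.mul_apply, a1 _ (ei v hv), ai]
  have d2 : ∀ v, inR 0 (f (h * j a0 * h⁻¹) v + v) := fun v => by
    have := e _ (a2 ((f h)⁻¹ v))
    rwa [OK.add (R.ok h hh), ai, ← Equiv.Perm.mul_apply, ← Equiv.Perm.mul_apply,
      ← R.f_conj hh aH] at this
  have cm : Commute (f (h * j a0 * h⁻¹)) (f (j a0)) := Equiv.ext fun v => by
    have k1 := a1 _ (d2 v)
    have k2 := d1 _ (a2 v)
    rw [OK.add (R.ok _ aH)] at k1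
    rw [OK.add (R.ok _ b)] at k2
    rw [Equiv.Perm.mul_apply, Equiv.Perm.mul_apply, eq_sub_of_add_eq k1, eq_sub_of_add_eq k2]
    simp only [sub_eq_add_neg, neg_eq_of_add_eq_zero_left (V0.add_self _)]
    abel
  obtain ⟨n, hn, nH, c, hc, k⟩ := R.ca b cm
  have fn : f (h * j a0 * h⁻¹) = f n := by rw [k, R.fm _ nH _ (R.toSit.C_le_H hc), R.f_C hc, mul_one]
  rcases triv_A0 (R.toSit.piH hn nH).1 (fun v hv => by
    rw [← conj_tr, ← R.f_N hn nH (tr_mem_Q.2 hv), ← fn]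
    exact d1 _ (inR_zero.2 ⟨v, hv, rfl⟩)) with t | t
  · rw [(R.h2_f (R.h2_nQ hn nH t)).2, R.f_conj hh aH, mul_inv_eq_one, mul_eq_left] at fn
    exact absurd fn R.h2_ne
  · have := (R.h2_f (R.h2_nQ (mul_mem (R.jN _ h2_a0) hn) (mul_mem aH nH)
      (by rwa [R.πm _ (R.jN _ h2_a0) _ hn, R.πj _ h2_a0]))).2
    rw [R.fm _ aH _ nH, ← fn, R.f_conj hh aH, ← R.f_one, ← R.h2_sq, R.fm _ aH _ aH, mul_right_inj,
      mul_inv_eq_iff_eq_mul] at this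
    exact R.ca hh this

end Rep

end CfsgLib.Fi64
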