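import Mathlib
import Cfsg.Agent.Lib.Fi64.H2
import Cfsg.Agent.Lib.ExtraTwo.Basic

/-! Three of the four automorphisms are impossible (project E64, plans/E64.md). -/

set_option autoImplicit false
set_option maxRecDepth 100000
set_option Elab.async false

namespace CfsgLib.Fi64

open Subgroup Cfsg CfsgLib.W2 CfsgLib.Tech CfsgLib.PComp
open CfsgLib.S86 (E64 SM e1 f1 e2 f2 e3 f3 bf sa tv oc t1)
open CfsgLib.Parr (P0 V0 vc lin mp idM Act Gam Gam0 L0 U0 OK q0 b0 om t0 v0 sg nC Sg Tst)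

variable {G : Type*} [Group G] [Finite G]

theorem h3_bt : ∀ ε < 2, ∀ η < 2, ∀ i < 10, bt ε η (qI i) ∈ Qm := by decide +kernel

theorem h3_w0 : ∀ ε < 2, (∀ k < 10, τ (wa ε 0 [1, 4, 6, 4, 6, 4, 6] (qg k)) = τ (qg k)) ∧
    wa ε 0 [1, 4, 6, 4, 6, 4, 6] (qg 7) ≠ qg 7 ∧ wa ε 0 [1, 4, 6, 4, 6, 4, 6] (qg 7) ≠ z * qg 7 := by decide +kernel

theorem h3_w1 : (∀ k < 10, τ (wa 1 1 [6, 2, 6, 2, 6, 2] (qg k)) = τ (qg k)) ∧ wa 1 1 [6, 2, 6, 2, 6, 2] d ≠ d := by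
  decide +kernel

namespace Sit

variable {A : Subgroup G} {π : G → M} {j : M → G} (S : Sit A π j)
include S

theorem bee_te {ε η : ℕ} {b : G} (h : Bee j ε η b) (n : ℕ) : bt ε η n ∈ Tm ∧ b * j (te n) * b⁻¹ = j (bt ε η n) := by
  exact (pe_ind (R := fun a c => a ∈ Tm ∧ c ∈ Tm ∧ b * j a * b⁻¹ = j c)
    ⟨one_mem _, one_mem _, by rw [S.j_one, mul_one, mul_inv_cancel]⟩
    (fun a c a' c' h1 h2 => ⟨mul_mem h1.1 h2.1, mul_mem h1.2.1 h2.2.1, by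
      rw [S.jm _ h1.1 _ h2.1, S.jm _ h1.2.1 _ h2.2.1, ← h1.2.2, ← h2.2.2, conj_mul]⟩) n 15
    fun i hi => ⟨tg_mem i hi, te_mem _, h i hi⟩).2

theorem bee_Q {ε η : ℕ} (hε : ε < 2) (hη : η < 2) {b : G} (h : Bee j ε η b) {x : M} (hx : x ∈ Qm) :
    bq ε η x ∈ Qm ∧ b * j x * b⁻¹ = j (bq ε η x) := by
  have := (pe_ind (R := fun a c => a ∈ Qm ∧ c ∈ Qm ∧ b * j a * b⁻¹ = j c) (G := qg) (G' := fun i => bt ε η (qI i))
    ⟨one_mem _, one_mem _, by rw [S.j_one, mul_one, mul_inv_cancel]⟩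
    (fun a c a' c' h1 h2 => ⟨mul_mem h1.1 h2.1, mul_mem h1.2.1 h2.2.1, by
      rw [S.jm _ (Q_le_T h1.1) _ (Q_le_T h2.1), S.jm _ (Q_le_T h1.2.1) _ (Q_le_T h2.2.1), ← h1.2.2, ← h2.2.2,
        conj_mul]⟩) (qix x) 10
    fun i hi => ⟨qg_mem i hi, h3_bt ε hε η hη i hi, by rw [qg_eq i hi]; exact (S.bee_te h _).2⟩).2
  rwa [show pe qg 10 (qix x) = x from qe_qix hx] at this

theorem bee_H {ε η : ℕ} (hε : ε < 2) (hη : η < 2) {b : G} (h : Bee j ε η b) : b ∈ Nm (J j Qm) := by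
  refine mem_normalizer_of_forall fun g hg => ?_
  obtain ⟨x, hx, rfl⟩ := S.mem_Q.1 hg
  exact S.mem_Q.2 ⟨_, (S.bee_Q hε hη h hx).1, (S.bee_Q hε hη h hx).2.symm⟩

theorem word {ε η : ℕ} (hε : ε < 2) (hη : η < 2) {b : G} (h : Bee j ε η b) (w : List ℕ) :
    ∃ k ∈ Nm (J j Qm), ∀ x ∈ Qm, wa ε η w x ∈ Qm ∧ k * j x * k⁻¹ = j (wa ε η w x) := by
  induction w with
  | nil => exact ⟨1, one_mem _, fun x hx => ⟨hx, by rw [one_mul, inv_one, mul_one]; rfl⟩⟩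
  | cons i w ih =>
    obtain ⟨k, hk, e⟩ := ih
    have u : ∀ x, wa ε η (i :: w) x = if i < 6 then hg i * wa ε η w x * (hg i)⁻¹ else bq ε η (wa ε η w x) :=
      fun _ => rfl
    by_cases hi : i < 6
    · obtain ⟨n, -, hn, -, e'⟩ := S.liftH (hg_mem i hi)
      refine ⟨n * k, mul_mem hn hk, fun x hx => ?_⟩
      rw [u, if_pos hi, ← e' _ (e x hx).1, ← (e x hx).2]
      exact ⟨Cz_conj (hg_mem i hi) (e x hx).1, by group⟩
    · refine ⟨b * k, mul_mem (S.bee_H hε hη h) hk, fun x hx => ?_⟩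
      rw [u, if_neg hi, ← (S.bee_Q hε hη h (e x hx).1).2, ← (e x hx).2]
      exact ⟨(S.bee_Q hε hη h (e x hx).1).1, by group⟩

end Sit

namespace Rep

variable {A : Subgroup G} {π : G → M} {j : M → G} {f : G → P0} (R : Rep A π j f)
include R

theorem h3_key {ε η : ℕ} (hε : ε < 2) (hη : η < 2) {b : G} (h : Bee j ε η b) {w : List ℕ}
    (hw : ∀ k < 10, τ (wa ε η w (qg k)) = τ (qg k)) :
    wa ε η w d = d ∧ ∀ x ∈ Qm, wa ε η w x = x ∨ wa ε η w x = z * x := by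
  have S := R.toSit
  obtain ⟨k, hk, e⟩ := S.word hε hη h w
  have f1 : f k = 1 := (act_basis (R.ok k hk) fun i hi => by
    rw [R.act k hk _ (qg_mem i hi) _ (e _ (qg_mem i hi)).1 (e _ (qg_mem i hi)).2, hw i hi, Parr.lin_idM]).ext
      Parr.Act.one
  obtain ⟨c1, c2⟩ := R.ker_comm hk f1
  have hd : d ∈ Qm := qg_mem 1 (by decide)
  have hz : z ∈ Qm := qg_mem 0 (by decide)
  refine ⟨S.j_inj (Q_le_T (e d hd).1) (Q_le_T hd) (by rw [← (e d hd).2, c1.eq, mul_inv_cancel_right]), fun x hx => ?_⟩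
  have := c2 _ (S.mem_Q.2 ⟨x, hx, rfl⟩)
  rw [(e x hx).2, ExtraTwo.mem_zpowers_iff_of_mul_self S.zd.1, mul_inv_eq_one, mul_inv_eq_iff_eq_mul,
    ← S.jm _ (Q_le_T hz) _ (Q_le_T hx)] at this
  exact this.imp (S.j_inj (Q_le_T (e x hx).1) (Q_le_T hx)) (S.j_inj (Q_le_T (e x hx).1) (Q_le_T (mul_mem hz hx)))

theorem kill {ε η : ℕ} (hε : ε < 2) (hη : η < 2) {b : G} (h : Bee j ε η b) : ε = 0 ∧ η = 1 := by
  obtain rfl | rfl : η = 0 ∨ η = 1 := by omega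
  · obtain ⟨a1, a2, a3⟩ := h3_w0 ε hε
    exact (((R.h3_key hε hη h a1).2 _ (qg_mem 7 (by decide))).elim a2 a3).elim
  · obtain rfl | rfl : ε = 0 ∨ ε = 1 := by omega
    · exact ⟨rfl, rfl⟩
    · exact (h3_w1.2 (R.h3_key hε hη h h3_w1.1).1).elim

theorem act_b {b : G} (h : Bee j 0 1 b) : Act (f b) (hc 6) := by
  have S := R.toSit
  have hb := S.bee_H (by decide) (by decide) h
  refine act_basis (R.ok b hb) fun i hi => ?_
  have := S.bee_Q (by decide) (by decide) h (qg_mem i hi)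
  rw [R.act b hb _ (qg_mem i hi) _ this.1 this.2, bq_act i hi]

end Rep

end CfsgLib.Fi64
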