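import Mathlib
import Cfsg.Agent.Lib.Fi64.Mo

/-! Facts on `Gam0` (project E64, plans/E64.md). -/

set_option autoImplicit false
set_option maxRecDepth 100000
set_option Elab.async false

namespace CfsgLib.Fi64

open Subgroup Cfsg CfsgLib.W2 CfsgLib.Tech CfsgLib.PComp
open CfsgLib.S86 (E64 SM e1 f1 e2 f2 e3 f3 bf sa tv oc t1)
open CfsgLib.Parr (P0 V0 vc lin mp idM Act Gam Gam0 L0 U0 OK q0 b0 om t0 v0 sg nC Sg Tst)

theorem mx_sg : sg ∈ Gam0 := Or.inr (Parr.sg_sq ▸ one_mem _)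

theorem hc_mem {i : ℕ} (hi : i < 7) {g : P0} (h : Act g (hc i)) : g ∈ Gam0 := by
  have k : ∀ i < 7, i ≠ 0 → ∀ g, Act g (hc i) → g ∈ L0 := fun i hi h0 g h => by
    obtain ⟨h1, h2⟩ := (by decide +kernel : ∀ i < 7, i ≠ 0 → Parr.uOK (hc i) = true ∧ mp (hc i) (hc i) = idM) i hi h0
    exact Parr.U0.invol (h.mem_U0 h1) ((h.mul h).ext (h2 ▸ Parr.Act.one))
  by_cases h0 : i = 0
  swap
  · exact Or.inl (k i hi h0 g h)
  subst h0
  obtain ⟨g1, -, a1⟩ := Parr.exists_U0 (M := hc 1) (by decide +kernel)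
  obtain ⟨g3, -, a3⟩ := Parr.exists_U0 (M := hc 3) (by decide +kernel)
  have e : g * (g1 * g3) = sg := (h.mul (a1.mul a3)).ext (by
    rw [(by decide +kernel : mp (hc 0) (mp (hc 1) (hc 3)) = 0xc04030100c040301)]; exact Parr.act_pm _ _)
  exact (mul_mem_cancel_right (Parr.L0_le_Gam0 (mul_mem (k 1 (by decide) (by decide) _ a1)
    (k 3 (by decide) (by decide) _ a3)))).1 (e ▸ mx_sg)

theorem exists_wc (w : List ℕ) (h : ∀ i ∈ w, i < 7) {K : Subgroup P0} (hK : ∀ i < 7, ∃ g ∈ K, Act g (hc i)) :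
    ∃ g ∈ K, Act g (wc w) := by
  induction w with
  | nil => exact ⟨1, one_mem _, Parr.Act.one⟩
  | cons i w ih =>
    obtain ⟨g, hg, a⟩ := ih fun j hj => h j (List.mem_cons_of_mem _ hj)
    obtain ⟨g', hg', a'⟩ := hK i (h i List.mem_cons_self)
    exact ⟨g' * g, mul_mem hg' hg, a'.mul a⟩

theorem hc_Gam0 : ∀ i < 7, ∃ g ∈ Gam0, Act g (hc i) := by
  intro i hi
  obtain ⟨g, -, a⟩ := Parr.exists_Gam ((by decide +kernel : ∀ i < 7, Parr.gOK (hc i) = true) i hi)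
  exact ⟨g, hc_mem hi a, a⟩

theorem mx_le {K : Subgroup P0} (h : L0 ≤ K) (hs : sg ∈ K) : Gam0 ≤ K := fun _ hg =>
  hg.elim (h ·) fun e => (mul_mem_cancel_right hs).1 (h e)

theorem gam_gen {K : Subgroup P0} (hK : ∀ i < 7, ∃ g ∈ K, Act g (hc i)) : Gam0 ≤ K := by
  have k : ∀ (w : List ℕ) (g : P0) (M : ℕ), Act g M → ((∀ i ∈ w, i < 7) ∧ wc w = M) → g ∈ K := fun w g M a e => by
    obtain ⟨g', hg', a'⟩ := exists_wc w e.1 hK
    exact a'.ext (e.2 ▸ a) ▸ hg'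
  exact mx_le (Parr.L0_le_of_gens (k [1] _ _ (Parr.act_pm _ _) (by decide +kernel))
    (k [0, 6, 2, 4, 5, 2, 4, 3, 6, 0] _ _ (Parr.act_pm _ _) (by decide +kernel))
    (k [0, 6, 4, 3, 5, 2, 6, 0, 4, 5, 2, 6, 4, 5] _ _ (Parr.act_pm _ _) (by decide +kernel))
    (k [1, 2, 3, 4, 5, 4, 6, 0, 2, 5, 4, 6, 0] _ _ (Parr.act_pm _ _) (by decide +kernel)))
    (k [0, 1, 3] _ _ (Parr.act_pm _ _) (by decide +kernel))

theorem normal_Gam0 {K : Subgroup P0} (h : K ≤ Gam0) (hn : ∀ g ∈ Gam0, ∀ x ∈ K, g * x * g⁻¹ ∈ K) {x : P0} (hx : x ∈ K)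
    (h1 : x ≠ 1) : L0 ≤ K := by
  by_cases c : ∀ l ∈ L0, Commute x l
  · obtain ⟨i, hi, e⟩ := Parr.cent_L0 (Parr.Gam0_le (h hx)).1.1 c
    have h4 := Parr.Gam0.inner (h hx) (e ▸ (Commute.refl om).pow_left i)
    rw [e] at h4
    exact absurd (by rw [e, Parr.om_pow_not hi h4, pow_zero]) h1
  push Not at c
  obtain ⟨l, hl, c⟩ := c
  refine Parr.L0_le_of_normal (fun g hg => hn g (Parr.L0_le_Gam0 hg)) (x := l * x * l⁻¹ * x⁻¹) ?_
    (mul_mem (hn l (Parr.L0_le_Gam0 hl) x hx) (inv_mem hx)) fun e => c ?_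
  · simpa [mul_assoc] using mul_mem hl (Parr.Gam.conj_L0 (Parr.Gam0_le (h hx)) (inv_mem hl))
  · rw [mul_inv_eq_one, mul_inv_eq_iff_eq_mul] at e
    exact e.symm

theorem Gam0_le_of {K : Subgroup P0} (h : L0 ≤ K) {x : P0} (hx : x ∈ K) (hG : x ∈ Gam0) (h1 : ¬ Commute x om) : Gam0 ≤ K := by
  exact mx_le h ((mul_mem_cancel_left hx).1 (h (hG.resolve_left fun e => h1 (Parr.mem_U0.1 (Parr.L0_le e)).2)))

/-- the words for the `yy i` -/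
def yw (i : ℕ) : List ℕ := [[], [0], [0, 1], [1], [1, 3]].getD i []

theorem act_t0 : Act t0 (wc (yw 3)) ∧ Act v0 (wc (yw 4)) := by
  rw [(by decide +kernel : wc (yw 3) = Parr.t0C), (by decide +kernel : wc (yw 4) = Parr.v0C)]
  exact ⟨Parr.act_pm _ _, Parr.act_pm _ _⟩

theorem mx_eight {g : P0} {M : ℕ} (a : Act g M) (h : Parr.uOK M = true ∧
    mp (mp (mp M M) (mp M M)) (mp (mp M M) (mp M M)) = idM) : g ∈ L0 := by
  have h1 : g * g * (g * g) * (g * g * (g * g)) = 1 :=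
    (((a.mul a).mul (a.mul a)).mul ((a.mul a).mul (a.mul a))).ext (h.2 ▸ Parr.Act.one)
  have h2 : (g ^ 3) ^ 3 = g := by
    rw [← pow_mul, pow_succ, show g ^ (3 * 3 - 1) = _ from Eq.trans (by simp [pow_succ, mul_assoc]) h1, one_mul]
  exact h2 ▸ pow_mem (Parr.U0.cube (a.mem_U0 h.1)) 3

theorem mx_Tst : Tst ≤ Gam0 := by
  rintro _ ⟨i, hi, rfl⟩
  obtain ⟨M, hM, h⟩ := (by decide +kernel : ∀ i < 128, ∃ M ∈ [Parr.TC i, mp (Parr.TC i) 0xc04030100c040301],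
    Parr.uOK M = true ∧ mp (mp (mp M M) (mp M M)) (mp (mp M M) (mp M M)) = idM) i hi
  simp only [List.mem_cons, List.not_mem_nil, or_false] at hM
  rcases hM with rfl | rfl
  exacts [Or.inl (mx_eight (Parr.act_ta i) h), Or.inr (mx_eight ((Parr.act_ta i).mul (Parr.act_pm _ _)) h)]

theorem invol_Gam0 {g : P0} (hg : g ∈ Gam0) (h2 : g * g = 1) : ∃ γ ∈ Gam0, ∃ i < 5, Act (γ * g * γ⁻¹) (wc (yw i)) := by
  by_cases h1 : g = 1
  · exact ⟨1, one_mem _, 0, by decide, by rw [h1, mul_one, mul_inv_cancel]; exact Parr.Act.one⟩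
  rcases Parr.invol_cases (Parr.Gam0_le hg) h2 h1 with ⟨l, hl, e⟩ | ⟨l, hl, e⟩ | ⟨c, -⟩
  · exact ⟨l, Or.inl hl, 3, by decide, e ▸ act_t0.1⟩
  · exact ⟨l, Or.inl hl, 4, by decide, e ▸ act_t0.2⟩
  have hs : ∀ x ∈ zpowers g, x * x = 1 := fun x hx => by
    rcases (ExtraTwo.mem_zpowers_iff_of_mul_self h2).1 hx with rfl | rfl
    exacts [one_mul _, h2]
  let T : Sylow 2 Gam0 := Sylow.ofCard (Tst.subgroupOf Gam0) (by
    rw [Nat.card_congr (subgroupOfEquivOfLe mx_Tst).toEquiv, Parr.card_Tst, Parr.card_Gam0]; decide +kernel)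
  obtain ⟨P, hP⟩ := ((Parr.isPGroup_of_sq hs).comap_subtype (K := Gam0)).exists_le_sylow
  obtain ⟨γ, hγ⟩ := MulAction.exists_smul_eq Gam0 P T
  have : γ * ⟨g, hg⟩ * γ⁻¹ ∈ (T : Subgroup Gam0) := hγ ▸ ⟨⟨g, hg⟩, hP (mem_zpowers g), rfl⟩
  obtain ⟨i, hi, e⟩ : γ * g * (γ : P0)⁻¹ ∈ Tst := this
  obtain ⟨w, -, b1, j, hj, b2, b3⟩ := (by decide +kernel : ∀ i < 128, Parr.mt i i = 0 → ¬ Commute (Parr.ta i) om →
    ∃ w ∈ [[], [0, 1, 2, 6, 0, 4, 5], [3, 5, 6, 4, 5], [5, 4, 6, 2, 1, 5, 2, 4], [0, 4, 6, 0, 4, 6],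
      [5, 4, 3, 6, 2, 1, 5, 2], [1, 4, 3, 5, 4, 6], [2, 3, 5, 4, 6, 2, 1, 5, 2, 6, 4, 5, 2],
      [2, 1, 4, 3, 5, 4, 6, 2, 1, 5, 2, 4], [5, 2, 4, 6, 2, 1, 4, 5, 2, 6, 4, 5, 2],
      [2, 6, 4, 5, 2, 6, 4, 3, 5, 4, 6, 2], [4, 6, 2, 1, 5, 2, 6, 4, 5, 2, 6, 4], [2, 1, 3, 5, 2, 6, 4, 3, 5, 4],
      [1, 2, 1, 5, 2]], (∀ k ∈ w, k < 7) ∧ ∃ j < 5, (∀ k ∈ yw j, k < 7) ∧
        mp (wc w) (Parr.TC i) = mp (wc (yw j)) (wc w)) i hi
    (Parr.ta_eq_one (Parr.mt_lt _ _) (by rw [← Parr.ta_mul hi hi, e, conj_mul, h2]; simp))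
    (by rwa [e, Parr.inner_conj (Parr.Gam0_le γ.2) (Parr.Gam0_le hg)])
  obtain ⟨u, hu, au⟩ := exists_wc w b1 hc_Gam0
  obtain ⟨y, -, ay⟩ := exists_wc _ b2 hc_Gam0
  have e1 : u * Parr.ta i = y * u := (au.mul (Parr.act_ta i)).ext (b3 ▸ ay.mul au)
  refine ⟨u * γ, mul_mem hu γ.2, j, hj, ?_⟩
  rwa [show u * γ * g * (u * γ)⁻¹ = u * (γ * g * (γ : P0)⁻¹) * u⁻¹ by group, ← e, e1, mul_inv_cancel_right]

theorem Tst_le : Tst ≤ Gam0 := by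
  exact mx_Tst

theorem Tst_R {s : P0} (hs : s ∈ Tst) {i : ℕ} (hi : i = 2 ∨ i = 3) {v : V0} (h : inR i v) : inR i (s v) := by
  obtain ⟨j, hj, rfl⟩ := hs
  have := (by decide +kernel : ∀ j < 128, ∀ v, (inR 2 v → inR 2 (lin (Parr.TC j) v)) ∧
    (inR 3 v → inR 3 (lin (Parr.TC j) v))) j hj v
  rcases hi with rfl | rfl
  exacts [this.1 h, this.2 h]

theorem mx_conj {a : V0} (ha : Sg a) : ∃ g : P0, Parr.tv a = g * t0 * g⁻¹ := by
  obtain ⟨g, hg, rfl⟩ := Parr.trans_sing ha.1 ha.2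
  exact ⟨g, by rw [← Parr.Gam.conj_tv (Parr.L0_le_Gam hg), Parr.tv_five]⟩

theorem mx_tv {a b c : V0} (ha : Sg a) (hb : Sg b) (hc : Sg c) (ab : Commute (Parr.tv a) (Parr.tv b))
    (ac : Commute (Parr.tv a) (Parr.tv c)) (bc : Commute (Parr.tv b) (Parr.tv c)) : ∃ (X : Subgroup P0) (γ : P0),
    Parr.tv a ∈ X ∧ Parr.tv b ∈ X ∧ Parr.tv c ∈ X ∧
      ∀ e, Sg e → Parr.tv e ∈ X → ∃ i < 128, Parr.tg i = 1 ∧ Parr.ta i = γ * Parr.tv e * γ⁻¹ := by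
  have h1 : ∀ x ∈ ({Parr.tv a, Parr.tv b, Parr.tv c} : Set P0), ∀ y ∈ ({Parr.tv a, Parr.tv b, Parr.tv c} : Set P0),
      x * y = y * x := by
    rintro _ (rfl | rfl | rfl) _ (rfl | rfl | rfl)
    exacts [rfl, ab, ac, ab.symm, rfl, bc, ac.symm, bc.symm, rfl]
  have h2 : ∀ x ∈ closure ({Parr.tv a, Parr.tv b, Parr.tv c} : Set P0), x * x = 1 := fun x hx => by
    induction hx using closure_induction with
    | mem x hx => rcases hx with rfl | rfl | rfl <;> exact Parr.tv_sq _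
    | one => exact one_mul _
    | mul x y hx hy ihx ihy =>
      have c : y * x = x * y := congrArg Subtype.val ((isMulCommutative_closure h1).is_comm.comm ⟨y, hy⟩ ⟨x, hx⟩)
      rw [mul_assoc, ← mul_assoc y, c, mul_assoc, ihy, mul_one, ihx]
    | inv x _ ih => rw [← mul_inv_rev, ih, inv_one]
  obtain ⟨γ, -, I, -, a1, a2⟩ := Parr.exists_idx ((closure_le Gam).2 (by
    rintro _ (rfl | rfl | rfl)
    exacts [Parr.L0_le_Gam ha.mem, Parr.L0_le_Gam hb.mem, Parr.L0_le_Gam hc.mem])) (Parr.isPGroup_of_sq h2)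
  refine ⟨closure {Parr.tv a, Parr.tv b, Parr.tv c}, γ, subset_closure (by simp), subset_closure (by simp),
    subset_closure (by simp), fun e he hX => ?_⟩
  obtain ⟨i, hi, e1⟩ := a2 _ hX
  obtain ⟨g, e2⟩ := mx_conj he
  exact ⟨i, (a1 i hi).1, (Parr.tag_of (a1 i hi).1 (by rw [e1, conj_mul, Parr.tv_sq]; simp)
    (by rw [e1, e2, Ne, conj_eq_one_iff, conj_eq_one_iff]; exact Parr.t0_ne)).2.1
    (by rw [e1, e2, Parr.nC_conj, Parr.nC_conj, Parr.nC_t0]; decide), e1⟩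

theorem three_tv {a b c : V0} (ha : Sg a) (hb : Sg b) (hc : Sg c) (ab : Commute (Parr.tv a) (Parr.tv b)) :
    Parr.tv a * Parr.tv b * Parr.tv c ≠ 1 := by
  intro h
  obtain ⟨X, γ, h1, h2, -, k⟩ := mx_tv ha hb hb ab ab (Commute.refl _)
  obtain ⟨i, hi, ti, ei⟩ := k a ha h1
  obtain ⟨j, hj, tj, ej⟩ := k b hb h2
  obtain ⟨l, hl, tl, el⟩ := k c hc ((mul_mem_cancel_left (mul_mem h1 h2)).1 (h ▸ one_mem _))
  refine (by decide +kernel : ∀ i < 128, Parr.tg i = 1 → ∀ j < 128, Parr.tg j = 1 → ∀ l < 128, Parr.tg l = 1 →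
    Parr.mt (Parr.mt i j) l ≠ 0) i hi ti j hj tj l hl tl (Parr.ta_eq_one (Parr.mt_lt _ _) ?_)
  rw [← Parr.ta_mul (Parr.mt_lt _ _) hl, ← Parr.ta_mul hi hj, ei, ej, el, conj_mul, conj_mul, h, mul_one, mul_inv_cancel]

theorem four_tv {a b c e : V0} (ha : Sg a) (hb : Sg b) (hc : Sg c) (he : Sg e) (ab : Commute (Parr.tv a) (Parr.tv b))
    (ac : Commute (Parr.tv a) (Parr.tv c)) (bc : Commute (Parr.tv b) (Parr.tv c))
    (h : Parr.tv a * Parr.tv b * Parr.tv c * Parr.tv e = 1) :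
    Parr.tv a = Parr.tv b ∨ Parr.tv a = Parr.tv c ∨ Parr.tv a = Parr.tv e := by
  obtain ⟨X, γ, h1, h2, h3, k⟩ := mx_tv ha hb hc ab ac bc
  obtain ⟨i, hi, ti, ei⟩ := k a ha h1
  obtain ⟨j, hj, tj, ej⟩ := k b hb h2
  obtain ⟨l, hl, tl, el⟩ := k c hc h3
  obtain ⟨m, hm, tm, em⟩ := k e he ((mul_mem_cancel_left (mul_mem (mul_mem h1 h2) h3)).1 (h ▸ one_mem _))
  have := (by decide +kernel : ∀ i < 128, Parr.tg i = 1 → ∀ j < 128, Parr.tg j = 1 → ∀ l < 128, Parr.tg l = 1 →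
    ∀ m < 128, Parr.tg m = 1 → Parr.mt (Parr.mt (Parr.mt i j) l) m = 0 → i = j ∨ i = l ∨ i = m) i hi ti j hj tj l hl tl
    m hm tm (Parr.ta_eq_one (Parr.mt_lt _ _) (by
      rw [← Parr.ta_mul (Parr.mt_lt _ _) hm, ← Parr.ta_mul (Parr.mt_lt _ _) hl, ← Parr.ta_mul hi hj, ei, ej, el, em,
        conj_mul, conj_mul, conj_mul, h, mul_one, mul_inv_cancel]))
  rcases this with rfl | rfl | rfl
  exacts [Or.inl (by simpa using ei.symm.trans ej), Or.inr (Or.inl (by simpa using ei.symm.trans el)),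
    Or.inr (Or.inr (by simpa using ei.symm.trans em))]

theorem tv_axis {a v : V0} (ha : Sg a) (h : Parr.tv a v + v ≠ 0) : Parr.tv (Parr.tv a v + v) = Parr.tv a := by
  have k : ∀ a, Sg a → Parr.tv (om a) = Parr.tv a := fun a ha => by
    rw [← Parr.Gam.conj_tv (Parr.U0_le Parr.om_mem), ← (Parr.mem_U0.1 (Parr.L0_le ha.mem)).2.eq, mul_inv_cancel_right]
  rw [Parr.tv_apply ha.1, add_assoc v, add_comm v, Parr.add_add_cancel] at h ⊢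
  rcases ExtraTwo.zmod2_cases (b0 v (om a)) with e | e <;> rcases ExtraTwo.zmod2_cases (b0 v a) with e' | e' <;>
    rw [e, e'] at h ⊢
  · simp at h
  · rw [zero_smul, one_smul, zero_add, k a ha]
  · rw [zero_smul, one_smul, add_zero]
  · rw [one_smul, one_smul, ← Parr.om_om, k _ (ha.map (Parr.U0_le Parr.om_mem)), k a ha]

theorem tv_ne_one {a : V0} (ha : Sg a) : Parr.tv a ≠ 1 := by
  obtain ⟨g, e⟩ := mx_conj ha
  rw [e, Ne, conj_eq_one_iff]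
  exact Parr.t0_ne

end CfsgLib.Fi64
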