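import Mathlib
import Cfsg.Agent.Lib.Fi64.H3
import Cfsg.Agent.Lib.Fi64.MX
import Cfsg.Agent.Lib.Fi64.MI

/-! Involutions of `H / Q C(Q)` (project E64, plans/E64.md). -/

set_option autoImplicit false
set_option linter.unusedSectionVars false
set_option maxRecDepth 100000
set_option Elab.async false

namespace CfsgLib.Fi64

open Subgroup Cfsg CfsgLib.W2 CfsgLib.Tech CfsgLib.PComp
open CfsgLib.S86 (E64 SM e1 f1 e2 f2 e3 f3 bf sa tv oc t1)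
open CfsgLib.Parr (P0 V0 vc lin mp idM Act Gam Gam0 L0 U0 OK q0 b0 om t0 v0 sg nC Sg Tst)

variable {G : Type*} [Group G] [Finite G]

theorem inv_rpT {i : ℕ} (hi : i < 8) : rp i ∈ Tm := U_le_T (B_le_U (rp_mem i hi).1)

/-- fusion in `⟨N(A), N(Q)⟩` -/
def InvR (A : Subgroup G) (j : M → G) (a c : M) : Prop := ∃ g ∈ Nm A ⊔ Nm (J j Qm), g * j a * g⁻¹ = j c

theorem InvR.symm {A : Subgroup G} {j : M → G} {a c : M} (h : InvR A j a c) : InvR A j c a :=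
  let ⟨g, hg, e⟩ := h; ⟨g⁻¹, inv_mem hg, by rw [← e]; group⟩

theorem InvR.trans {A : Subgroup G} {j : M → G} {a c u : M} (h : InvR A j a c) (h' : InvR A j c u) : InvR A j a u :=
  let ⟨g, hg, e⟩ := h; let ⟨k, hk, e'⟩ := h'; ⟨k * g, mul_mem hk hg, by rw [← e', ← e]; group⟩

theorem inv_bt : ∀ p ∈ [(512, 0, 7), (528, 2, 4), (4104, 3, 7), (4108, 4, 6)], p.2.1 < 8 ∧ p.2.2 < 8 ∧
    te p.1 * te p.1 = 1 ∧ te p.1 ≠ 1 ∧ bt 0 1 p.1 * bt 0 1 p.1 = 1 ∧ bt 0 1 p.1 ≠ 1 ∧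
    iv (rp p.2.1) = iv (te p.1) ∧ iv (bt 0 1 p.1) = iv (rp p.2.2) := by decide +kernel

theorem inv_wa : ∀ i < 10, wa 0 1 [4, 6, 3, 4, 2, 6, 5, 2] (te 144 * qg i * (te 144)⁻¹) =
    te 498 * wa 0 1 [4, 6, 3, 4, 2, 6, 5, 2] (qg i) * (te 498)⁻¹ := by decide +kernel

theorem inv_five : (te 144 * te 144 = 1 ∧ te 144 ≠ 1 ∧ iv (rp 5) = iv (te 144)) ∧
    ∀ ζ ∈ [1, z, d, z * d], te 498 * ζ * (te 498 * ζ) = 1 ∧ te 498 * ζ ≠ 1 ∧
      (iv (te 498 * ζ) = iv (rp 4) ∨ iv (te 498 * ζ) = iv (rp 2)) := by decide +kernel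

namespace Eg

variable {A P : Subgroup G} {π : G → M} {j : M → G} {f : G → P0} {b : G} (E : Eg A π j f b P)
include E

theorem surj {γ : P0} (h : γ ∈ Gam0) : ∃ h ∈ Nm (J j Qm), f h = γ := by
  obtain ⟨k, -, hk⟩ := E.gen ⊤ le_top (mem_top _) γ h
  exact ⟨k, hk⟩

theorem f_yy {i : ℕ} (hi : i < 5) : Act (f (j (yy i))) (wc (yw i)) := by
  have m0 : a0 ∈ Tm := tg_mem 9 (by omega)
  have m1 : h2 ∈ Tm := tg_mem 4 (by omega)
  have m3 : h3 ∈ Tm := tg_mem 5 (by omega)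
  have k0 := E.act_hg (E.jN _ m0) (E.jH m0) (i := 0) (by omega) (E.πj _ m0)
  have k1 := E.act_hg (E.jN _ m1) (E.jH m1) (i := 1) (by omega) (E.πj _ m1)
  have k3 := E.act_hg (E.jN _ m3) (E.jH m3) (i := 3) (by omega) (E.πj _ m3)
  interval_cases i
  · rw [show yy 0 = 1 from rfl, E.j_one, E.f_one]; exact Act.one
  · exact mul_one (f (j a0)) ▸ k0.mul Act.one
  · rw [show yy 2 = a0 * h2 from rfl, E.jm _ m0 _ m1, E.fm _ (E.jH m0) _ (E.jH m1)]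
    exact mul_one (f (j h2)) ▸ k0.mul (k1.mul Act.one)
  · exact mul_one (f (j h2)) ▸ k1.mul Act.one
  · rw [show yy 4 = h2 * h3 from rfl, E.jm _ m1 _ m3, E.fm _ (E.jH m1) _ (E.jH m3)]
    exact mul_one (f (j h3)) ▸ k1.mul (k3.mul Act.one)

theorem f_h2 : f (j h2) = t0 := by
  exact (E.f_yy (i := 3) (by omega)).ext act_t0.1

theorem f_v0 : f (j (h2 * h3)) = v0 := by
  exact (E.f_yy (i := 4) (by omega)).ext act_t0.2

theorem inv' {y : G} (hy : y ∈ Nm (J j Qm)) (h2 : Two y) {γ : P0} (hγ : γ ∈ Gam0) {x : M} (hx : x ∈ Tm)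
    (e : γ * f y * γ⁻¹ = f (j x)) : ∃ h ∈ Nm (J j Qm), ∃ q ∈ Qm, h * y * h⁻¹ = j (x * q) := by
  obtain ⟨k, hk, rfl⟩ := E.surj hγ
  have hy' := mul_mem (mul_mem hk hy) (inv_mem hk)
  obtain ⟨q, hq, c, hc, e1⟩ := E.ker (mul_mem (inv_mem (E.jH hx)) hy') (by
    rw [E.fm _ (inv_mem (E.jH hx)) _ hy', E.f_inv (E.jH hx), E.f_conj hk hy, e, inv_mul_cancel])
  obtain ⟨c', hc', ζ, hζ, e2⟩ := E.cjz (h2.conj k) (mul_mem hx (Q_le_T hq)) (by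
    rw [E.jm _ hx _ (Q_le_T hq), mul_inv_rev, mul_assoc, e1, inv_mul_cancel_left]; exact hc)
  exact ⟨c' * k, mul_mem (E.C_le_H hc') hk, q * ζ, mul_mem hq (Z_le_Q hζ), by rw [← mul_assoc x, ← e2]; group⟩

theorem inv {y : G} (hy : y ∈ Nm (J j Qm)) (h2 : Two y) (e : f y * f y = 1) :
    ∃ h ∈ Nm (J j Qm), ∃ i < 5, ∃ q ∈ Qm, h * y * h⁻¹ = j (yy i * q) := by
  obtain ⟨γ, hγ, i, hi, k⟩ := invol_Gam0 (E.gam y hy) e
  obtain ⟨h, hh, q, hq, e1⟩ := E.inv' hy h2 hγ (yy_mem i hi) (k.ext (E.f_yy hi))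
  exact ⟨h, hh, i, hi, q, hq, e1⟩

theorem Q_le_P : J j Qm ≤ P := by
  exact (E.J_le_T _).trans E.TP

theorem P_ker {s : G} (hs : s ∈ P) (e : f s = 1) : s ∈ J j Qm := by
  exact E.ker_two (E.syl.le hs) e (Two.of_mem E.syl.pgroup hs)

theorem centP {x : G} (hx : x ∈ P) (h : ∀ y ∈ P, Commute x y) : x = 1 ∨ x = j z := by
  have m0 : a0 ∈ Tm := tg_mem 9 (by omega)
  have md : d ∈ Tm := tg_mem 3 (by omega)
  have mz : z ∈ Tm := tg_mem 0 (by omega)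
  have k := h _ (E.TP ((E.j_mem m0).2 m0))
  rcases E.mem_JZ.1 (E.cq_two (fun y hy => (h y (E.Q_le_P hy)).symm) (Two.of_mem E.syl.pgroup hx)) with e | e | e | e
  exacts [Or.inl e, Or.inr e, absurd ((E.j_comm md m0).1 (e ▸ k)) (by decide +kernel),
    absurd ((E.j_comm (mul_mem mz md) m0).1 (E.jm _ mz _ md ▸ e ▸ k)) (by decide +kernel)]

theorem nsqP {t : G} (ht : t ∈ P) : t * t ≠ j d ∧ t * t ≠ j z * j d := by
  have md : d ∈ Qm := qg_mem 1 (by omega)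
  have mz : z ∈ Qm := qg_mem 0 (by omega)
  have key : t * t = j d ∨ t * t = j z * j d → False := fun e => by
    have hH := E.syl.le ht
    have hQ : t * t ∈ J j Qm := by
      rcases e with e | e <;> rw [e]
      exacts [E.mem_Q.2 ⟨d, md, rfl⟩, mul_mem (E.mem_Q.2 ⟨z, mz, rfl⟩) (E.mem_Q.2 ⟨d, md, rfl⟩)]
    obtain ⟨h, hh, i, hi, q, hq, e1⟩ := E.inv hH (Two.of_mem E.syl.pgroup ht) (by rw [← E.fm _ hH _ hH, E.f_Q hQ])
    have mT := mul_mem (yy_mem i hi) (Q_le_T hq)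
    have e2 : j (yy i * q * (yy i * q)) = h * (t * t) * h⁻¹ := by rw [E.jm _ mT _ mT, ← e1, conj_mul]
    have e3 : h * (t * t) * h⁻¹ = j d ∨ h * (t * t) * h⁻¹ = j z * j d := by
      rcases e with e | e <;> rw [e]
      · exact E.H_d hh
      · rw [← conj_mul, (E.H_z hh).eq, mul_inv_cancel_right]
        rcases E.H_d hh with k | k <;> rw [k]
        exacts [Or.inr rfl, Or.inl (by rw [← mul_assoc, E.zd.1, one_mul])]
    rw [← e2, ← E.jm _ (Q_le_T mz) _ (Q_le_T md)] at e3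
    rcases e3 with e3 | e3
    exacts [(nsq_d _).1 (E.j_inj (mul_mem mT mT) (Q_le_T md) e3),
      (nsq_d _).2 (E.j_inj (mul_mem mT mT) (Q_le_T (mul_mem mz md)) e3)]
  exact ⟨fun e => key (Or.inl e), fun e => key (Or.inr e)⟩

theorem inv_iv {a c : M} (ha : a ∈ Tm) (hc : c ∈ Tm) (a2 : a * a = 1) (a1 : a ≠ 1) (c2 : c * c = 1) (c1 : c ≠ 1)
    (e : iv a = iv c) : InvR A j a c := by
  obtain ⟨m, hm⟩ := conj_of_iv a2 a1 c2 c1 e
  obtain ⟨n, hn, -, k⟩ := E.conjM ha hc hm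
  exact ⟨n, mem_sup_left hn, k⟩

theorem inv_b {p : ℕ × ℕ × ℕ} (hp : p ∈ [(512, 0, 7), (528, 2, 4), (4104, 3, 7), (4108, 4, 6)]) :
    InvR A j (rp p.2.1) (rp p.2.2) := by
  obtain ⟨h1, h2, h3, h4, h5, h6, h7, h8⟩ := inv_bt p hp
  obtain ⟨k1, k2⟩ := E.bee_te E.bee p.1
  exact ((E.inv_iv (inv_rpT h1) (te_mem _) (rp_mem _ h1).2.1 (rp_mem _ h1).2.2 h3 h4 h7).trans
    ⟨b, mem_sup_right (E.bee_H (by omega) (by omega) E.bee), k2⟩).trans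
    (E.inv_iv k1 (inv_rpT h2) h5 h6 (rp_mem _ h2).2.1 (rp_mem _ h2).2.2 h8)

theorem inv_42 : InvR A j (rp 4) (rp 2) := (E.inv_b (p := (528, 2, 4)) (by simp)).symm

theorem inv_52 : InvR A j (rp 5) (rp 2) := by
  obtain ⟨⟨x2, x1, x5⟩, hζ⟩ := inv_five
  obtain ⟨k, hk, hw⟩ := E.word (ε := 0) (η := 1) (by omega) (by omega) E.bee [4, 6, 3, 4, 2, 6, 5, 2]
  have hi := inv_wa
  have xT := te_mem 144
  have yT := te_mem 498
  have r5 := E.inv_iv (inv_rpT (i := 5) (by omega)) xT (rp_mem 5 (by omega)).2.1 (rp_mem 5 (by omega)).2.2 x2 x1 x5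
  generalize wa 0 1 [4, 6, 3, 4, 2, 6, 5, 2] = w at hw hi
  generalize te 144 = x at x2 hi xT r5
  generalize te 498 = y at hζ hi yT
  have hc : (j y)⁻¹ * (k * j x * k⁻¹) ∈ Ce (J j Qm) := fun u hu => by
    obtain ⟨a, ha, e⟩ := E.mem_Q.1 (conj_mem_of_mem_normalizer' hk hu)
    obtain ⟨n, -, rfl⟩ := exists_Q ha
    have := pe_ind (R := fun a (_ : M) => a ∈ Qm ∧ Commute (k * j a * k⁻¹) ((j y)⁻¹ * (k * j x * k⁻¹))) (G := qg) (G' := qg)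
      ⟨one_mem _, by rw [E.j_one]; simp⟩ (fun a _ c _ h h' => ⟨mul_mem h.1 h'.1, by
        rw [E.jm _ (Q_le_T h.1) _ (Q_le_T h'.1), ← conj_mul]; exact h.2.mul_left h'.2⟩) n 10 fun i hi' => by
      have q := qg_mem i hi'
      have e1 := (hw _ (Cz_conj (T_le_Cz xT) q)).2
      rw [hi i hi', E.j_conj yT (Q_le_T (hw _ q).1), ← (hw _ q).2, E.j_conj xT (Q_le_T q)] at e1
      refine ⟨q, ?_⟩
      calc k * j (qg i) * k⁻¹ * ((j y)⁻¹ * (k * j x * k⁻¹)) =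
          (j y)⁻¹ * (j y * (k * j (qg i) * k⁻¹) * (j y)⁻¹) * (k * j x * k⁻¹) := by group
        _ = _ := by rw [← e1]; group
    have e2 := this.2
    rw [show pe qg 10 n = qe n from rfl, e, show k * (k⁻¹ * u * k) * k⁻¹ = u by group] at e2
    exact e2
  obtain ⟨c, hC, ζ, hz, e⟩ := E.cjz ((Two.of_sq ((E.j_sq xT).2 x2)).conj k) yT hc
  have r : InvR A j x (y * ζ) := ⟨c * k, mem_sup_right (mul_mem (E.C_le_H hC) hk), by rw [← e]; group⟩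
  have zT := mul_mem yT (Q_le_T (Z_le_Q hz))
  obtain ⟨z2, z1, h | h⟩ := hζ ζ hz
  · exact ((r5.trans r).trans (E.inv_iv zT (inv_rpT (by omega)) z2 z1 (rp_mem 4 (by omega)).2.1
      (rp_mem 4 (by omega)).2.2 h)).trans E.inv_42
  · exact (r5.trans r).trans (E.inv_iv zT (inv_rpT (by omega)) z2 z1 (rp_mem 2 (by omega)).2.1
      (rp_mem 2 (by omega)).2.2 h)

theorem fus {x : M} (hx : x ∈ Tm) (h2 : x * x = 1) (h1 : x ≠ 1) :
    DT x ∨ ∃ g ∈ Nm A ⊔ Nm (J j Qm), g * j x * g⁻¹ = j z ∨ g * j x * g⁻¹ = j (rp 2) := by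
  obtain ⟨i, hi, m, hm⟩ := inv_rep h2 h1
  obtain ⟨n, hn, -, k⟩ := E.conjM hx (inv_rpT hi) hm
  have r : InvR A j x (rp i) := ⟨n, mem_sup_left hn, k⟩
  have r7 : InvR A j (rp 7) (rp 0) := (E.inv_b (p := (512, 0, 7)) (by simp)).symm
  have k0 : InvR A j x (rp 0) → DT x ∨ ∃ g ∈ Nm A ⊔ Nm (J j Qm), g * j x * g⁻¹ = j z ∨ g * j x * g⁻¹ = j (rp 2) :=
    fun ⟨g, hg, e⟩ => Or.inr ⟨g, hg, Or.inl (rp_vals.1 ▸ e)⟩
  have k2 : InvR A j x (rp 2) → DT x ∨ ∃ g ∈ Nm A ⊔ Nm (J j Qm), g * j x * g⁻¹ = j z ∨ g * j x * g⁻¹ = j (rp 2) :=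
    fun ⟨g, hg, e⟩ => Or.inr ⟨g, hg, Or.inr e⟩
  interval_cases i
  · exact k0 r
  · exact Or.inl (((iv_conj m x).symm.trans (congrArg iv hm)).trans (iv_rp 1 (by omega)))
  · exact k2 r
  · exact k0 ((r.trans (E.inv_b (p := (4104, 3, 7)) (by simp))).trans r7)
  · exact k2 (r.trans E.inv_42)
  · exact k2 (r.trans E.inv_52)
  · exact k2 ((r.trans (E.inv_b (p := (4108, 4, 6)) (by simp)).symm).trans E.inv_42)
  · exact k0 (r.trans r7)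

theorem sq2 : (∃ t, t * t = j z) ∧ ∃ t, t * t = j (rp 2) := by
  obtain ⟨t, ht⟩ := sq_rp 0 (by simp)
  obtain ⟨u, hu⟩ := sq_rp 4 (by simp)
  obtain ⟨g, -, e⟩ := E.sq (inv_rpT (by omega)) ht
  obtain ⟨k, -, e'⟩ := E.sq (inv_rpT (by omega)) hu
  obtain ⟨n, -, e2⟩ := E.inv_42
  exact ⟨⟨g, rp_vals.1 ▸ e⟩, n * k * n⁻¹, by rw [conj_mul, e', e2]⟩

theorem dt_dd {x : M} (hx : x ∈ Tm) (h2 : x * x = 1) (h : DT x) : ∃ n ∈ Nm A, n * j d * n⁻¹ = j x := by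
  obtain ⟨m, hm⟩ := conj_of_iv (x := d) (by decide +kernel) (by decide +kernel) h2
    (by rintro rfl; revert h; decide +kernel) ((rp_vals.2.1 ▸ iv_rp 1 (by omega)).trans (Eq.symm h))
  obtain ⟨n, hn, -, k⟩ := E.conjM (tg_mem 3 (by omega)) hx hm
  exact ⟨n, hn, k⟩

end Eg

end CfsgLib.Fi64
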