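import Mathlib
import Cfsg.Agent.Lib.Fi64.Inv

/-! `Q` is weakly closed and `P` is a Sylow subgroup (project E64, plans/E64.md). -/

set_option autoImplicit false
set_option maxRecDepth 100000
set_option Elab.async false

namespace CfsgLib.Fi64

open Subgroup Cfsg CfsgLib.W2 CfsgLib.Tech CfsgLib.PComp
open CfsgLib.S86 (E64 SM e1 f1 e2 f2 e3 f3 bf sa tv oc t1)
open CfsgLib.Parr (P0 V0 vc lin mp idM Act Gam Gam0 L0 U0 OK q0 b0 om t0 v0 sg nC Sg Tst)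

private theorem wc_two_mul {α : Type*} [Finite α] {S T : Set α} {f : α → α} (hf : Function.Injective f)
    (h : ∀ x ∈ S, x ∉ T → f x ∈ T) : Nat.card S ≤ 2 * Nat.card T := by
  classical
  have := Nat.card_le_card_of_injective (fun x : S => if c : x.1 ∈ T then (true, (⟨x, c⟩ : T)) else (false, ⟨_, h x x.2 c⟩))
    fun x y e => by
      dsimp only at e
      split_ifs at e <;> simp only [Prod.mk.injEq, Subtype.mk.injEq, true_and, Bool.true_eq_false, Bool.false_eq_true,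
        false_and] at e
      exacts [Subtype.ext e, Subtype.ext (hf e)]
  simpa using this

/-- an elementary abelian subgroup without conjugates of `v0` is small -/
private theorem wc_small {Y : Subgroup P0} (hY : Y ≤ Gam) (h2 : ∀ x ∈ Y, x * x = 1)
    (hv : ∀ x ∈ Y, ∀ l ∈ L0, l * x * l⁻¹ ≠ v0) {n : ℕ} (hn : ∀ x ∈ Y, n ≤ 4 * nC x) (hc : n * Nat.card Y = 1024) :
    Y = ⊥ := by
  have cs : ∀ x ∈ Y, x ≠ 1 → nC x = 64 ∨ (¬ Commute x om ∧ nC x = 16) := fun x hx h1 => by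
    rcases Parr.invol_cases (hY hx) (h2 x hx) h1 with ⟨l, -, e⟩ | ⟨l, hl, e⟩ | e
    · exact Or.inl (by rw [← Parr.nC_conj l, e, Parr.nC_t0])
    · exact absurd e (hv x hx l hl)
    · exact Or.inr e
  by_contra hb
  by_cases ho : ∃ o ∈ Y, ¬ Commute o om ∧ nC o = 16
  · obtain ⟨o, oY, o1, o2⟩ := ho
    have a1 : Nat.card (Y ⊓ U0 : Subgroup P0) ≤ 2 :=
      Parr.card_le_two (inf_le_left.trans hY) (fun x hx => h2 x hx.1) fun x hx h1 => by
        rw [(cs x hx.1 h1).resolve_right fun k => k.1 (Parr.mem_U0.1 hx.2).2]; decide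
    have a2 : Nat.card Y ≤ 2 * Nat.card (Y ⊓ U0 : Subgroup P0) :=
      wc_two_mul (S := Y) (T := (Y ⊓ U0 : Subgroup P0)) (f := (o * ·)) (mul_right_injective o) fun x hx k =>
        mem_inf.2 ⟨mul_mem oY hx, Parr.Gam.mul_mem_U0 (hY oY) (hY hx) o1 fun c => k (mem_inf.2 ⟨hx, Parr.mem_U0_of (hY hx) c⟩)⟩
    have a3 := hn o oY
    rw [o2] at a3
    have : n * Nat.card Y ≤ 64 * 4 := Nat.mul_le_mul a3 (by omega)
    omega
  · have cs' : ∀ x ∈ Y, x ≠ 1 → nC x = 64 := fun x hx h1 => (cs x hx h1).resolve_right fun k => ho ⟨x, hx, k⟩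
    have a1 : Nat.card Y ≤ 2 := Parr.card_le_two hY h2 fun x hx h1 => by rw [cs' x hx h1]; decide
    obtain ⟨⟨x, hx⟩, h1⟩ := (ne_bot_iff_exists_ne_one).1 hb
    have a3 := hn x hx
    rw [cs' x hx fun k => h1 (Subtype.ext k)] at a3
    have : n * Nat.card Y ≤ 256 * 2 := Nat.mul_le_mul a3 a1
    omega

variable {G : Type*} [Group G] [Finite G]

namespace Eg

variable {A P : Subgroup G} {π : G → M} {j : M → G} {f : G → P0} {b : G} (E : Eg A π j f b P)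
include E

private theorem wc_zZ : zpowers (j z) ≤ J j Zm := zpowers_le.2 (E.toSit.mem_JZ.2 (Or.inr (Or.inl rfl)))

/-- a subgroup of `Q` centralised by `y` modulo `z` -/
private theorem wc_fix {y : G} (hy : y ∈ Nm (J j Qm)) {I : Subgroup G} (hI : I ≤ J j Qm)
    (h : ∀ x ∈ I, y * x * y⁻¹ * x⁻¹ ∈ zpowers (j z)) : Nat.card I ≤ 4 * nC (f y) := by
  choose s s1 s2 using τ_surj
  have p := fun x : I => E.toSit.j_π (hI x.2)
  have := Nat.card_le_card_of_injective (fun x : I => ((⟨(s (τ (π x)))⁻¹ * π x,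
      (τ_eq (s1 _) (p x).1).1 (s2 _)⟩ : Zm), (⟨τ (π x), (E.toRep.f_fix hy (p x).1).2 (by
        rw [(p x).2.2]; exact E.wc_zZ (h x x.2))⟩ : {v // f y v = v}))) fun x x' e => by
    simp only [Prod.mk.injEq, Subtype.mk.injEq] at e
    obtain ⟨e1, e2⟩ := e
    rw [e2, mul_right_inj] at e1
    exact Subtype.ext (by rw [← (p x).2.2, e1, (p x').2.2])
  rwa [Nat.card_prod, card_Z] at this

theorem wcl {g : G} (hg : g ∈ Cx (j z)) (h : cj g (J j Qm) ≤ P) : cj g (J j Qm) = J j Qm := by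
  have S := E.toSit
  have R := E.toRep
  set Q := J j Qm with hQ
  have QH : cj g Q ≤ Nm Q := h.trans E.syl.le
  have cz : ∀ {k x : G}, Commute k (j z) → x ∈ zpowers (j z) → k * x * k⁻¹ ∈ zpowers (j z) := fun {k x} c hx => by
    obtain ⟨n, rfl⟩ := hx
    rw [(c.zpow_right n).eq, mul_inv_cancel_right]
    exact zpow_mem_zpowers _ _
  have gz : Commute g (j z) := mem_Cx.1 hg
  have sq : ∀ y ∈ cj g Q, y * y ∈ zpowers (j z) := by
    rintro _ ⟨y, hy, rfl⟩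
    have := cz gz (S.Q_sqG hy)
    rwa [← conj_mul] at this
  have cm : ∀ y ∈ cj g Q, ∀ k ∈ cj g Q, y * k * y⁻¹ * k⁻¹ ∈ zpowers (j z) := fun y hy k hk => by
    have := cz gz (S.Q_commG (mem_cj.1 hy) (mem_cj.1 hk))
    rwa [show g * (g⁻¹ * y * g * (g⁻¹ * k * g) * (g⁻¹ * y * g)⁻¹ * (g⁻¹ * k * g)⁻¹) * g⁻¹ = y * k * y⁻¹ * k⁻¹ by group] at this
  have ab : ∀ Y ≤ cj g Q, (∀ x ∈ Y, ∀ y ∈ Y, Commute x y) → Nat.card Y ≤ 64 := fun Y hY hc => by
    rw [← card_cj g⁻¹ Y]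
    refine S.ab64G ((cj_mono g⁻¹ hY).trans (cj_inv_cj g Q).le) ?_
    rintro _ ⟨x, hx, rfl⟩ _ ⟨y, hy, rfl⟩
    exact (hc x hx y hy).map _
  have ZQ : zpowers (j z) ≤ Q := E.wc_zZ.trans (S.J_mono Z_le_Q)
  let φ : cj g Q →* P0 := R.fh.comp (inclusion QH)
  have φa : ∀ x : cj g Q, φ x = f x := fun _ => rfl
  have hk : φ.ker = (cj g Q ⊓ Q).subgroupOf (cj g Q) := by
    ext x
    rw [MonoidHom.mem_ker, φa, mem_subgroupOf]
    exact ⟨fun e => ⟨x.2, E.P_ker (h x.2) e⟩, fun e => R.f_Q e.2⟩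
  have cd : Nat.card (cj g Q ⊓ Q : Subgroup G) * Nat.card φ.range = 1024 := by
    rw [← Nat.card_congr (subgroupOfEquivOfLe (inf_le_left : cj g Q ⊓ Q ≤ cj g Q)).toEquiv, ← hk,
      ← Nat.card_congr (QuotientGroup.quotientKerEquivRange φ).toEquiv, mul_comm, ← card_eq_card_quotient_mul_card_subgroup,
      card_cj, hQ, S.card_J Q_le_T, card_Q]
  have YG : φ.range ≤ Gam := by
    rintro _ ⟨x, rfl⟩
    exact Parr.Gam0_le (E.gam _ (QH x.2))
  have Y2 : ∀ x ∈ φ.range, x * x = 1 := by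
    rintro _ ⟨x, rfl⟩
    rw [← map_mul, φa]
    exact R.f_Q (ZQ (sq x x.2))
  have Yb : φ.range = ⊥ := by
    refine wc_small YG Y2 ?_ ?_ cd
    · rintro _ ⟨⟨y, hy⟩, rfl⟩ l hl e
      rw [φa] at e
      have h23 : h2 * h3 ∈ Bm := by decide +kernel
      have T23 := U_le_T (B_le_U h23)
      obtain ⟨k, hk, q, hq, e1⟩ := E.inv' (QH hy) (Two.of_mem E.syl.pgroup (h hy)) (Parr.L0_le_Gam0 hl) T23
        (e.trans E.f_v0.symm)
      have Tq := mul_mem T23 (Q_le_T hq)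
      have kz := S.H_z hk
      have qB : q ∈ Bm := by
        refine v0_sq hq ((S.j_mem (mul_mem Tq Tq)).1 ?_)
        rw [S.jm _ Tq _ Tq, ← e1, conj_mul]
        exact E.wc_zZ (cz kz (sq y hy))
      have fy : f (k * y * k⁻¹) = v0 := by
        rw [e1, S.jm _ T23 _ (Q_le_T hq), R.fm _ (S.jH T23) _ (S.jH (Q_le_T hq)), E.f_v0,
          R.f_Q ((S.j_mem (Q_le_T hq)).2 hq), mul_one]
      have le : cj g Q ⊓ Q ≤ cj g Q ⊓ cj k⁻¹ (J j Bm) := fun x hx => ⟨hx.1, mem_cj.2 (by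
        rw [inv_inv]
        obtain ⟨u, hu, e2⟩ := S.mem_Q.1 (Tech.conj_mem_of_mem_normalizer hk hx.2)
        rw [← e2, S.j_mem (Q_le_T hu)]
        refine v0_fix hu ?_
        rw [← fy, R.f_fix (mul_mem (mul_mem hk (QH hy)) (inv_mem hk)) hu, e2]
        have := cz kz (cm y hy x hx.1)
        rw [show k * (y * x * y⁻¹ * x⁻¹) * k⁻¹ = k * y * k⁻¹ * (k * x * k⁻¹) * (k * y * k⁻¹)⁻¹ * (k * x * k⁻¹)⁻¹ by group] at this
        exact E.wc_zZ this)⟩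
      have ym : y ∈ cj g Q ⊓ cj k⁻¹ (J j Bm) := ⟨hy, mem_cj.2 (by
        rw [inv_inv, e1, S.j_mem Tq]; exact mul_mem h23 qB)⟩
      have lt : cj g Q ⊓ Q < cj g Q ⊓ cj k⁻¹ (J j Bm) := lt_of_le_of_ne le fun e3 => by
        have : y ∈ Q := (e3 ▸ ym : y ∈ cj g Q ⊓ Q).2
        rw [R.f_Q this] at e
        exact absurd e (by simp only [mul_one, mul_inv_cancel]; decide +kernel)
      have c1 := Core.card_lt_of_lt lt
      have c2 := ab _ (inf_le_left : cj g Q ⊓ cj k⁻¹ (J j Bm) ≤ cj g Q) (by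
        rintro _ ⟨-, x, hx, rfl⟩ _ ⟨-, y, hy, rfl⟩
        obtain ⟨u, hu, uT, rfl⟩ := S.mem_J.1 hx
        obtain ⟨v, hv, vT, rfl⟩ := S.mem_J.1 hy
        exact ((S.j_comm uT vT).2 (B_comm hu hv)).map _)
      have c3 := Parr.card_le_16 YG Y2
      have : Nat.card (cj g Q ⊓ Q : Subgroup G) * Nat.card φ.range ≤ 63 * 16 := Nat.mul_le_mul (by omega) c3
      omega
    · rintro _ ⟨⟨y, hy⟩, rfl⟩
      exact E.wc_fix (QH hy) inf_le_right fun x hx => cm y hy x hx.1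
  refine eq_of_le_of_card_ge (fun y hy => E.P_ker (h hy) ?_) (card_cj g Q).ge
  exact (mem_bot.1 (Yb ▸ (⟨⟨y, hy⟩, rfl⟩ : φ ⟨y, hy⟩ ∈ φ.range)))

theorem sylG : IsSylowIn 2 P ⊤ := by
  have S := E.toSit
  refine isSylowIn_of_maximal E.syl.pgroup le_top fun R hR PR _ => ?_
  by_contra hn
  obtain ⟨x, xR, xP, xN⟩ := exists_mem_normalizer_of_lt hR (lt_of_le_not_ge PR hn)
  have zP : j z ∈ P := E.TP ((S.j_mem (tr_mem e1)).2 (tr_mem e1))
  have xz : x * j z * x⁻¹ = j z := by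
    refine (E.centP (Tech.conj_mem_of_mem_normalizer xN zP) fun y hy => ?_).resolve_left (by simpa using S.zd.2.1)
    have := (S.H_z (E.syl.le (Tech.conj_mem_of_mem_normalizer' xN hy))).eq
    calc x * j z * x⁻¹ * y = x * (j z * (x⁻¹ * y * x)) * x⁻¹ := by group
      _ = y * (x * j z * x⁻¹) := by rw [← this]; group
  have xH : x ∈ Nm (J j Qm) := mem_normalizer_iff_cj.2
    (E.wcl (mem_Cx'.2 xz) ((cj_mono x E.Q_le_P).trans (mem_normalizer_iff_cj.1 xN).le))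
  have := E.syl.eq_of_le (hR.to_inf_left (K := Nm (J j Qm))) (le_inf PR E.syl.le) inf_le_right
  exact xP (this ▸ (⟨xR, xH⟩ : x ∈ R ⊓ Nm (J j Qm)))

theorem sylC : IsSylowIn 2 P (Cx (j z)) :=
  E.sylG.of_le (fun _ hx => mem_Cx.2 (E.toSit.H_z (E.syl.le hx)).eq) le_top

theorem nsqd (t : G) : t * t ≠ j d := by
  have S := E.toSit
  have zQ : z ∈ Qm := qg_mem 0 (by decide)
  have dQ : d ∈ Qm := qg_mem 1 (by decide)
  have dZ : d ∈ Zm := mem_Z.2 (Or.inr (Or.inr (Or.inl rfl)))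
  have jQ := fun {x : M} (hx : x ∈ Qm) => (S.j_mem (Q_le_T hx)).2 hx
  have Qd : ∀ y ∈ J j Qm, Commute y (j d) := fun y hy => by
    obtain ⟨u, hu, rfl⟩ := S.mem_Q.1 hy
    exact (S.j_comm (Q_le_T hu) (Q_le_T dQ)).2 (Z_cent dZ hu).symm
  refine nsq E.sylG (E.Q_le_P (jQ zQ)) (E.Q_le_P (jQ dQ)) S.zd.2.1 S.zd.1 S.zd.2.2.1
    (fun x hx => S.H_z (E.syl.le hx)) (fun x hx => S.H_d (E.syl.le hx)) (fun x hx => E.centP hx)
    (fun x hx _ hc => S.mem_JZ.1 (S.cq_two (mem_centralizer_iff.2 fun y hy => (hc y (E.Q_le_P hy) (Qd y hy)).eq.symm)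
      (Two.of_mem E.syl.pgroup hx)))
    ⟨j (qe 72), E.Q_le_P (jQ (qe_mem 72)), Qd _ (jQ (qe_mem 72)), ?_⟩ (fun t ht => E.nsqP ht) t
  rw [← S.jm _ (Q_le_T (qe_mem 72)) _ (Q_le_T (qe_mem 72)), show qe 72 * qe 72 = z by decide +kernel]

end Eg

end CfsgLib.Fi64
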