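import Mathlib
import Cfsg.Agent.Lib.Fi64.Wc

/-! The conjugates of `d` in `H` (project E64, plans/E64.md). -/

set_option autoImplicit false
set_option maxRecDepth 100000
set_option Elab.async false

namespace CfsgLib.Fi64

open Subgroup Cfsg CfsgLib.W2 CfsgLib.Tech CfsgLib.PComp
open CfsgLib.S86 (E64 SM e1 f1 e2 f2 e3 f3 bf sa tv oc t1)
open CfsgLib.Parr (P0 V0 vc lin mp idM Act Gam Gam0 L0 U0 OK q0 b0 om t0 v0 sg nC Sg Tst)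

variable {G : Type*} [Group G] [Finite G]

namespace Eg

variable {A P : Subgroup G} {π : G → M} {j : M → G} {f : G → P0} {b : G} (E : Eg A π j f b P)
include E

theorem dd_sq {k : G} (h : DD j k) : k * k = 1 ∧ k ≠ 1 ∧ ∀ t, t * t ≠ k := by
  obtain ⟨g, rfl⟩ := h
  refine ⟨by rw [conj_mul, E.zd.2.2.1, mul_one, mul_inv_cancel], by simpa using E.zd.2.2.2.1, fun t e => ?_⟩
  refine E.nsqd (g⁻¹ * t * g⁻¹⁻¹) ?_
  rw [conj_mul, e]; group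

theorem dd_ne_z {k : G} (h : DD j k) : k ≠ j z := fun e =>
  let ⟨t, ht⟩ := E.sq2.1; (E.dd_sq h).2.2 t (ht.trans e.symm)

theorem dd_dt {x : M} (hx : x ∈ Tm) (h : DD j (j x)) : DT x := by
  obtain ⟨h2, h1, -⟩ := E.dd_sq h
  rcases E.fus hx ((E.j_sq hx).1 h2) (fun e => h1 ((E.j_eq_one hx).2 e)) with k | ⟨g, -, k | k⟩
  · exact k
  · exact absurd k (E.dd_ne_z (h.conj g))
  · obtain ⟨t, ht⟩ := E.sq2.2
    exact absurd (ht.trans k.symm) ((E.dd_sq (h.conj g)).2.2 t)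

theorem dd_of {x : M} (hx : x ∈ Tm) (h2 : x * x = 1) (h : DT x) : DD j (j x) :=
  let ⟨n, _, e⟩ := E.dt_dd hx h2 h; ⟨n, e⟩

theorem dd_zd : DD j (j z * j d) := by
  rw [← E.zd.2.2.2.2.2.2]
  exact E.dd_of (by decide +kernel) (by decide +kernel) (by decide +kernel)

theorem dd_pair {h k : G} (hh : h ∈ Nm (J j Qm)) (e : k = j d ∨ k = j z * j d) :
    h * k * h⁻¹ = j d ∨ h * k * h⁻¹ = j z * j d := by
  rcases e with rfl | rfl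
  · exact E.H_d hh
  · rw [← conj_mul, (E.H_z hh).eq, mul_inv_cancel_right]
    rcases E.H_d hh with e | e <;> rw [e]
    exacts [Or.inr rfl, Or.inl (by rw [← mul_assoc, E.zd.1, one_mul])]

theorem dd_Z {h k : G} (hh : h ∈ Nm (J j Qm)) (e : k ∈ J j Zm) : h * k * h⁻¹ ∈ J j Zm := by
  rw [E.mem_JZ] at e ⊢
  rcases e with rfl | rfl | e
  · simp
  · rw [(E.H_z hh).eq, mul_inv_cancel_right]; simp
  · exact Or.inr (Or.inr (E.dd_pair hh e))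

theorem dd_h2 {q : M} (hq : q ∈ Qm) (h : DD j (j (h2 * q))) : ∃ q' ∈ Qm, j q' * j h2 * (j q')⁻¹ = j (h2 * q) := by
  have m2 : h2 ∈ Tm := by decide +kernel
  have m := mul_mem m2 (Q_le_T hq)
  rcases dt_coset (i := 3) (by omega) hq ((E.j_sq m).1 (E.dd_sq h).1) (E.dd_dt m h) with ⟨e, -⟩ | ⟨-, q', hq', e⟩
  · omega
  · exact ⟨q', hq', by rw [← E.j_conj (Q_le_T hq') m2, e]⟩

theorem dd_H {k : G} (hk : k ∈ Nm (J j Qm)) (h : DD j k) : k = j d ∨ k = j z * j d ∨ ∃ a, Sg a ∧ f k = Parr.tv a ∧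
    (∀ q ∈ J j Qm, DD j (k * q) → ∃ q' ∈ J j Qm, k * q = q' * k * q'⁻¹) ∧
      ∀ q ∈ J j Qm, q * k * q⁻¹ * k⁻¹ ∈ J j Zm → Commute q k := by
  have k2 := (E.dd_sq h).1
  have m2 : h2 ∈ Tm := by decide +kernel
  obtain ⟨g, hg, i, hi, q, hq, e⟩ := E.inv hk (Two.of_sq k2) (by rw [← E.fm _ hk _ hk, k2, E.f_one])
  have m := mul_mem (yy_mem i hi) (Q_le_T hq)
  have h' : DD j (j (yy i * q)) := e ▸ h.conj g
  rcases dt_coset hi hq ((E.j_sq m).1 (E.dd_sq h').1) (E.dd_dt m h') with ⟨rfl, c⟩ | ⟨rfl, -⟩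
  · rw [show yy 0 = 1 from rfl, one_mul] at e
    have := E.dd_pair (inv_mem hg) (k := g * k * g⁻¹) (by
      rw [e]; exact c.imp (congrArg j) fun c => (congrArg j c).trans E.zd.2.2.2.2.2.2)
    rw [show g⁻¹ * (g * k * g⁻¹) * g⁻¹⁻¹ = k by group] at this
    exact this.imp_right Or.inl
  · obtain ⟨q', hq', e'⟩ := E.dd_h2 hq h'
    obtain ⟨u, hu, rfl⟩ : ∃ u ∈ Nm (J j Qm), k = u * j h2 * u⁻¹ :=
      ⟨g⁻¹ * j q', mul_mem (inv_mem hg) (E.jH (Q_le_T hq')), by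
        rw [show g⁻¹ * j q' * j h2 * (g⁻¹ * j q')⁻¹ = g⁻¹ * (j q' * j h2 * (j q')⁻¹) * g by group, e']
        exact (show k = g⁻¹ * (g * k * g⁻¹) * g by group).trans (by rw [e]; rfl)⟩
    have hG := Parr.Gam0_le (E.gam u hu)
    refine Or.inr (Or.inr ⟨f u (vc 5), Parr.Sg.map hG ⟨by decide +kernel, by decide +kernel⟩, ?_, fun p hp hd => ?_,
      fun p hp hz => ?_⟩)
    · rw [E.f_conj hu (E.jH m2), E.f_h2, ← Parr.tv_five, Parr.Gam.conj_tv hG]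
    · obtain ⟨x, hx, ex⟩ := E.mem_Q.1 (conj_mem_of_mem_normalizer' hu hp)
      obtain rfl : p = u * j x * u⁻¹ := by rw [ex]; group
      have := hd.conj u⁻¹
      rw [conj_mul, show u⁻¹ * (u * (j h2 * j x) * u⁻¹) * u⁻¹⁻¹ = j h2 * j x by group, ← E.jm _ m2 _ (Q_le_T hx)] at this
      obtain ⟨y, hy, ey⟩ := E.dd_h2 hx this
      refine ⟨u * j y * u⁻¹, conj_mem_of_mem_normalizer hu (E.mem_Q.2 ⟨y, hy, rfl⟩), ?_⟩
      rw [conj_mul, ← E.jm _ m2 _ (Q_le_T hx), ← ey]; group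
    · obtain ⟨x, hx, ex⟩ := E.mem_Q.1 (conj_mem_of_mem_normalizer' hu hp)
      obtain rfl : p = u * j x * u⁻¹ := by rw [ex]; group
      have := E.dd_Z (inv_mem hu) hz
      have mx := Q_le_T hx
      rw [show u⁻¹ * (u * j x * u⁻¹ * (u * j h2 * u⁻¹) * (u * j x * u⁻¹)⁻¹ * (u * j h2 * u⁻¹)⁻¹) * u⁻¹⁻¹ =
        j x * j h2 * (j x)⁻¹ * (j h2)⁻¹ by group, ← E.j_conj mx m2, ← E.j_inv m2,
        ← E.jm _ (mul_mem (mul_mem mx m2) (inv_mem mx)) _ (inv_mem m2),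
        E.j_mem (mul_mem (mul_mem (mul_mem mx m2) (inv_mem mx)) (inv_mem m2))] at this
      exact ((E.j_comm mx m2).2 (cen_h2 hx this)).conj u

theorem dd_Q {k : G} (hk : k ∈ J j Qm) (h : DD j k) : k = j d ∨ k = j z * j d := by
  rcases E.dd_H (le_normalizer hk) h with e | e | ⟨a, ha, e, -⟩
  exacts [Or.inl e, Or.inr e, absurd (e.symm.trans (E.f_Q hk)) (tv_ne_one ha)]

theorem dd_zQ : j z ∈ J j Zm ∧ J j Zm ≤ J j Qm := ⟨E.mem_JZ.2 (Or.inr (Or.inl rfl)), E.J_mono Z_le_Q⟩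

theorem iso {e : G} (he : e ∈ Nm (J j Qm)) (h : DD j e) (h' : DD j (j z * e)) : e = j d ∨ e = j z * j d := by
  rcases E.dd_H he h with k | k | ⟨a, -, -, k1, k2⟩
  · exact Or.inl k
  · exact Or.inr k
  · rw [← (E.H_z he).eq] at h'
    obtain ⟨q, hq, k⟩ := k1 _ (E.dd_zQ.2 E.dd_zQ.1) h'
    have := k2 q hq (by rw [← k, (E.H_z he).eq, mul_inv_cancel_right]; exact E.dd_zQ.1)
    rw [this.eq, mul_inv_cancel_right] at k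
    exact absurd (mul_eq_left.1 k) E.zd.2.1

theorem dd_tv {k : G} (hk : k ∈ Nm (J j Qm)) (h : DD j k) (hz : k ∉ J j Zm) : ∃ a, Sg a ∧ f k = Parr.tv a ∧
    (∀ q ∈ J j Qm, DD j (k * q) → ∃ q' ∈ J j Qm, k * q = q' * k * q'⁻¹) ∧
      ∀ q ∈ J j Qm, q * k * q⁻¹ * k⁻¹ ∈ J j Zm → Commute q k :=
  ((E.dd_H hk h).resolve_left fun e => hz (E.mem_JZ.2 (Or.inr (Or.inr (Or.inl e))))).resolve_left
    fun e => hz (E.mem_JZ.2 (Or.inr (Or.inr (Or.inr e))))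

theorem dd_cm {k k' : G} (hk : k ∈ Nm (J j Qm)) (h : DD j k) (hz : k ∉ J j Zm) (h' : DD j k') (c : Commute k k')
    (hq : k * k' ∈ J j Qm) : ∃ y ∈ Qm, j y = k * k' ∧ (τ y ≠ 0 → Parr.tv (τ y) = f k) ∧ (τ y = 0 → k = k') := by
  obtain ⟨a, ha, e, k1, k2⟩ := E.dd_tv hk h hz
  have s := (E.dd_sq h).1
  have i : k⁻¹ = k := inv_eq_of_mul_eq_one_right s
  obtain ⟨q, hq', e'⟩ := k1 _ hq (by rwa [← mul_assoc, s, one_mul])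
  rw [← mul_assoc, s, one_mul] at e'
  obtain ⟨y, hy, ey⟩ := E.mem_Q.1 hq
  obtain ⟨x, hx, rfl⟩ := E.mem_Q.1 hq'
  have t := E.f_comm hk hx hy (by rw [ey, e', i]; group)
  refine ⟨y, hy, ey, fun n => ?_, fun n => ?_⟩
  · rw [t, e] at n ⊢
    exact tv_axis ha n
  · have := k2 _ hq' (by rw [← e', i, ← c.eq, ← ey, E.j_mem (Q_le_T hy)]; exact (τ_eq_zero hy).1 n)
    rw [e', this.eq, mul_inv_cancel_right]

theorem dd_hex {k1 k2 k3 k4 : G} (h1 : k1 ∈ P ∧ DD j k1 ∧ k1 ∉ J j Zm) (h2 : k2 ∈ P ∧ DD j k2 ∧ k2 ∉ J j Zm)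
    (h3 : k3 ∈ P ∧ DD j k3) (h4 : DD j k4) (c13 : Commute k1 k3) (c24 : Commute k2 k4)
    (e : k1 * k3 * (k2 * k4) = j z) (n3 : k1 ≠ k3) (ef : f k1 = f k3) : f k1 = f k2 := by
  have H1 := E.syl.le h1.1
  have q1 : k1 * k3 ∈ J j Qm := E.P_ker (mul_mem h1.1 h3.1) (by
    rw [E.fm _ H1 _ (E.syl.le h3.1), ← ef, ← E.fm _ H1 _ H1, (E.dd_sq h1.2.1).1, E.f_one])
  have q2 : k2 * k4 ∈ J j Qm := (mul_mem_cancel_left q1).1 (e ▸ E.dd_zQ.2 E.dd_zQ.1)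
  obtain ⟨y, hy, ey, a1, a2⟩ := E.dd_cm H1 h1.2.1 h1.2.2 h3.2 c13 q1
  obtain ⟨y', hy', ey', b1, -⟩ := E.dd_cm (E.syl.le h2.1) h2.2.1 h2.2.2 h4 c24 q2
  have n : τ y ≠ 0 := fun n => n3 (a2 n)
  have mz : z ∈ Zm := by decide +kernel
  rw [← ey, ← ey', ← E.jm _ (Q_le_T hy) _ (Q_le_T hy')] at e
  have e' := E.j_inj (Q_le_T (mul_mem hy hy')) (Q_le_T (Z_le_Q mz)) e
  have t := τ_mul hy hy'
  rw [e', (τ_eq_zero (Z_le_Q mz)).2 mz] at t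
  have t' : τ y' = τ y := (by decide +kernel : ∀ u v : V0, 0 = u + v → v = u) _ _ t
  rw [← a1 n, ← t', b1 (t' ▸ n)]

theorem hex {k1 k2 k3 k4 : G} (h : ∀ k ∈ [k1, k2, k3, k4], k ∈ P ∧ DD j k ∧ k ∉ J j Zm ∧ ∀ k' ∈ [k1, k2, k3, k4], Commute k k')
    (e : k1 * k2 * k3 * k4 = j z) (n3 : k1 ≠ k3) (n4 : k1 ≠ k4) : k1 * k2 ∈ J j Qm := by
  obtain ⟨p1, d1, z1, c1⟩ := h k1 (by simp)
  obtain ⟨p2, d2, z2, c2⟩ := h k2 (by simp)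
  obtain ⟨p3, d3, z3, c3⟩ := h k3 (by simp)
  obtain ⟨p4, d4, z4, -⟩ := h k4 (by simp)
  have H1 := E.syl.le p1
  have H2 := E.syl.le p2
  have H3 := E.syl.le p3
  have H4 := E.syl.le p4
  have ef : f k1 = f k2 := by
    obtain ⟨a1, s1, e1, -⟩ := E.dd_tv H1 d1 z1
    obtain ⟨a2, s2, e2, -⟩ := E.dd_tv H2 d2 z2
    obtain ⟨a3, s3, e3, -⟩ := E.dd_tv H3 d3 z3
    obtain ⟨a4, s4, e4, -⟩ := E.dd_tv H4 d4 z4
    have c : ∀ {k k'}, k ∈ Nm (J j Qm) → k' ∈ Nm (J j Qm) → Commute k k' → Commute (f k) (f k') := fun a b c => by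
      rw [Commute, SemiconjBy, ← E.fm _ a _ b, ← E.fm _ b _ a, c.eq]
    have := four_tv s1 s2 s3 s4 (e1 ▸ e2 ▸ c H1 H2 (c1 _ (by simp))) (e1 ▸ e3 ▸ c H1 H3 (c1 _ (by simp)))
      (e2 ▸ e3 ▸ c H2 H3 (c2 _ (by simp))) (by
        rw [← e1, ← e2, ← e3, ← e4, ← E.fm _ H1 _ H2, ← E.fm _ (mul_mem H1 H2) _ H3,
          ← E.fm _ (mul_mem (mul_mem H1 H2) H3) _ H4, e, E.f_Q (E.dd_zQ.2 E.dd_zQ.1)])
    rw [← e1, ← e2, ← e3, ← e4] at this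
    rcases this with k | k | k
    · exact k
    · refine E.dd_hex ⟨p1, d1, z1⟩ ⟨p2, d2, z2⟩ ⟨p3, d3⟩ d4 (c1 _ (by simp)) (c2 _ (by simp)) ?_ n3 k
      rw [← e, mul_assoc k1 k2, (c2 k3 (by simp)).eq]; group
    · refine E.dd_hex ⟨p1, d1, z1⟩ ⟨p2, d2, z2⟩ ⟨p4, d4⟩ d3 (c1 _ (by simp)) (c2 _ (by simp)) ?_ n4 k
      rw [mul_assoc, ← ((c2 k4 (by simp)).mul_left (c3 k4 (by simp))).eq, ← e]; group
  exact E.P_ker (mul_mem p1 p2) (by rw [E.fm _ H1 _ H2, ← ef, ← E.fm _ H1 _ H1, (E.dd_sq d1).1, E.f_one])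

theorem dd_tri {k1 k2 k3 : G} (h1 : k1 ∈ P) (d1 : DD j k1) (d2 : DD j k2) (d3 : DD j k3) (c : Commute k1 k2)
    (z3 : k3 ∈ J j Zm) : k1 * k2 * k3 ≠ j z := fun e => by
  have m : k1 * k2 ∈ J j Zm := (mul_mem_cancel_right z3).1 (e ▸ E.dd_zQ.1)
  have n1 : k1 * k2 ≠ 1 := fun k => E.dd_ne_z d3 (by rwa [k, one_mul] at e)
  by_cases z1 : k1 ∈ J j Zm
  · have n2 : k1 * k2 ≠ j z := fun k => (E.dd_sq d3).2.1 (by rwa [k, mul_eq_left] at e)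
    obtain ⟨z2, -, d2', -, -, c', -⟩ := E.zd
    rcases E.dd_Q (E.dd_zQ.2 z1) d1 with rfl | rfl <;>
      rcases E.dd_Q (E.dd_zQ.2 ((mul_mem_cancel_left z1).1 m)) d2 with rfl | rfl
    · exact n1 d2'
    · exact n2 (by rw [← mul_assoc, ← c'.eq, mul_assoc, d2', mul_one])
    · exact n2 (by rw [mul_assoc, d2', mul_one])
    · exact n1 (E.dd_sq d1).1
  · obtain ⟨y, hy, ey, -, a⟩ := E.dd_cm (E.syl.le h1) d1 z1 d2 c (E.dd_zQ.2 m)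
    rw [← ey, E.j_mem (Q_le_T hy)] at m
    exact n1 (by rw [← a ((τ_eq_zero hy).2 m), (E.dd_sq d1).1])

theorem tri {k1 k2 k3 : G} (h : ∀ k ∈ [k1, k2, k3], k ∈ P ∧ DD j k ∧ ∀ k' ∈ [k1, k2, k3], Commute k k') :
    k1 * k2 * k3 ≠ j z := by
  obtain ⟨p1, d1, c1⟩ := h k1 (by simp)
  obtain ⟨p2, d2, c2⟩ := h k2 (by simp)
  obtain ⟨p3, d3, -⟩ := h k3 (by simp)
  have c12 := c1 k2 (by simp)
  have c13 := c1 k3 (by simp)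
  have c23 := c2 k3 (by simp)
  by_cases z3 : k3 ∈ J j Zm
  · exact E.dd_tri p1 d1 d2 d3 c12 z3
  by_cases z2 : k2 ∈ J j Zm
  · rw [mul_assoc, c23.eq, ← mul_assoc]
    exact E.dd_tri p1 d1 d3 d2 c13 z2
  by_cases z1 : k1 ∈ J j Zm
  · rw [mul_assoc, (c12.mul_right c13).eq]
    exact E.dd_tri p2 d2 d3 d1 c23 z1
  have H1 := E.syl.le p1
  have H2 := E.syl.le p2
  have H3 := E.syl.le p3
  obtain ⟨a1, s1, e1, -⟩ := E.dd_tv H1 d1 z1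
  obtain ⟨a2, s2, e2, -⟩ := E.dd_tv H2 d2 z2
  obtain ⟨a3, s3, e3, -⟩ := E.dd_tv H3 d3 z3
  refine fun e => three_tv s1 s2 s3 ?_ ?_
  · rw [← e1, ← e2, Commute, SemiconjBy, ← E.fm _ H1 _ H2, ← E.fm _ H2 _ H1, c12.eq]
  · rw [← e1, ← e2, ← e3, ← E.fm _ H1 _ H2, ← E.fm _ (mul_mem H1 H2) _ H3, e, E.f_Q (E.dd_zQ.2 E.dd_zQ.1)]

theorem z_nconj (g : G) : g * j (rp 2) * g⁻¹ ≠ j z ∧ g * j d * g⁻¹ ≠ j z := by
  refine ⟨fun e => ?_, E.dd_ne_z ⟨g, rfl⟩⟩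
  obtain ⟨hm, hp⟩ : (∀ x ∈ [h2, tr e2 * h2, d], x ∈ Bm ∧ DT x) ∧ h2 * (tr e2 * h2) * d = rp 2 := by decide +kernel
  have T : ∀ {x}, x ∈ Bm → x ∈ Tm := fun h => U_le_T (B_le_U h)
  have r2 := (rp_mem 2 (by omega)).1
  have cB : ∀ {x y}, x ∈ Bm → y ∈ Bm → Commute (j x) (j y) := fun a b => (E.j_comm (T a) (T b)).2 (B_comm a b)
  obtain ⟨c, hc, le⟩ := E.sylC.exists_cj_le (isPGroup_cj g (E.pgJ Bm)) (cj_le_iff.2 fun x hx => by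
    obtain ⟨y, hy, -, rfl⟩ := E.mem_J.1 hx
    rw [mem_Cx, ← e]
    exact ((cB hy r2).conj g).eq)
  rw [← cj_mul, cj_le_iff] at le
  have m1 := (hm h2 (by simp)).1
  have m2 := (hm (tr e2 * h2) (by simp)).1
  have m3 := (hm d (by simp)).1
  refine E.tri (k1 := c * g * j h2 * (c * g)⁻¹) (k2 := c * g * j (tr e2 * h2) * (c * g)⁻¹)
    (k3 := c * g * j d * (c * g)⁻¹) ?_ ?_
  · have key : ∀ k ∈ [c * g * j h2 * (c * g)⁻¹, c * g * j (tr e2 * h2) * (c * g)⁻¹, c * g * j d * (c * g)⁻¹],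
        ∃ x, x ∈ Bm ∧ DT x ∧ k = c * g * j x * (c * g)⁻¹ := fun k hk => by
      simp only [List.mem_cons, List.not_mem_nil, or_false] at hk
      rcases hk with rfl | rfl | rfl
      exacts [⟨_, m1, (hm _ (by simp)).2, rfl⟩, ⟨_, m2, (hm _ (by simp)).2, rfl⟩, ⟨_, m3, (hm _ (by simp)).2, rfl⟩]
    intro k hk
    obtain ⟨x, hx, dx, rfl⟩ := key k hk
    refine ⟨le _ ((E.j_mem (T hx)).2 hx), (E.dd_of (T hx) (B_sq hx) dx).conj _, fun k' hk' => ?_⟩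
    obtain ⟨y, hy, -, rfl⟩ := key k' hk'
    exact (cB hx hy).conj _
  · rw [conj_mul, conj_mul, ← E.jm _ (T m1) _ (T m2), ← E.jm _ (T (mul_mem m1 m2)) _ (T m3), hp,
      show c * g * j (rp 2) * (c * g)⁻¹ = c * (g * j (rp 2) * g⁻¹) * c⁻¹ by group, e]
    exact mem_Cx'.1 hc

end Eg

end CfsgLib.Fi64
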