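import Mathlib
import Cfsg.Agent.Lib.Fi64.Dd

/-! `Q` is strongly closed in `P` with respect to `C(z)` (project E64, plans/E64.md). -/

set_option autoImplicit false
set_option maxRecDepth 100000
set_option Elab.async false

namespace CfsgLib.Fi64

open Subgroup Cfsg CfsgLib.W2 CfsgLib.Tech CfsgLib.PComp
open CfsgLib.S86 (E64 SM e1 f1 e2 f2 e3 f3 bf sa tv oc t1)
open CfsgLib.Parr (P0 V0 vc lin mp idM Act Gam Gam0 L0 U0 OK q0 b0 om t0 v0 sg nC Sg Tst)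

variable {G : Type*} [Group G] [Finite G]

/-- `y` is conjugate in `C(z)` to an element of `Q` -/
def ScY (j : M → G) (y : G) : Prop := ∃ g ∈ Cx (j z), ∃ q ∈ J j Qm, y = g * q * g⁻¹

omit [Finite G] in
theorem ScY.conj {j : M → G} {y u : G} (h : ScY j y) (hu : u ∈ Cx (j z)) : ScY j (u * y * u⁻¹) :=
  let ⟨g, hg, q, hq, e⟩ := h; ⟨u * g, mul_mem hu hg, q, hq, by rw [e]; group⟩

omit [Finite G] in
theorem sc_zp {x g ζ : G} (hg : g ∈ Cx x) (h : ζ ∈ zpowers x) : Commute g ζ := by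
  obtain ⟨n, rfl⟩ := h
  exact Commute.zpow_right (mem_Cx.1 hg) n

omit [Finite G] in
theorem sc_zc {x g ζ : G} (hg : g ∈ Cx x) (h : ζ ∈ zpowers x) : g * ζ * g⁻¹ ∈ zpowers x := by
  rwa [(sc_zp hg h).eq, mul_inv_cancel_right]

theorem sc_facts : h2 ∈ Bm ∧ h3 ∈ Bm ∧ h2 ∉ Qm ∧ h2 * h3 ∉ Qm ∧ DT h2 ∧ z ≠ 1 ∧ z ∈ Zm ∧ d ∈ Zm ∧
    yy 0 = 1 ∧ yy 3 = h2 ∧ yy 4 = h2 * h3 := by decide +kernel

namespace Eg

variable {A P : Subgroup G} {π : G → M} {j : M → G} {f : G → P0} {b : G} (E : Eg A π j f b P)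
include E

theorem sc_HC {h : G} (hh : h ∈ Nm (J j Qm)) : h ∈ Cx (j z) := mem_Cx.2 (E.H_z hh)

theorem sc_zQ : zpowers (j z) ≤ J j Qm := zpowers_le.2 (E.mem_Q.2 ⟨z, Z_le_Q sc_facts.2.2.2.2.2.2.1, rfl⟩)

theorem ext {g q : G} (hg : g ∈ Cx (j z)) (hq : q ∈ J j Qm) (h : g * q * g⁻¹ ∈ P) : ∃ u ∈ Cx (j z),
    u * (g * q * g⁻¹) * u⁻¹ ∈ J j Qm ∧
      ∀ r ∈ P, r * (g * q * g⁻¹) * r⁻¹ * (g * q * g⁻¹)⁻¹ ∈ zpowers (j z) → u * r * u⁻¹ ∈ P := by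
  have _ := h
  generalize hy : g * q * g⁻¹ = y
  let C : Subgroup G :=
    { carrier := {c | c ∈ Cx (j z) ∧ c * y * c⁻¹ * y⁻¹ ∈ zpowers (j z)}
      one_mem' := ⟨one_mem _, by simp⟩
      mul_mem' := fun {a b} ha hb => ⟨mul_mem ha.1 hb.1, by
        rw [show a * b * y * (a * b)⁻¹ * y⁻¹ = a * (b * y * b⁻¹ * y⁻¹) * a⁻¹ * (a * y * a⁻¹ * y⁻¹) by group]
        exact mul_mem (sc_zc ha.1 hb.2) ha.2⟩
      inv_mem' := fun {a} ha => ⟨inv_mem ha.1, by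
        rw [show a⁻¹ * y * a⁻¹⁻¹ * y⁻¹ = a⁻¹ * (a * y * a⁻¹ * y⁻¹)⁻¹ * a⁻¹⁻¹ by group]
        exact sc_zc (inv_mem ha.1) (inv_mem ha.2)⟩ }
  have hQ : cj g (J j Qm) ≤ C := cj_le_iff.2 fun k hk => ⟨mul_mem (mul_mem hg (E.sc_HC (le_normalizer hk))) (inv_mem hg), by
    rw [← hy, show g * k * g⁻¹ * (g * q * g⁻¹) * (g * k * g⁻¹)⁻¹ * (g * q * g⁻¹)⁻¹ = g * (k * q * k⁻¹ * q⁻¹) * g⁻¹ by group]
    exact sc_zc hg (E.Q_commG hk hq)⟩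
  obtain ⟨R, hR, hle⟩ := exists_isSylowIn_ge (p := 2) (Q := P ⊓ C) (H := C) E.syl.pgroup.to_inf_left inf_le_right
  obtain ⟨c, hc, h1⟩ := hR.exists_cj_le (isPGroup_cj g (E.pgJ Qm)) hQ
  obtain ⟨u, hu, h2⟩ := E.sylC.exists_cj_le hR.pgroup (fun x hx => (hR.le hx).1)
  have h3 := E.wcl (mul_mem (mul_mem hu hc.1) hg) (by rw [cj_mul, cj_mul, ← cj_mul u, cj_mul]; exact (cj_mono u h1).trans h2)
  refine ⟨u, hu, ?_, fun r hr e => cj_le_iff.1 h2 r (hle ⟨hr, E.sc_HC (E.syl.le hr), e⟩)⟩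
  have h4 : u * c * g * q * (u * c * g)⁻¹ ∈ J j Qm := h3 ▸ conj_mem_cj.2 hq
  rw [show u * y * u⁻¹ = u * (c * y * c⁻¹ * y⁻¹)⁻¹ * u⁻¹ * (u * c * g * q * (u * c * g)⁻¹) by rw [← hy]; group]
  exact mul_mem (E.sc_zQ (sc_zc hu (inv_mem hc.2))) h4

theorem sc_u {y : G} (h : ScY j y) (hy : y ∈ P) : ∃ u ∈ Cx (j z), u * y * u⁻¹ ∈ J j Qm ∧
    (∀ r ∈ P, r * y * r⁻¹ * y⁻¹ ∈ zpowers (j z) → u * r * u⁻¹ ∈ P) ∧ Commute y (j d) ∧ u ∈ Nm (J j Zm) := by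
  obtain ⟨g, hg, q, hq, rfl⟩ := h
  obtain ⟨u, hu, h1, h2⟩ := E.ext hg hq hy
  generalize g * q * g⁻¹ = y at hy h1 h2
  have dT : d ∈ Tm := Q_le_T (Z_le_Q sc_facts.2.2.2.2.2.2.2.1)
  have dP : j d ∈ P := E.TP ((E.j_mem dT).2 dT)
  have h3 : u * j d * u⁻¹ ∈ P := h2 _ dP (by
    rw [show j d * y * (j d)⁻¹ * y⁻¹ = j d * (y * j d * y⁻¹)⁻¹ by group]
    rcases E.H_d (E.syl.le hy) with e | e <;> rw [e]
    · simp
    · simp)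
  have uz : u * j z * u⁻¹ = j z := mem_Cx'.1 hu
  have h4 : u * j d * u⁻¹ ∈ J j Zm := by
    rcases E.iso (E.syl.le h3) ⟨u, rfl⟩ (by
      have := E.dd_zd.conj u
      rwa [← conj_mul, uz] at this) with e | e <;> rw [e, E.mem_JZ] <;> simp
  refine ⟨u, hu, h1, h2, ?_, mem_normalizer_of_forall fun x hx => ?_⟩
  · obtain ⟨x, hx, e⟩ := E.mem_Q.1 h1
    obtain ⟨ζ, hζ, hT, e'⟩ := E.mem_J.1 h4
    have := (E.j_comm hT (Q_le_T hx)).2 (Z_cent hζ hx)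
    rw [e, e'] at this
    exact (Commute.conj_iff u).1 this.symm
  · have zZ : j z ∈ J j Zm := E.mem_JZ.2 (by simp)
    rcases E.mem_JZ.1 hx with rfl | rfl | rfl | rfl
    · simp
    · rwa [uz]
    · exact h4
    · rw [← conj_mul, uz]; exact mul_mem zZ h4

theorem sc_B {x : M} (hxB : x ∈ Bm) (hQ : x ∉ Qm) (h : ScY j (j x)) : False := by
  have BT : Bm ≤ Tm := B_le_U.trans U_le_T
  have jP : ∀ {m}, m ∈ Bm → j m ∈ P := fun hm => E.TP ((E.j_mem (BT hm)).2 (BT hm))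
  have jc : ∀ {m m'}, m ∈ Bm → m' ∈ Bm → Commute (j m) (j m') := fun hm hm' =>
    (E.j_comm (BT hm) (BT hm')).2 (B_comm hm hm')
  obtain ⟨u, hu, h1, h2, -, h3⟩ := E.sc_u h (jP hxB)
  have uP : ∀ {m}, m ∈ Bm → u * j m * u⁻¹ ∈ P := fun hm => h2 _ (jP hm) (by
    rw [(jc hm hxB).eq]; simp)
  let K : Subgroup M := subOf (fun m => m ∈ Bm ∧ u * j m * u⁻¹ ∈ J j Qm) ⟨one_mem _, by rw [E.j_one]; simp⟩
    fun a b ha hb => ⟨mul_mem ha.1 hb.1, by rw [E.jm _ (BT ha.1) _ (BT hb.1), ← conj_mul]; exact mul_mem ha.2 hb.2⟩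
  have hK : Bm ⊓ Qm ≤ K := BQ_le (fun ζ hζ => ⟨Z_le_B hζ, E.J_mono Z_le_Q
      (conj_mem_of_mem_normalizer h3 ((E.j_mem (BT (Z_le_B hζ))).2 hζ))⟩) fun v hv => by
    obtain ⟨a1, a2, a3⟩ := hx_ok v hv
    have m : ∀ {i}, i < 4 → hx v i ∈ Bm := fun hi => (a2 _ hi).1
    obtain ⟨κ, hκ⟩ : ∃ κ : ℕ → G, ∀ i, κ i = u * j (hx v i) * u⁻¹ := ⟨_, fun _ => rfl⟩
    have c : ∀ {i k}, i < 4 → k < 4 → Commute (κ i) (κ k) := fun hi hk => by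
      rw [hκ, hκ]; exact (Commute.conj_iff u).2 (jc (m hi) (m hk))
    have L : ∀ {a b c e}, a < 4 → b < 4 → c < 4 → e < 4 → ∀ k ∈ [κ a, κ b, κ c, κ e], ∃ i < 4, k = κ i := by
      intro a b c e ha hb hc he k hk
      simp only [List.mem_cons, List.not_mem_nil, or_false] at hk
      rcases hk with rfl | rfl | rfl | rfl
      exacts [⟨_, ha, rfl⟩, ⟨_, hb, rfl⟩, ⟨_, hc, rfl⟩, ⟨_, he, rfl⟩]
    have L' : ∀ {a b c e}, a < 4 → b < 4 → c < 4 → e < 4 → ∀ k ∈ [κ a, κ b, κ c, κ e],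
        k ∈ P ∧ DD j k ∧ k ∉ J j Zm ∧ ∀ k' ∈ [κ a, κ b, κ c, κ e], Commute k k' := by
      intro a b c' e ha hb hc he k hk
      obtain ⟨i, hi, rfl⟩ := L ha hb hc he k hk
      refine ⟨hκ i ▸ uP (m hi), ?_, fun hz => (a2 i hi).2.2 ?_, fun k' hk' => ?_⟩
      · obtain ⟨n, -, e⟩ := E.dt_dd (BT (m hi)) (B_sq (m hi)) (a2 i hi).2.1
        exact hκ i ▸ DD.conj ⟨n, e⟩ u
      · rw [hκ] at hz
        exact (E.j_mem (BT (m hi))).1 ((mem_normalizer_iff.1 h3 _).2 hz)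
      · obtain ⟨k, hk, rfl⟩ := L ha hb hc he k' hk'
        exact c hi hk
    have ne : ∀ {i}, i < 4 → 0 < i → κ 0 ≠ κ i := fun hi h0 e => by
      rw [hκ, hκ, mul_left_inj, mul_right_inj] at e
      exact a3 _ hi 0 h0 (E.j_inj (BT (m hi)) (BT (m (by omega))) e.symm)
    have mm : ∀ {i k}, i < 4 → k < 4 → κ i * κ k = u * j (hx v i * hx v k) * u⁻¹ := fun hi hk => by
      rw [hκ, hκ, conj_mul, E.jm _ (BT (m hi)) _ (BT (m hk))]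
    have m0 := m (i := 0) (by omega)
    have m1 := m (i := 1) (by omega)
    have m2 := m (i := 2) (by omega)
    have m3 := m (i := 3) (by omega)
    have pr : κ 0 * κ 1 * κ 2 * κ 3 = j z := by
      rw [hκ, hκ, hκ, hκ, conj_mul, conj_mul, conj_mul, ← E.jm _ (BT m0) _ (BT m1),
        ← E.jm _ (BT (mul_mem m0 m1)) _ (BT m2), ← E.jm _ (BT (mul_mem (mul_mem m0 m1) m2)) _ (BT m3), a1]
      exact mem_Cx'.1 hu
    refine ⟨⟨mul_mem m0 m1, ?_⟩, mul_mem m0 m2, ?_⟩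
    · rw [← mm (i := 0) (k := 1) (by omega) (by omega)]
      exact E.hex (L' (by omega) (by omega) (by omega) (by omega)) pr (ne (by omega) (by omega)) (ne (by omega) (by omega))
    · rw [← mm (i := 0) (k := 2) (by omega) (by omega)]
      refine E.hex (k3 := κ 1) (k4 := κ 3) (L' (by omega) (by omega) (by omega) (by omega)) ?_
        (ne (by omega) (by omega)) (ne (by omega) (by omega))
      rw [← pr, mul_assoc (κ 0), (c (i := 2) (k := 1) (by omega) (by omega)).eq, ← mul_assoc]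
  have KT : K ≤ Tm := fun m hm => BT hm.1
  have hc := E.ab64G (Y := cj u (J j K)) (cj_le_iff.2 fun g hg => by
    obtain ⟨m, hm, -, rfl⟩ := E.mem_J.1 hg
    exact hm.2) (by
    rintro _ ⟨g, hg, rfl⟩ _ ⟨g', hg', rfl⟩
    obtain ⟨m, hm, -, rfl⟩ := E.mem_J.1 hg
    obtain ⟨m', hm', -, rfl⟩ := E.mem_J.1 hg'
    exact (jc hm.1 hm'.1).map _)
  rw [card_cj, E.card_J KT, ← card_BQ] at hc
  have : x ∈ (Bm ⊓ Qm : Subgroup M) := by rw [eq_of_le_of_card_ge hK hc]; exact ⟨hxB, h1⟩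
  exact hQ this.2

theorem sc_red {y : G} (h : ScY j y) (hy : y ∈ P) : y ∈ J j Qm ∨
    ∃ q ∈ Qm, ScY j (j (h2 * q)) ∧ ∃ k ∈ Cx (j z), k * y * k⁻¹ = j (h2 * q) := by
  have hz : y * y ∈ zpowers (j z) := by
    obtain ⟨g, hg, q, hq, rfl⟩ := h
    rw [conj_mul]
    exact sc_zc hg (E.Q_sqG hq)
  obtain ⟨b1, b2, b3, b4, b5, b6, b7, b8, y0, y3, y4⟩ := sc_facts
  have hH := E.syl.le hy
  obtain ⟨k, hk, i, hi, q, hq, e⟩ := E.inv hH (Two.of_mem E.syl.pgroup hy) (by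
    rw [← E.fm _ hH _ hH]; exact E.f_Q (E.sc_zQ hz))
  have kC := E.sc_HC hk
  have hY := h.conj kC
  have xT : yy i * q ∈ Tm := mul_mem (yy_mem i hi) (Q_le_T hq)
  rw [e] at hY
  obtain ⟨-, -, -, -, hd, -⟩ := E.sc_u hY (E.TP ((E.j_mem xT).2 xT))
  rw [E.j_comm xT (Q_le_T (Z_le_Q b8))] at hd
  obtain rfl | rfl | rfl | rfl | rfl : i = 0 ∨ i = 1 ∨ i = 2 ∨ i = 3 ∨ i = 4 := by omega
  · rw [y0, one_mul] at e
    exact Or.inl ((mem_normalizer_iff.1 hk y).2 (e ▸ E.mem_Q.2 ⟨q, hq, rfl⟩))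
  · exact (outer_d (Or.inl rfl) hq hd).elim
  · exact (outer_d (Or.inr rfl) hq hd).elim
  · rw [y3] at e hY
    exact Or.inr ⟨q, hq, hY, k, kC, e⟩
  · rw [y4] at e hY xT
    have : j (h2 * h3 * q * (h2 * h3 * q)) ∈ J j Zm := by
      rw [E.jm _ xT _ xT, ← e, conj_mul]
      exact (zpowers_le.2 (E.mem_JZ.2 (by simp)) : zpowers (j z) ≤ J j Zm) (sc_zc kC hz)
    have hB := v0_sq hq ((E.j_mem (mul_mem xT xT)).1 this)
    exact (E.sc_B (mul_mem (mul_mem b1 b2) hB) (fun hh => b4 ((mul_mem_cancel_right hq).1 hh)) hY).elim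

theorem sc_inv {q : M} (hq : q ∈ Qm) (h : ScY j (j (h2 * q))) : h2 * q * (h2 * q) ≠ 1 := fun e => by
  obtain ⟨b1, b2, b3, -⟩ := sc_facts
  have BT : Bm ≤ Tm := B_le_U.trans U_le_T
  obtain ⟨m, hm, hB⟩ := h2_inv hq e
  obtain ⟨n, hn, e1, e2⟩ := E.conjM (mul_mem (BT b1) (Q_le_T hq)) (BT hB) rfl
  have nC : n ∈ Cx (j z) := mem_Cx'.2 (by
    have := E.conj_A hn S86.e1
    rwa [e1, show sa m.l S86.e1 = S86.e1 from hm] at this)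
  refine E.sc_B hB (fun hh => b3 ((mul_mem_cancel_right hq).1 ?_)) (e2 ▸ h.conj nC)
  have := Cz_conj (inv_mem hm) hh
  rwa [show m⁻¹ * (m * (h2 * q) * m⁻¹) * m⁻¹⁻¹ = h2 * q by group] at this

theorem sc_one {y : G} (h : ScY j y) (hy : y ∈ P) (y2 : y * y = 1) : y ∈ J j Qm := by
  rcases E.sc_red h hy with h | ⟨q, hq, hY, k, -, e⟩
  · exact h
  · have xT : h2 * q ∈ Tm := mul_mem (U_le_T (B_le_U sc_facts.1)) (Q_le_T hq)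
    refine (E.sc_inv hq hY ((E.j_sq xT).1 ?_)).elim
    rw [← e, conj_mul, y2]; simp

theorem sc : ∀ k ∈ Cx (j z), ∀ e ∈ J j Qm, k * e * k⁻¹ ∈ P → k * e * k⁻¹ ∈ J j Qm := by
  intro k hk e he hy
  rcases E.sc_red ⟨k, hk, e, he, rfl⟩ hy with h | ⟨q, hq, hY, k', hk', e'⟩
  · exact h
  exfalso
  obtain ⟨b1, b2, b3, b4, b5, b6, b7, b8, -⟩ := sc_facts
  have hT : h2 ∈ Tm := U_le_T (B_le_U b1)
  have xT : h2 * q ∈ Tm := mul_mem hT (Q_le_T hq)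
  have hz : j (h2 * q) * j (h2 * q) ∈ zpowers (j z) := by
    rw [← e', conj_mul, conj_mul]
    exact sc_zc hk' (sc_zc hk (E.Q_sqG he))
  have sq : h2 * q * (h2 * q) = z := by
    rcases (ExtraTwo.mem_zpowers_iff_of_mul_self E.zd.1).1 hz with e1 | e1
    · exact (E.sc_inv hq hY ((E.j_sq xT).1 e1)).elim
    · rw [← E.jm _ xT _ xT] at e1
      exact E.j_inj (mul_mem xT xT) (Q_le_T (Z_le_Q b7)) e1
  obtain ⟨c, hc, c', hc', s1, s2, k1, k2, rfl⟩ := h2_four hq sq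
  obtain ⟨u, hu, h1, h3, -, h4⟩ := E.sc_u hY (E.TP ((E.j_mem xT).2 xT))
  have jQ : ∀ {m}, m ∈ Qm → j m ∈ J j Qm := fun hm => E.mem_Q.2 ⟨_, hm, rfl⟩
  have key : ∀ {m}, m ∈ Qm → m * m = 1 → Commute m h2 → u * j m * u⁻¹ ∈ J j Qm := fun {m} hm m2 hh => by
    refine E.sc_one ⟨u, hu, _, jQ hm, rfl⟩ (h3 _ (E.Q_le_P (jQ hm)) ?_) (by
      rw [conj_mul, (E.j_sq (Q_le_T hm)).2 m2]; simp)
    have cm := ((E.j_comm (Q_le_T hm) hT).2 hh).eq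
    rw [E.jm _ hT _ (Q_le_T hq), ← mul_assoc, cm, show j h2 * j m * j (c * c') * (j m)⁻¹ * (j h2 * j (c * c'))⁻¹ =
      j h2 * (j m * j (c * c') * (j m)⁻¹ * (j (c * c'))⁻¹) * (j h2)⁻¹ by group]
    exact sc_zc (E.sc_HC (E.jH hT)) (E.Q_commG (jQ hm) (jQ hq))
  have h5 : u * j h2 * u⁻¹ ∈ J j Qm := by
    rw [E.jm _ hT _ (Q_le_T hq), E.jm _ (Q_le_T hc) _ (Q_le_T hc'), ← conj_mul, ← conj_mul] at h1
    exact (mul_mem_cancel_right (mul_mem (key hc s1 k1) (key hc' s2 k2))).1 h1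
  obtain ⟨n, -, e1⟩ := E.dt_dd hT (B_sq b1) b5
  have h6 : u * j h2 * u⁻¹ ∈ J j Zm := by
    rcases E.dd_Q h5 (DD.conj ⟨n, e1⟩ u) with e | e <;> rw [e, E.mem_JZ] <;> simp
  exact b3 (Z_le_Q ((E.j_mem hT).1 ((mem_normalizer_iff.1 h4 _).2 h6)))

end Eg

end CfsgLib.Fi64
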