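import Mathlib
import Cfsg.Agent.Lib.Fi64.Sc
import Cfsg.Agent.Lib.Fi64.Gold

/-! The centralizer of `z` (project E64, plans/E64.md). -/

set_option autoImplicit false
set_option maxRecDepth 100000
set_option Elab.async false

namespace CfsgLib.Fi64

open Subgroup Cfsg CfsgLib.W2 CfsgLib.Tech CfsgLib.PComp
open CfsgLib.S86 (E64 SM e1 f1 e2 f2 e3 f3 bf sa tv oc t1)
open CfsgLib.Parr (P0 V0 vc lin mp idM Act Gam Gam0 L0 U0 OK q0 b0 om t0 v0 sg nC Sg Tst)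

variable {G : Type*} [Group G] [Finite G]

namespace Eg

variable {A P : Subgroup G} {π : G → M} {j : M → G} {f : G → P0} {b : G} (E : Eg A π j f b P)
include E

theorem cz_HK : Nm (J j Qm) ≤ Cx (j z) := fun _ h => mem_Cx.2 (E.toSit.H_z h)

theorem cz_dec : ∀ k ∈ Cx (j z), ∃ o ∈ opOf 2 (Cx (j z)), ∃ h ∈ Nm (J j Qm), k = o * h := by
  have S := E.toSit
  have R := E.toRep
  have zZ : z ∈ Zm := by decide +kernel
  have hT : h2 ∈ Tm := tg_mem 4 (by omega)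
  have iH := S.jH hT
  intro k hk
  obtain ⟨o, ho, n, hn, e⟩ := gold (i := j h2) E.sylC S.zd.1 ((S.j_mem (Q_le_T (Z_le_Q zZ))).2 (Z_le_Q zZ))
    (fun k hk => mem_Cx.1 hk) E.Q_le_P (fun e he => S.Q_sqG he) E.sc
    (fun s hs h => E.P_ker hs ((R.f_eq_one (E.syl.le hs)).2 fun g hg =>
      zpowers_le.2 (S.mem_JZ.2 (.inr (.inl rfl))) (h g hg)))
    (E.TP ((S.j_mem hT).2 hT)) (fun h => absurd ((S.j_mem hT).1 h) (by decide +kernel))
    (by rw [(S.j_sq hT).2 (by decide +kernel)]; exact one_mem _) (fun L hL hn => by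
      by_cases h1 : ∀ m ∈ L, f m = 1
      · exact .inl fun m hm => (R.ker_comm (hL hm).2 (h1 m hm)).2
      push Not at h1
      obtain ⟨m, hm, h1⟩ := h1
      have := normal_Gam0 (K := (L.subgroupOf (Nm (J j Qm))).map R.fh)
        (by rintro _ ⟨x, -, rfl⟩; exact E.gam x x.2) (by
          rintro g hg _ ⟨x, hx, rfl⟩
          obtain ⟨h, hh, rfl⟩ := E.surj hg
          exact ⟨⟨h, hh⟩ * x * ⟨h, hh⟩⁻¹, hn h ⟨E.cz_HK hh, hh⟩ x hx, R.f_conj hh x.2⟩)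
        ⟨⟨m, (hL hm).2⟩, hm, rfl⟩ h1 Parr.t0_mem
      obtain ⟨x, hx, e⟩ := this
      refine .inr ⟨x, hx, (R.ker_comm (mul_mem (inv_mem x.2) iH) ?_).2⟩
      rw [R.fm _ (inv_mem x.2) _ iH, R.f_inv x.2, E.f_h2, ← e]
      exact inv_mul_cancel _) k hk
  exact ⟨o, ho, n, hn.2, e⟩

theorem oq_le : opOf 2 (Ce (J j Qm)) ≤ opOf 2 (Cx (j z)) := by
  have S := E.toSit
  have h1 : opOf 2 (Ce (J j Qm)) ≤ Cx (j z) := (opOf_le _).trans (S.C_le_H.trans E.cz_HK)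
  refine le_sup_left.trans (le_opOf (sup_le h1 (opOf_le _)) (fun k hk => ?_)
    (Nat.Coprime.coprime_dvd_left (Core.card_sup_dvd_of_le_normalizer (h1.trans (le_normalizer_opOf _)))
      (Nat.Coprime.mul_left (coprime_card_opOf _) (coprime_card_opOf _))))
  obtain ⟨o, ho, h, hh, rfl⟩ := E.cz_dec k hk
  exact mul_mem (le_normalizer (mem_sup_right ho)) (Core.normalizer_inf_le_normalizer_sup _ _
    ⟨normalizer_le_normalizer_opOf _ (Core.normalizer_le_normalizer_centralizer _ hh),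
      le_normalizer_opOf _ (E.cz_HK hh)⟩)

theorem cz_triv {n : G} (hn : n ∈ Nm A) (hh : n ∈ Nm (J j Qm)) (h : π n ∈ Qm) : f n = 1 := by
  refine Equiv.ext fun v => ?_
  obtain ⟨x, hx, rfl⟩ := τ_surj v
  have e := τ_mul h (inv_mem h)
  rw [mul_inv_cancel, (τ_eq_zero (one_mem _)).2 (one_mem _)] at e
  rw [E.toRep.f_N hn hh hx, τ_mul (mul_mem h hx) (inv_mem h), τ_mul h hx, add_right_comm, ← e, zero_add]
  rfl

theorem cz_sq {h : G} (hh : h ∈ Nm (J j Qm)) (hc : ∀ v, bf v e1 = false → Commute h (j (tr v))) :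
    f (h * h) = 1 := by
  have S := E.toSit
  have R := E.toRep
  have h1 : ∀ v, bf v e1 = false → f h (τ (tr v)) = τ (tr v) := fun v hv =>
    (R.f_fix hh (tr_mem_Q.2 hv)).2 (by
      rw [(hc v hv).eq, mul_inv_cancel_right, mul_inv_cancel]; exact one_mem _)
  obtain ⟨n, hn, nH, c, hc', rfl⟩ := R.stab hh fun w hw => by
    obtain ⟨v, hv, rfl⟩ := inR_zero.1 hw
    rwa [h1 v hv]
  have e : f (n * c) = f n := by rw [R.fm _ nH _ (S.C_le_H hc'), R.f_C hc', mul_one]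
  rw [R.fm _ hh _ hh, e]
  rw [e] at h1
  rcases triv_A0 (S.piH hn nH).1 (fun v hv => by
    rw [← conj_tr, ← R.f_N hn nH (tr_mem_Q.2 hv), h1 v hv]) with k | k
  · rw [E.cz_triv hn nH k, mul_one]
  · have aT : a0 ∈ Tm := tr_mem _
    have aH := S.jH aT
    have k1 := E.cz_triv (mul_mem (S.jN _ aT) hn) (mul_mem aH nH) (by
      rwa [S.πm _ (S.jN _ aT) _ hn, S.πj _ aT])
    rw [R.fm _ aH _ nH, mul_eq_one_iff_inv_eq] at k1
    rw [← k1, ← mul_inv_rev, ← R.fm _ aH _ aH, (S.j_sq aT).2 (by decide +kernel), R.f_one, inv_one]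

theorem bal {Y : Subgroup G} (ho : Odd (Nat.card Y)) (h : Y ≤ Cx (j z)) (hA : A ≤ Nm Y) : Y ≤ opOf 2 (Cx (j z)) := by
  have S := E.toSit
  have R := E.toRep
  have := Fact.mk Nat.prime_two
  have nO : ∀ k ∈ Cx (j z), ∀ x ∈ opOf 2 (Cx (j z)), k * x * k⁻¹ ∈ opOf 2 (Cx (j z)) := fun k hk x hx =>
    conj_mem_of_mem_normalizer (le_normalizer_opOf _ hk) hx
  have QK : J j Qm ≤ Cx (j z) := le_normalizer.trans E.cz_HK
  have od : ∀ y ∈ Y, Odd (orderOf y) := fun y hy => ho.of_dvd_nat (orderOf_dvd_natCard Y hy)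
  intro y hy
  obtain ⟨o, ho', k, hk, e⟩ := E.cz_dec y (h hy)
  have h1 := E.cz_sq hk fun v hv => by
    have aQ : j (tr v) ∈ J j Qm := (S.j_mem (tr_mem v)).2 (tr_mem_Q.2 hv)
    have aA : j (tr v) ∈ A := S.mem_A.2 ⟨v, rfl⟩
    generalize j (tr v) = a at aQ aA
    have q1 : k * a * k⁻¹ * a⁻¹ ∈ J j Qm := mul_mem (conj_mem_of_mem_normalizer hk aQ) (inv_mem aQ)
    have y1 : y * (a * y⁻¹ * a⁻¹) ∈ Y := mul_mem hy (conj_mem_of_mem_normalizer (hA aA) (inv_mem hy))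
    have q2 := mem_of_two_odd nO (QK q1) (h y1) (Two.of_mem (S.pgJ _) q1) (od _ y1) (by
      rw [e, show k * a * k⁻¹ * a⁻¹ * (o * k * (a * (o * k)⁻¹ * a⁻¹))⁻¹ =
        k * a * k⁻¹ * o * (k * a * k⁻¹)⁻¹ * o⁻¹ by group]
      exact mul_mem (nO _ (QK (conj_mem_of_mem_normalizer hk aQ)) _ ho') (inv_mem ho'))
    have q3 : k * a * k⁻¹ * a⁻¹ = 1 :=
      mem_bot.1 (isPGroup_inf_opOf (S.pgJ Qm) (Cx (j z)) ▸ mem_inf.2 ⟨q1, q2⟩)
    rwa [mul_inv_eq_one, mul_inv_eq_iff_eq_mul] at q3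
  obtain ⟨q, hq, c, hc, e1⟩ := R.ker (mul_mem hk hk) h1
  obtain ⟨ζ, hζ, o', h2, rfl⟩ := S.cq_dec hc
  have sQ : j q * j ζ ∈ J j Qm :=
    mul_mem ((S.j_mem (Q_le_T hq)).2 hq) ((S.j_mem (Q_le_T (Z_le_Q hζ))).2 (Z_le_Q hζ))
  rw [← mul_assoc] at e1
  generalize j q * j ζ = s at sQ e1
  have h3 := E.oq_le h2
  have e2 : y * y = o * (k * o * k⁻¹) * s * o' := by
    rw [mul_assoc _ s, ← e1, e]; group
  have h4 : o * (k * o * k⁻¹) ∈ opOf 2 (Cx (j z)) := mul_mem ho' (nO _ (E.cz_HK hk) _ ho')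
  generalize o * (k * o * k⁻¹) = o'' at e2 h4
  have h5 := mem_of_two_odd nO (QK sQ) (h (mul_mem hy hy)) (Two.of_mem (S.pgJ _) sQ) (od _ (mul_mem hy hy)) (by
    rw [e2, show s * (o'' * s * o')⁻¹ = s * o'⁻¹ * s⁻¹ * o''⁻¹ by group]
    exact mul_mem (nO _ (QK sQ) _ (inv_mem h3)) (inv_mem h4))
  refine mem_of_coprime_pow (Nat.coprime_two_left.2 (od y hy)) ?_ (by rw [pow_orderOf_eq_one]; exact one_mem _)
  rw [pow_two, e2]
  exact mul_mem (mul_mem h4 h5) h3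

end Eg

end CfsgLib.Fi64
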