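import Mathlib
import Cfsg.Agent.Lib.Fi64.Cz
import Cfsg.Agent.S3232

/-! Application of Parrott's theorem (project E64, plans/E64.md). -/

set_option autoImplicit false
set_option maxRecDepth 100000
set_option Elab.async false

namespace CfsgLib.Fi64

open Subgroup Cfsg CfsgLib.W2 CfsgLib.Tech CfsgLib.PComp
open CfsgLib.S86 (E64 SM e1 f1 e2 f2 e3 f3 bf sa tv oc t1)
open CfsgLib.Parr (P0 V0 vc lin mp idM Act Gam Gam0 L0 U0 OK q0 b0 om t0 v0 sg nC Sg Tst)

variable {G : Type*} [Group G] [Finite G]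

theorem fin_split {Q : Subgroup G} {z d : G} (hz : z ∈ Q) (hd : d ∉ zpowers z)
    (sq : ∀ g ∈ Q, g * g ∈ zpowers z) (cm : ∀ g ∈ Q, ∀ k ∈ Q, g * k * g⁻¹ * k⁻¹ ∈ zpowers z) :
    ∃ E ≤ Q, z ∈ E ∧ d ∉ E ∧ ∀ q ∈ Q, q ∈ E ∨ d * q ∈ E := by
  obtain ⟨E, -, ⟨h1, h2, h3⟩, mx⟩ := Finite.exists_le_maximal
    (p := fun E : Subgroup G => E ≤ Q ∧ z ∈ E ∧ d ∉ E) (a := zpowers z) ⟨zpowers_le.2 hz, mem_zpowers z, hd⟩
  have zE : zpowers z ≤ E := zpowers_le.2 h2
  refine ⟨E, h1, h2, h3, fun q hq => ?_⟩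
  have cj : ∀ g ∈ Q, ∀ a ∈ E, g * a * g⁻¹ ∈ E := fun g hg a ha => by
    simpa using mul_mem (zE (cm g hg a (h1 ha))) ha
  have qq : q * q ∈ E := zE (sq q hq)
  let E2 : Subgroup G :=
    { carrier := {x | x ∈ E ∨ x * q ∈ E}
      one_mem' := Or.inl (one_mem _)
      mul_mem' := by
        rintro a c (ha | ha) (hc | hc)
        · exact Or.inl (mul_mem ha hc)
        · exact Or.inr (by rw [mul_assoc]; exact mul_mem ha hc)
        · refine Or.inr ?_
          have := mul_mem ha (cj _ (inv_mem hq) _ hc)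
          convert this using 1
          group
        · refine Or.inl ?_
          have := mul_mem (mul_mem ha (cj _ (inv_mem hq) _ hc)) (inv_mem qq)
          convert this using 1
          group
      inv_mem' := by
        rintro a (ha | ha)
        · exact Or.inl (inv_mem ha)
        · refine Or.inr ?_
          convert mul_mem (cj _ hq _ (inv_mem ha)) qq using 1
          group }
  by_contra! hc
  have le : E ≤ E2 := fun x hx => Or.inl hx
  have := mx (y := E2) ⟨fun x hx => hx.elim (fun h => h1 h) fun h => (mul_mem_cancel_right hq).1 (h1 h),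
    le h2, fun h => h.elim h3 hc.2⟩ le
  exact hc.1 (this (Or.inr qq))

theorem fin_core {H : Type*} [Group H] [Finite H] (m : H →* P0) (h1 : m.range = Gam0) (h2 : IsPGroup 2 m.ker) :
    Cfsg.pCore 2 H = m.ker := by
  have hn : (Cfsg.pCore 2 H).Normal := by have := Core.pCore_characteristic 2 H; infer_instance
  refine le_antisymm (fun x hx => ?_) (Core.le_pCore h2)
  by_contra h3
  have h := normal_Gam0 (K := (Cfsg.pCore 2 H).map m) (h1 ▸ map_le_range _ _) (fun g hg => by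
    obtain ⟨g, rfl⟩ := h1.ge hg
    rintro _ ⟨x, hx, rfl⟩
    exact ⟨_, hn.conj_mem x hx g, by simp⟩) (mem_map_of_mem m hx) h3
  obtain ⟨n, hn⟩ := (((Core.isPGroup_pCore 2 H).map m).to_le h).exists_card_eq
  have : 3 ∣ 2 ^ n := by rw [← hn, Parr.card_L0]; norm_num
  exact absurd (Nat.prime_three.dvd_of_dvd_pow this) (by norm_num)

namespace Eg

variable {A P : Subgroup G} {π : G → M} {j : M → G} {f : G → P0} {b : G} (E : Eg A π j f b P)
include E

theorem fin (h : opOf 2 (Cx (j z)) = ⊥) : Spor.IsoFi22 G := by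
  have S := E.toRep.toSit
  obtain ⟨z2, z1, d2, d1, dz, czd, ezd⟩ := S.zd
  have hH : Cx (j z) ≤ Nm (J j Qm) := fun k hk => by
    obtain ⟨o, ho, x, hx, rfl⟩ := E.cz_dec k hk
    rw [h, mem_bot] at ho
    rwa [ho, one_mul]
  have hH' : Nm (J j Qm) ≤ Cx (j z) := fun k hk => mem_Cx.2 (S.H_z hk)
  have hC : Ce (J j Qm) ≤ J j Zm := fun c hc => by
    obtain ⟨ζ, hζ, o, ho, rfl⟩ := S.cq_dec hc
    have := E.oq_le ho
    rw [h, mem_bot] at this
    rw [this, mul_one]
    exact (S.j_mem (Q_le_T (Z_le_Q hζ))).2 hζ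
  have QH : J j Qm ≤ Cx (j z) := le_normalizer.trans hH'
  have ZQ : J j Zm ≤ J j Qm := S.J_mono Z_le_Q
  have zQ : j z ∈ J j Qm := ZQ (S.mem_JZ.2 (Or.inr (Or.inl rfl)))
  have dQ : j d ∈ J j Qm := ZQ (S.mem_JZ.2 (Or.inr (Or.inr (Or.inl rfl))))
  have dZ : d ∈ Zm := mem_Z.2 (Or.inr (Or.inr (Or.inl rfl)))
  have dc : ∀ q ∈ J j Qm, Commute (j d) q := fun q hq => by
    obtain ⟨x, hx, rfl⟩ := S.mem_Q.1 hq
    exact (S.j_comm (Q_le_T (Z_le_Q dZ)) (Q_le_T hx)).2 (Z_cent dZ hx)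
  have mz : ∀ {x : G}, x ∈ zpowers (j z) ↔ x = 1 ∨ x = j z := ExtraTwo.mem_zpowers_iff_of_mul_self z2
  obtain ⟨X, XQ, zX, dX, hX⟩ := fin_split zQ (d := j d) (fun e => (mz.1 e).elim d1 dz) (fun _ => S.Q_sqG)
    fun _ hg _ hk => S.Q_commG hg hk
  have adj : ∀ q ∈ J j Qm, ∃ q' ∈ X, ∀ y ∈ J j Qm, Commute q' y ↔ Commute q y := fun q hq => by
    rcases hX q hq with e | e
    · exact ⟨q, e, fun _ _ => Iff.rfl⟩
    · refine ⟨_, e, fun y hy => ⟨fun c => ?_, fun c => (dc y hy).mul_left c⟩⟩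
      simpa using (dc y hy).inv_left.mul_left c
  have es : ExtraTwo.ES X (j z) := by
    refine ⟨z1, z2, zX, fun x hx => mem_Cx.1 (QH (XQ hx)), fun x hx hc => ?_, fun x hx y hy => ?_, ?_⟩
    · have m : x ∈ Ce (J j Qm) := fun q hq => by
        obtain ⟨q', h1, h2⟩ := adj q hq
        exact (h2 x (XQ hx)).1 (hc q' h1)
      rcases S.mem_JZ.1 (hC m) with e | e | e | e
      · exact Or.inl e
      · exact Or.inr e
      · exact absurd (e ▸ hx) dX
      · exact absurd ((mul_mem_cancel_left zX).1 (e ▸ hx)) dX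
    · rcases mz.1 (S.Q_commG (XQ hx) (XQ hy)) with e | e
      · left
        rwa [mul_inv_eq_one, mul_inv_eq_iff_eq_mul] at e
      · right
        rw [← e]
        group
    · have m3 := qg_mem 3 (by norm_num)
      have m6 := qg_mem 6 (by norm_num)
      obtain ⟨x, h1, h2⟩ := adj _ (S.mem_Q.2 ⟨_, m3, rfl⟩)
      obtain ⟨y, h3, h4⟩ := adj _ (S.mem_Q.2 ⟨_, m6, rfl⟩)
      refine ⟨x, h1, y, h3, fun c => ?_⟩
      have c1 := (h4 _ (S.mem_Q.2 ⟨_, m3, rfl⟩)).1 ((h2 y (XQ h3)).1 c).symm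
      exact absurd ((S.j_comm (Q_le_T m6) (Q_le_T m3)).1 c1) (by decide +kernel)
  have cX : Nat.card X = 2 ^ 9 := by
    have e1 := card_mul_relIndex' XQ
    have e2 : X.relIndex (J j Qm) = 2 := relIndex_eq_two_iff.2 ⟨_, dQ, fun y hy => by
      rw [← (dc y hy).eq]
      rcases hX y hy with e | e
      · exact Or.inr ⟨e, fun e' => dX ((mul_mem_cancel_right e).1 e')⟩
      · exact Or.inl ⟨e, fun e' => dX ((mul_mem_cancel_right e').1 e)⟩⟩
    rw [e2, S.card_J Q_le_T, card_Q] at e1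
    omega
  let m : Cx (j z) →* P0 := E.toRep.fh.comp (inclusion hH)
  have hm : ∀ x, m x = f x := fun _ => rfl
  have hr : m.range = Gam0 := by
    refine le_antisymm ?_ fun γ hγ => ?_
    · rintro _ ⟨x, rfl⟩
      exact E.gam _ (hH x.2)
    · obtain ⟨x, hx, e⟩ := E.surj hγ
      exact ⟨⟨x, hH' hx⟩, e⟩
  have hk : m.ker = (J j Qm).subgroupOf (Cx (j z)) := by
    ext x
    rw [MonoidHom.mem_ker, hm, mem_subgroupOf]
    refine ⟨fun e => ?_, E.toRep.f_Q⟩
    obtain ⟨q, hq, c, hc, e⟩ := E.toRep.ker (hH x.2) e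
    rw [e]
    exact mul_mem (S.mem_Q.2 ⟨q, hq, rfl⟩) (ZQ (hC hc))
  have e0 : Cfsg.pCore 2 (Cx (j z)) = m.ker := fin_core m hr (hk ▸ (S.pgJ Qm).comap_subtype)
  have e1 := e0.trans hk
  have hn : (Cfsg.pCore 2 (Cx (j z))).Normal := e0 ▸ inferInstance
  obtain ⟨i⟩ := Parr.exists_Gam0_aut (F := ZMod 3) (ZMod.card 3)
  let zc : Cx (j z) := ⟨j z, QH zQ⟩
  let p : Cx (j z) := ⟨j d, QH dQ⟩
  have p2 : p * p = 1 := Subtype.ext d2
  have mp : ∀ {x}, x ∈ zpowers p ↔ x = 1 ∨ x = p := ExtraTwo.mem_zpowers_iff_of_mul_self p2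
  have es' : ExtraTwo.ES (X.subgroupOf (Cx (j z))) zc := es.subgroupOf (XQ.trans QH)
  have l1 : zpowers p ≤ (J j Qm).subgroupOf (Cx (j z)) := zpowers_le.2 dQ
  have l2 : X.subgroupOf (Cx (j z)) ≤ (J j Qm).subgroupOf (Cx (j z)) := fun _ hx => XQ hx
  have hcen : ∀ x : Cx (j z), (∀ y ∈ Cfsg.pCore 2 (Cx (j z)), y * x = x * y) → x.1 ∈ J j Zm := fun x hx =>
    hC fun q hq => congrArg Subtype.val (hx ⟨q, QH hq⟩ (e1.ge hq))
  rcases Cfsg.Agent.S3232.result (j z) (ExtraTwo.orderOf_eq_two z1 z2) (ZMod.card 3) Classical.card_GF4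
    (zpowers p) (X.subgroupOf (Cx (j z)))
    ⟨e1 ▸ l1, e1 ▸ l2, fun a ha x hx => by
        rcases mp.1 ha with rfl | rfl
        · exact Commute.one_left _
        · exact Subtype.ext (dc _ (XQ hx)),
      eq_bot_iff.2 fun a ha => (mp.1 ha.1).resolve_right fun e => dX (e ▸ ha.2 : p ∈ X.subgroupOf _), by
        rw [e1]
        refine le_antisymm (sup_le l1 l2) fun x hx => ?_
        rcases hX _ hx with e | e
        · exact mem_sup_right e
        · exact (mul_mem_cancel_left (mem_sup_left (mem_zpowers p))).1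
            (mem_sup_right (show p * x ∈ X.subgroupOf _ from e))⟩
    (by rw [Nat.card_zpowers, ExtraTwo.orderOf_eq_two (z := p) (fun e => d1 (congrArg Subtype.val e)) p2])
    es'.isExtraspecial (by rw [Nat.card_congr (subgroupOfEquivOfLe (XQ.trans QH)).toEquiv, cX]) zc rfl
    (by
      rw [e1]
      refine le_antisymm (commutator_le.2 fun x hx y hy => es'.mem_zpowers.2 ?_) (zpowers_le.2 ?_)
      · exact (mz.1 (S.Q_commG hx hy)).imp Subtype.ext Subtype.ext
      · obtain ⟨x, hx, y, hy, e⟩ := es'.exists_commutator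
        exact e ▸ commutator_mem_commutator (l2 hx) (l2 hy))
    (fun x hx => e1.ge (ZQ (hcen x hx)))
    ((QuotientGroup.quotientMulEquivOfEq e0).trans ((QuotientGroup.quotientKerEquivRange m).trans
      ((MulEquiv.subgroupCongr hr).trans i.symm))) with h | ⟨z₁, o1, o2, ⟨h₁, -, o4⟩, o3, -⟩ | h
  · exfalso
    rw [S.hO, sup_bot_eq] at h
    obtain ⟨n, hn, e⟩ := S.πs (sy (tv f1))
    have e2 := S.conj_A hn S86.e1
    have e3 : n * j z = j z * n := mem_Cx.1 (h.ge (mem_top n))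
    rw [e, show tr S86.e1 = z from rfl, e3, mul_inv_cancel_right] at e2
    exact absurd (S.j_inj (tr_mem _) (tr_mem _) e2) (by decide +kernel)
  · exfalso
    have c : Commute (j a0) z₁ := by
      rcases (ExtraTwo.mem_zpowers_iff_of_mul_self (ExtraTwo.mul_self_of_orderOf o1)).1
        (o3.conj_mem _ (mem_zpowers z₁) (j a0)) with e | e
      · exact absurd (conj_eq_one_iff.1 e) (ExtraTwo.ne_one_of_orderOf o1)
      · exact mul_inv_eq_iff_eq_mul.1 e
    have a0T : a0 ∈ Tm := tr_mem _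
    rcases S.mem_JZ.1 (hcen _ o4) with e | e | e | e
    · exact o2 (mz.2 (Or.inl e))
    · exact o2 (mz.2 (Or.inr e))
    · rw [show z₁ = j d from e] at c
      exact absurd ((S.j_comm a0T (Q_le_T (Z_le_Q dZ))).1 c) (by decide +kernel)
    · rw [show z₁ = j z * j d from e, ← ezd] at c
      exact absurd ((S.j_comm a0T (Q_le_T (Z_le_Q (mem_Z.2 (Or.inr (Or.inr (Or.inr rfl))))))).1 c)
        (by decide +kernel)
  · exact h

end Eg

end CfsgLib.Fi64
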