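import Mathlib
import Cfsg.Agent.Lib.Fi64.MX

/-! The totally singular subspaces of dimension four (project E64, plans/E64.md). -/

set_option autoImplicit false
set_option maxRecDepth 100000
set_option Elab.async false

namespace CfsgLib.Fi64

open Subgroup Cfsg CfsgLib.W2 CfsgLib.Tech CfsgLib.PComp
open CfsgLib.S86 (E64 SM e1 f1 e2 f2 e3 f3 bf sa tv oc t1)
open CfsgLib.Parr (P0 V0 vc lin mp idM Act Gam Gam0 L0 U0 OK q0 b0 om t0 v0 sg nC Sg Tst)

/-- the singular vectors orthogonal to `vc 5` -/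
def msS : ℕ := 0xcc21cc21cc210012cc21cc21cc210012cc21cc21cc210012001200120012cc21

/-- for each vector the set of the thirty subspaces through `vc 5` which contain it -/
def msK : ℕ := 0x3f00000000fc0000000000000000000000fc00003f0000000000000000000000000000000000000030c300000000000000000000000000000000000030c300000030f0000c000f0000000000000000000c000f000030f000000000000000000000000000000000000000ccc0000000000000000000000000000000000000ccc0000c03300300300c00000000000000000300300c000c0330000000000000000000000000000000000000003f000000000000000000000000000000000000003f0000000000000000000000000000000000000000000000000000000000000000000000000000000000000000000300c30000000000000000000300c300000000002880a20a00084900000000000000000a000849002880a2000000000000000000000000000000000000aa28000000000000000000000000000000000000aa282802011100a11006000000000000000000a11006280201110000000000000000000000000000000021840014000000000000000000000000000000002184001412015040004a05800000000000000000004a05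8012015040000000000000000000000000000000001450440000000000000000000000000000000000145044000000000000000000000000000000000000000000000000000000000000000000000000000000000000000000051422000000000000000000051422000000000000144051050004860000000000000000050004860014405100000000000000000000000000000000000055140000000000000000000000000000000000005514140102220052200900000000000000000052200914010222000000000000000000000000000000001248002800000000000000000000000000000000124800282102a08000850a40000000000000000000850a402102a0800000000000000000000000000000000028a088000000000000000000000000000000000028a0880000000000000000000000000000000000000000000000000000000000000000000000000000000000000000000a28110000000000000000000a28110000000000000000000000000000000000000000000000000000000000000000000000000000000000000000000000000000033300000000000000000000033300000000000000000000000000000000000000000000000000000000000000000000000000000000000000000000000000030c00c00000000000000000030c00c00000000000000000000000000000000000000000000000000000000000000000000000000000000000000000000000000c30000300000000000000000c300003000000003000c03000c00c0c000000000000000000c00c0c3000c030000000000000000000000000000000003fffffff000000000000000000000000000000003fffffff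

def msk (n : ℕ) : ℕ := Nat.land (Nat.shiftRight msK (Nat.mul 32 n)) 1073741823

def msJ (i : ℕ) : ℕ := [1, 2, 1, 2, 2, 3, 2, 0, 1, 2, 2, 0, 2, 0, 3, 2, 1, 2, 1, 2, 2, 0, 1, 2, 2, 1, 1, 2, 2, 3].getD i 0

def msW (i : ℕ) : List ℕ := [[0, 6, 2, 1, 4, 6, 2],
  [2, 1, 5, 2, 4, 6],
  [6, 2, 4, 5, 6, 0, 2, 4, 5],
  [2, 1, 5, 2, 4, 5],
  [2, 6, 4, 3, 5, 2, 6, 4, 5, 2],
  [4, 3],
  [2, 1, 5, 2, 4],
  [6, 4],
  [6, 2, 4, 5, 6, 0, 2],
  [2, 1, 5, 2, 4, 3],
  [2, 1, 5, 2, 4, 3, 5],
  [],
  [2, 1, 5, 2, 4, 3, 6],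
  [6, 4, 3],
  [4],
  [],
  [6, 2, 4, 5, 6, 2, 4],
  [2, 1, 5, 2, 4, 5, 6, 4],
  [6, 2, 4, 5, 6, 0, 2, 4],
  [2, 1, 5, 2, 4, 6, 0],
  [2, 1, 5, 2, 4, 5, 6],
  [6],
  [6, 2, 4, 5, 6, 2, 4, 5],
  [2, 1, 5, 2, 4, 3, 5, 4],
  [2, 1, 5, 2, 4, 3, 6, 4],
  [6, 2, 4, 3, 5, 6, 2],
  [6, 2, 4, 5, 6, 2],
  [2, 1, 5, 2],
  [2, 5, 4, 3, 6, 2, 5, 4, 6, 2],
  []].getD i []

theorem ms_S : ∀ v : V0, q0 v = 0 → b0 (vc 5) v = 0 → bit msS v.n = true := by decide +kernel

def MsT (u : V0) : Prop := bit msS u.n = true → ∀ v : V0, bit msS v.n = true → b0 u v = 0 → ∀ w : V0,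
  bit msS w.n = true → b0 u w = 0 → b0 v w = 0 → Nat.beq (Nat.land (Nat.land (msk u.n) (msk v.n)) (msk w.n)) 0 = false

noncomputable instance (u : V0) : Decidable (MsT u) := by unfold MsT; infer_instance

theorem ms_t0 : ∀ u : V0, u.n / 64 = 0 → MsT u := by decide +kernel

theorem ms_t1 : ∀ u : V0, u.n / 64 = 1 → MsT u := by decide +kernel

theorem ms_t2 : ∀ u : V0, u.n / 64 = 2 → MsT u := by decide +kernel

theorem ms_t3 : ∀ u : V0, u.n / 64 = 3 → MsT u := by decide +kernel

theorem ms_tri (u : V0) : MsT u := by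
  have := u.lt
  rcases (by omega : u.n / 64 = 0 ∨ u.n / 64 = 1 ∨ u.n / 64 = 2 ∨ u.n / 64 = 3) with e | e | e | e
  exacts [ms_t0 u e, ms_t1 u e, ms_t2 u e, ms_t3 u e]

theorem ms_w : ∀ i < 30, msJ i < 4 ∧ (∀ k ∈ msW i, k < 7) ∧ inR (msJ i) (lin (wc (msW i)) (vc 5)) ∧
    ∀ v : V0, bit (msk v.n) i = true → inR (msJ i) (lin (wc (msW i)) v) := by decide +kernel

theorem ms_R : ∀ j < 4, inR j 0 ∧ ∀ x, inR j x → ∀ y, inR j y → b0 x y = 0 ∧ inR j (x + y) := by decide +kernel

theorem ms_gen : ∀ v, inR 0 v → ∃ x ∈ [0, vc 5, vc 11, vc 5 + vc 11], ∃ y ∈ [0, vc 80, vc 176, vc 80 + vc 176],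
    v = x + y := by decide +kernel

theorem ms_perp : ∀ v, b0 v (vc 5) = 0 → b0 v (vc 11) = 0 → b0 v (vc 80) = 0 → b0 v (vc 176) = 0 → inR 0 v := by
  decide +kernel

theorem ms_bit {a b c : ℕ} (h : Nat.beq (Nat.land (Nat.land (msk a) (msk b)) (msk c)) 0 = false) :
    ∃ i < 30, bit (msk a) i = true ∧ bit (msk b) i = true ∧ bit (msk c) i = true := by
  have h0 : msk a &&& msk b &&& msk c ≠ 0 := Nat.ne_of_beq_eq_false h
  obtain ⟨i, hi⟩ := Nat.exists_testBit_of_ne_zero h0
  simp only [Nat.testBit_and, Bool.and_eq_true] at hi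
  refine ⟨i, ?_, by rw [bit_eq, hi.1.1], by rw [bit_eq, hi.1.2], by rw [bit_eq, hi.2]⟩
  have h1 : (Nat.shiftRight msK (Nat.mul 32 c) &&& (2 ^ 30 - 1)).testBit i = true := hi.2
  rw [Nat.testBit_and, Nat.testBit_two_pow_sub_one, Bool.and_eq_true] at h1
  simpa using h1.2


theorem ts4 {g : P0} (hg : g ∈ OK 0) : ∃ γ ∈ Gam0, ∃ i < 4, ∀ v, inR i (γ (g v)) ↔ inR 0 v := by
  obtain ⟨l, hl, e5⟩ := Parr.trans_sing (v := g (vc 5)) (by rw [Parr.OK.q0 hg]; decide +kernel)
    (Parr.OK.ne_zero hg (by decide +kernel))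
  have lo : l⁻¹ * g ∈ OK 0 := mul_mem (inv_mem (Parr.L0_le hl).1) hg
  have f5 : (l⁻¹ * g) (vc 5) = vc 5 := by rw [Equiv.Perm.mul_apply, ← e5]; simp
  have s : ∀ x, q0 x = 0 → b0 (vc 5) x = 0 → bit msS ((l⁻¹ * g) x).n = true := fun x h1 h2 =>
    ms_S _ (by rw [Parr.OK.q0 lo, h1]) (by rw [← f5, Parr.OK.b lo, h2])
  obtain ⟨i, hi, a, b, c⟩ := ms_bit (ms_tri _ (s (vc 11) (by decide +kernel) (by decide +kernel)) _
    (s (vc 80) (by decide +kernel) (by decide +kernel)) (by rw [Parr.OK.b lo]; decide +kernel) _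
    (s (vc 176) (by decide +kernel) (by decide +kernel)) (by rw [Parr.OK.b lo]; decide +kernel)
    (by rw [Parr.OK.b lo]; decide +kernel))
  obtain ⟨j4, w7, r5, r⟩ := ms_w i hi
  obtain ⟨γ, hγ, ac⟩ := exists_wc (msW i) w7 hc_Gam0
  have ho : γ * (l⁻¹ * g) ∈ OK 0 := mul_mem (Parr.Gam0_le hγ).1 lo
  have k : ∀ x, inR (msJ i) (lin (wc (msW i)) ((l⁻¹ * g) x)) → inR (msJ i) ((γ * (l⁻¹ * g)) x) := fun x hx => by
    rwa [Equiv.Perm.mul_apply, ac]
  have k1 := k (vc 5) (by rw [f5]; exact r5)
  have k2 := k _ (r _ a)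
  have k3 := k _ (r _ b)
  have k4 := k _ (r _ c)
  refine ⟨γ * l⁻¹, mul_mem hγ (inv_mem (Parr.L0_le_Gam0 hl)), msJ i, j4, fun v => ?_⟩
  rw [← Equiv.Perm.mul_apply, mul_assoc]
  generalize γ * (l⁻¹ * g) = h at *
  obtain ⟨k0, cl⟩ := ms_R _ j4
  have ad : ∀ x y, inR (msJ i) (h x) → inR (msJ i) (h y) → inR (msJ i) (h (x + y)) := fun x y hx hy => by
    rw [Parr.OK.add ho]; exact (cl _ hx _ hy).2
  have z0 : inR (msJ i) (h 0) := by rwa [Parr.OK.zero ho]
  refine ⟨fun hv => ?_, fun hv => ?_⟩
  · have p : ∀ x, inR (msJ i) (h x) → b0 v x = 0 := fun x hx => by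
      rw [← Parr.OK.b ho]; exact (cl _ hv _ hx).1
    exact ms_perp v (p _ k1) (p _ k2) (p _ k3) (p _ k4)
  · obtain ⟨x, hx, y, hy, rfl⟩ := ms_gen v hv
    simp only [List.mem_cons, List.not_mem_nil, or_false] at hx hy
    refine ad _ _ ?_ ?_
    · rcases hx with rfl | rfl | rfl | rfl
      exacts [z0, k1, k2, ad _ _ k1 k2]
    · rcases hy with rfl | rfl | rfl | rfl
      exacts [z0, k3, k4, ad _ _ k3 k4]

end CfsgLib.Fi64
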