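import Mathlib
import Cfsg.Agent.Lib.Fi64.H3
import Cfsg.Agent.Lib.Fi64.MS

/-! Identification of `H / Q C(Q)` (project E64, plans/E64.md). -/

set_option autoImplicit false
set_option maxRecDepth 100000
set_option Elab.async false

namespace CfsgLib.Fi64

open Subgroup Cfsg CfsgLib.W2 CfsgLib.Tech CfsgLib.PComp
open CfsgLib.S86 (E64 SM e1 f1 e2 f2 e3 f3 bf sa tv oc t1)
open CfsgLib.Parr (P0 V0 vc lin mp idM Act Gam Gam0 L0 U0 OK q0 b0 om t0 v0 sg nC Sg Tst)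

variable {G : Type*} [Group G] [Finite G]

namespace Rep

variable {A : Subgroup G} {π : G → M} {j : M → G} {f : G → P0} (R : Rep A π j f)
include R

theorem H4gen {b : G} (h : Bee j 0 1 b) (K : Subgroup G) (hK : Nm A ⊓ Nm (J j Qm) ≤ K) (hb : b ∈ K) :
    ∀ γ ∈ Gam0, ∃ k ∈ K, k ∈ Nm (J j Qm) ∧ f k = γ := fun γ hγ => by
  have bH := R.bee_H (by decide) (by decide) h
  obtain ⟨k, hk, e⟩ := gam_gen (K := (K.subgroupOf (Nm (J j Qm))).map R.fh) (fun i hi => by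
    rcases Nat.lt_succ_iff_lt_or_eq.1 hi with hi | rfl
    · obtain ⟨n, n1, n2, n3, -⟩ := R.liftH (hg_mem i hi)
      exact ⟨_, ⟨⟨n, n2⟩, hK ⟨n1, n2⟩, rfl⟩, R.act_hg n1 n2 hi n3⟩
    · exact ⟨_, ⟨⟨b, bH⟩, hb, rfl⟩, R.act_b h⟩) hγ
  exact ⟨k, hk, k.2, e⟩

/-- the action of `N ⊓ H` -/
def H4φ : (Nm A ⊓ Nm (J j Qm) : Subgroup G) →* P0 := R.fh.comp (inclusion inf_le_right)

theorem H4N {n : G} (hn : n ∈ Nm A) (hh : n ∈ Nm (J j Qm)) : f n ∈ Gam0 := by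
  obtain ⟨n', a, e⟩ := gen_Cz (K := (Gam0.comap R.H4φ).map (R.πh.comp (inclusion inf_le_left))) (fun x hx =>
    ⟨⟨j x, R.jN x (Q_le_T hx), R.jH (Q_le_T hx)⟩, by
      change f (j x) ∈ Gam0
      rw [R.f_Q (R.mem_Q.2 ⟨x, hx, rfl⟩)]; exact one_mem _, R.πj x (Q_le_T hx)⟩) (fun i hi => by
    obtain ⟨n, n1, n2, n3, -⟩ := R.liftH (hg_mem i hi)
    exact ⟨⟨n, n1, n2⟩, hc_mem (by omega) (R.act_hg n1 n2 hi n3), n3⟩) (R.piH hn hh).1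
  have e' : π n' = π n := e
  have : f n = f n' := Equiv.ext fun v => by
    obtain ⟨x, hx, rfl⟩ := τ_surj v
    rw [R.f_N hn hh hx, R.f_N n'.2.1 n'.2.2 hx, e']
  exact this ▸ a

theorem H4stab {k u : G} (hk : k ∈ Nm (J j Qm)) (hu : u ∈ Nm (J j Qm)) {i : ℕ} (e : ∀ v, inR i (f k v) ↔ inR 0 v)
    (hi : ∀ v, inR i v → inR i (f u v)) : ∃ n ∈ Nm A, n ∈ Nm (J j Qm) ∧ ∃ c ∈ Ce (J j Qm), k⁻¹ * u * k = n * c := by
  refine R.stab (mul_mem (mul_mem (inv_mem hk) hu) hk) fun v hv => (e _).1 ?_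
  rw [R.fm _ (mul_mem (inv_mem hk) hu) _ hk, R.fm _ (inv_mem hk) _ hu, R.f_inv hk]
  simpa using hi _ ((e v).2 hv)

theorem H4two {b : G} (h : Bee j 0 1 b) {k : G} (hk : k ∈ Nm (J j Qm)) {i : ℕ} (hi : i = 2 ∨ i = 3)
    (e : ∀ v, inR i (f k v) ↔ inR 0 v) : False := by
  have h1 : cj (f k)⁻¹ Tst ≤ R.H4φ.range := cj_le_iff.2 fun s hs => by
    obtain ⟨u, -, hu, rfl⟩ := R.H4gen h ⊤ le_top trivial s (Tst_le hs)
    obtain ⟨n, n1, n2, c, hc, e'⟩ := R.H4stab hk hu e fun v => Tst_R hs hi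
    refine ⟨⟨n, n1, n2⟩, ?_⟩
    have := congrArg f e'
    rw [R.fm _ (mul_mem (inv_mem hk) hu) _ hk, R.fm _ (inv_mem hk) _ hu, R.f_inv hk, R.fm _ n2 _ (R.C_le_H hc), R.f_C hc,
      mul_one] at this
    rw [inv_inv, this]; rfl
  have hQ : J j Qm ≤ Nm A ⊓ Nm (J j Qm) := le_inf (R.J_le_N _) le_normalizer
  have h2 : (J j Qm).subgroupOf _ ≤ R.H4φ.ker := fun x hx => R.f_Q hx
  have h3 := card_dvd_of_le h1
  have h4 := card_dvd_of_le h2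
  rw [card_cj, Parr.card_Tst] at h3
  rw [Nat.card_congr (subgroupOfEquivOfLe hQ).toEquiv, R.card_J Q_le_T, card_Q] at h4
  have h5 := mul_dvd_mul h4 h3
  rw [← index_ker, R.H4φ.ker.card_mul_index] at h5
  have h6 := h5.trans (card_dvd_of_le (inf_le_left : Nm A ⊓ Nm (J j Qm) ≤ _))
  rw [← card_mul_relIndex' R.sylT.le, R.card_J le_rfl, card_T] at h6
  exact R.sylT.not_dvd (by omega)

theorem H4one {k : G} (hk : k ∈ Nm (J j Qm)) (e : ∀ v, inR 1 (f k v) ↔ inR 0 v) : False := by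
  have hA : ∀ {x : M}, x ∈ Tm → (j x ∈ A ↔ x ∈ Ab) := fun hx => R.hA ▸ R.j_mem hx
  have key : ∀ i ∈ [1, 3, 5], ∀ y ∈ [qg 7, qg 9], j (hg i * y * (hg i)⁻¹ * y⁻¹) ∈ cj k (A ⊓ J j Qm) := fun i hi y hy => by
    obtain ⟨i6, iB, iR⟩ := (by decide +kernel : ∀ i < 6, i ∈ [1, 3, 5] → i < 6 ∧ hg i ∈ Bm ∧
      ∀ v, inR 1 v → inR 1 (lin (hc i) v)) i (by simp at hi; omega) hi
    obtain ⟨yQ, yR⟩ := (by decide +kernel : ∀ y ∈ [qg 7, qg 9], y ∈ Qm ∧ inR 1 (τ y)) y hy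
    have iT := U_le_T (B_le_U iB)
    have act := R.act_hg (R.jN _ iT) (R.jH iT) i6 (R.πj _ iT)
    obtain ⟨n, n1, n2, c, hc, e'⟩ := R.H4stab hk (R.jH iT) e fun v hv => act v ▸ iR v hv
    obtain ⟨u, hu, e1⟩ := inR_zero.1 ((e ((f k)⁻¹ (τ y))).1 (by simpa using yR))
    have uQ := tr_mem_Q.2 hu
    have a0 : j (tr u) ∈ A ⊓ J j Qm := ⟨R.mem_A.2 ⟨u, rfl⟩, R.mem_Q.2 ⟨_, uQ, rfl⟩⟩
    obtain ⟨x, xQ, e2⟩ := R.mem_Q.1 (conj_mem_of_mem_normalizer hk a0.2)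
    have e3 := R.act k hk _ uQ _ xQ e2.symm
    rw [e1] at e3
    have hζ := (τ_eq xQ yQ).1 (by simpa using e3.symm)
    have e4 : hg i * y * (hg i)⁻¹ * y⁻¹ = hg i * x * (hg i)⁻¹ * x⁻¹ := by
      calc _ = hg i * x * (x⁻¹ * y * (hg i)⁻¹) * y⁻¹ := by group
        _ = _ := by rw [← (B_comm iB (Z_le_B hζ)).inv_left.eq]; group
    have xT := Q_le_T xQ
    rw [e4, R.jm _ (mul_mem (mul_mem iT xT) (inv_mem iT)) _ (inv_mem xT), R.j_conj iT xT, R.j_inv xT, e2]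
    refine mul_mem (mem_cj.2 ?_) (inv_mem (conj_mem_cj.2 a0))
    have e5 : k⁻¹ * (j (hg i) * (k * j (tr u) * k⁻¹) * (j (hg i))⁻¹) * k = n * j (tr u) * n⁻¹ := by
      calc _ = k⁻¹ * j (hg i) * k * j (tr u) * (k⁻¹ * j (hg i) * k)⁻¹ := by group
        _ = n * (c * j (tr u) * c⁻¹) * n⁻¹ := by rw [e']; group
        _ = _ := by rw [← mem_centralizer_iff.1 hc _ a0.2, mul_inv_cancel_right]
    rw [e5]
    exact ⟨conj_mem_of_mem_normalizer n1 a0.1, conj_mem_of_mem_normalizer n2 a0.2⟩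
  obtain ⟨m1, m2, m3, m4, zA, zQ, n1, n2, dT, zT⟩ : hg 1 * qg 7 * (hg 1)⁻¹ * (qg 7)⁻¹ ∈ Tm ∧ hg 3 * qg 9 * (hg 3)⁻¹ * (qg 9)⁻¹ ∈ Tm ∧
      hg 5 * qg 7 * (hg 5)⁻¹ * (qg 7)⁻¹ ∈ Tm ∧ (hg 1 * qg 7 * (hg 1)⁻¹ * (qg 7)⁻¹ * (hg 3 * qg 9 * (hg 3)⁻¹ * (qg 9)⁻¹) *
      (hg 5 * qg 7 * (hg 5)⁻¹ * (qg 7)⁻¹) ∈ [d, z * d]) ∧ z ∈ Ab ∧ z ∈ Qm ∧ d ∉ Ab ∧ z * d ∉ Ab ∧ d ∈ Tm ∧ z ∈ Tm := by
    refine ⟨?_, ?_, ?_, ?_, ?_, ?_, ?_, ?_, ?_, ?_⟩ <;> decide +kernel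
  have h1 := mul_mem (mul_mem (key 1 (by simp) _ List.mem_cons_self) (key 3 (by simp) (qg 9) (by simp)))
    (key 5 (by simp) _ List.mem_cons_self)
  rw [← R.jm _ m1 _ m2, ← R.jm _ (mul_mem m1 m2) _ m3] at h1
  have h2 : j z ∈ cj k (A ⊓ J j Qm) := by
    rw [← mul_inv_cancel_right (j z) k, ← (R.H_z hk).eq]
    exact conj_mem_cj.2 ⟨(hA zT).2 zA, R.mem_Q.2 ⟨_, zQ, rfl⟩⟩
  have h3 : j d ∈ cj k (A ⊓ J j Qm) := by
    rcases List.mem_pair.1 m4 with e | e <;> rw [e] at h1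
    exacts [h1, (mul_mem_cancel_left h2).1 (R.jm _ zT _ dT ▸ h1)]
  have h4 := (mem_cj.1 h3).1
  rcases R.H_d (inv_mem hk) with e | e <;> rw [inv_inv] at e <;> rw [e] at h4
  exacts [n1 ((hA dT).1 h4), n2 ((hA (mul_mem zT dT)).1 (R.jm _ zT _ dT ▸ h4))]

theorem exists_eg {b : G} (h : Bee j 0 1 b) : ∃ P, Eg A π j f b P := by
  obtain ⟨P, hP, hT⟩ := exists_isSylowIn_ge (R.pgJ Tm) R.T_le_H
  refine ⟨P, R, h, fun k hk => ?_, R.H4gen h, hP, hT⟩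
  obtain ⟨γ, hγ, i, hi, e⟩ := ts4 (R.ok k hk)
  obtain ⟨u, -, hu, rfl⟩ := R.H4gen h ⊤ le_top trivial γ hγ
  have e' : ∀ v, inR i (f (u * k) v) ↔ inR 0 v := fun v => by rw [R.fm _ hu _ hk]; exact e v
  interval_cases i
  · obtain ⟨n, n1, n2, c, hc, e2⟩ := R.stab (mul_mem hu hk) fun v => (e' v).2
    have := congrArg f e2
    rw [R.fm _ hu _ hk, R.fm _ n2 _ (R.C_le_H hc), R.f_C hc, mul_one] at this
    exact (mul_mem_cancel_left hγ).1 (this ▸ R.H4N n1 n2)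
  · exact (R.H4one (mul_mem hu hk) e').elim
  · exact (R.H4two h (mul_mem hu hk) (Or.inl rfl) e').elim
  · exact (R.H4two h (mul_mem hu hk) (Or.inr rfl) e').elim

end Rep

end CfsgLib.Fi64
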