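import Mathlib
import Cfsg.Agent.Lib.Fi64.Wc

/-! The normal closure of `z` (project E64, plans/E64.md). -/

set_option autoImplicit false
set_option maxRecDepth 100000
set_option Elab.async false

namespace CfsgLib.Fi64

open Subgroup Cfsg CfsgLib.W2 CfsgLib.Tech CfsgLib.PComp
open CfsgLib.S86 (E64 SM e1 f1 e2 f2 e3 f3 bf sa tv oc t1)
open CfsgLib.Parr (P0 V0 vc lin mp idM Act Gam Gam0 L0 U0 OK q0 b0 om t0 v0 sg nC Sg Tst)

variable {G : Type*} [Group G] [Finite G]

namespace Eg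

variable {A P : Subgroup G} {π : G → M} {j : M → G} {f : G → P0} {b : G} (E : Eg A π j f b P)
include E

theorem z_mem {K : Subgroup G} (h : ∀ s ∈ P, ∀ x ∈ K, s * x * s⁻¹ ∈ K) (he : Even (Nat.card K))
    (hs : IsSylowIn 2 (P ⊓ K) K) : j z ∈ K := by
  obtain ⟨x, hx, x1, hc⟩ := Sect.exists_cent_of_norm E.syl.pgroup (N := P ⊓ K) inf_le_left
    (fun g hg x hx => ⟨P.mul_mem (P.mul_mem hg hx.1) (P.inv_mem hg), h g hg x hx.2⟩) fun e => by
      have := hs.card_eq_pow
      rw [e, card_bot, eq_comm, Nat.pow_eq_one] at this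
      exact absurd ((Nat.prime_two.dvd_iff_one_le_factorization Nat.card_pos.ne').1 he.two_dvd) (by omega)
  exact (E.centP hx.1 fun y hy => (hc y hy).symm).resolve_left x1 ▸ hx.2

theorem simp_A (v : E64) : j (tr v) ∈ normalClosure ({j z} : Set G) := by
  by_cases hv : v = 1
  · have h1 : tr 1 = 1 := M.ext rfl rfl
    rw [hv, h1, E.j_one]; exact one_mem _
  obtain ⟨g, hg⟩ := S86.Wt.to_e1 hv
  obtain ⟨n, hn, e⟩ := E.πs (sy g)
  have h := E.conj_A hn v
  have h3 : (π n).l = g := congrArg M.l e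
  rw [h3, hg] at h
  have h4 : n * j (tr v) * n⁻¹ = j z := h
  have h5 : j (tr v) = n⁻¹ * j z * n⁻¹⁻¹ := by rw [← h4]; group
  rw [h5]
  exact normalClosure_normal.conj_mem _ (subset_normalClosure (Set.mem_singleton _)) _

theorem N_le (m : M) : ∃ n ∈ normalClosure ({j z} : Set G), n ∈ Nm A ∧ π n = m := by
  have e := E.bee 9 (by decide)
  have hT : bg 0 1 9 ∈ Tm := te_mem _
  obtain ⟨n, hn, nN, en⟩ := E.normal_N (L := normalClosure ({j z} : Set G))
    (fun n _ x hx _ => normalClosure_normal.conj_mem _ hx n) (g := j (bg 0 1 9))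
    (e ▸ normalClosure_normal.conj_mem _ (E.simp_A f1) b) (E.jN _ hT) (by rw [E.πj _ hT]; decide +kernel) m.l
  refine ⟨j (tr (m.a * (π n).a)) * n, mul_mem (E.simp_A _) hn, mul_mem (E.jN _ (tr_mem _)) nN, ?_⟩
  rw [E.πm _ (E.jN _ (tr_mem _)) _ nN, E.πj _ (tr_mem _)]
  exact M.ext (by rw [mul_a, tr, S86.one_sa, mul_assoc, S86.E_sq, mul_one]) ((one_mul _).trans en)

theorem simp_T {x : M} (hx : x ∈ Tm) : j x ∈ normalClosure ({j z} : Set G) :=
  let ⟨_, hn, nN, e⟩ := E.N_le x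
  E.mem_of_two (fun n _ _ h => normalClosure_normal.conj_mem _ h n) hx nN hn e

theorem P_le : P ≤ normalClosure ({j z} : Set G) := by
  set L := normalClosure ({j z} : Set G)
  have hn : ∀ k ∈ (⊤ : Subgroup G), ∀ x ∈ L, k * x * k⁻¹ ∈ L := fun k _ x hx => normalClosure_normal.conj_mem _ hx k
  let K := (L.subgroupOf (Nm (J j Qm))).map E.fh
  have mK : ∀ {x : M}, x ∈ Tm → f (j x) ∈ K := fun hx => ⟨⟨_, E.jH hx⟩, E.simp_T hx, rfl⟩
  have KG : K ≤ Gam0 := by rintro _ ⟨x, -, rfl⟩; exact E.gam _ x.2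
  have h0 : Gam0 ≤ K := by
    refine Gam0_le_of (normal_Gam0 KG ?_ (E.f_h2 ▸ mK (tg_mem 4 (by decide))) Parr.t0_ne) (mK (tg_mem 9 (by decide)))
      (KG (mK (tg_mem 9 (by decide)))) fun hc => ?_
    · rintro g hg _ ⟨x, hx, rfl⟩
      obtain ⟨h, hh, rfl⟩ := E.surj hg
      exact ⟨⟨h * x * h⁻¹, mul_mem (mul_mem hh x.2) (inv_mem hh)⟩, hn h trivial _ hx, E.f_conj hh x.2⟩
    · have a : Act (f (j (tg 9))) (wc (yw 1)) := E.f_yy (i := 1) (by decide)
      have := fun v => Equiv.ext_iff.1 hc.eq v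
      simp only [Equiv.Perm.mul_apply, a _] at this
      revert this
      decide +kernel
  intro s hs
  have sH := E.syl.le hs
  obtain ⟨⟨e, eH⟩, eL, ee⟩ := h0 (E.gam s sH)
  obtain ⟨q, hq, c, hc, e1⟩ := E.ker (mul_mem (inv_mem eH) sH) (by
    rw [E.fm _ (inv_mem eH) _ sH, E.f_inv eH, inv_mul_eq_one]; exact ee)
  obtain ⟨ζ, hζ, o, ho, rfl⟩ := E.cq_dec hc
  refine mem_of_two_odd hn (mem_top s) (mem_top o) (Two.of_mem E.syl.pgroup hs)
    ((odd_card_opOf _).of_dvd_nat (orderOf_dvd_natCard _ ho)) ?_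
  rw [show s * o⁻¹ = e * (j q * j ζ) by rw [inv_mul_eq_iff_eq_mul.1 e1]; group]
  exact mul_mem eL (mul_mem (E.simp_T (Q_le_T hq)) (E.simp_T (Q_le_T (Z_le_Q hζ))))

theorem simp_syl : IsSylowIn 2 P (normalClosure ({j z} : Set G)) := E.sylG.of_le E.P_le le_top

theorem frat (g : G) : ∃ e ∈ normalClosure ({j z} : Set G), ∃ c ∈ Cx (j z), g = e * c := by
  obtain ⟨n, hn, h⟩ := E.simp_syl.frattini (g := g) (le_normalizer_of_normal (mem_top g))
  refine ⟨n⁻¹, inv_mem hn, n * g, mem_Cx'.2 ?_, by group⟩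
  have zP : j z ∈ P := E.TP ((E.j_mem (tr_mem _)).2 (tr_mem _))
  refine (E.centP (conj_mem_of_mem_normalizer h zP) fun y hy => ?_).resolve_left (fun e => E.zd.2.1 (conj_eq_one_iff.1 e))
  have := (E.H_z (E.syl.le (conj_mem_of_mem_normalizer' h hy))).eq
  calc _ = n * g * (j z * ((n * g)⁻¹ * y * (n * g))) * (n * g)⁻¹ := by group
    _ = _ := by rw [← this]; group

theorem simp_odd {K : Subgroup G} (h1 : K ≤ normalClosure ({j z} : Set G))
    (h2 : normalClosure ({j z} : Set G) ≤ Nm K) (h : j z ∉ K) : K = ⊥ := by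
  have ho : Odd (Nat.card K) := Nat.not_even_iff_odd.1 fun he => h (E.z_mem
    (fun s hs x hx => conj_mem_of_mem_normalizer (h2 (E.P_le hs)) hx) he (by
      have := E.simp_syl.inf_of_le_normalizer h2
      rwa [inf_eq_right.2 h1] at this))
  exact le_bot_iff.1 (((le_opOf h1 h2 (Nat.coprime_two_right.2 ho)).trans
    (opOf_le_pPrimeCore normalClosure_normal.isSubnormal)).trans E.hO.le)

theorem simple : IsSimpleGroup (normalClosure ({j z} : Set G)) := by
  set L := normalClosure ({j z} : Set G) with hL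
  have : Nontrivial L := (nontrivial_iff_exists_ne_one L).2 ⟨_, subset_normalClosure rfl, E.zd.2.1⟩
  refine ⟨fun K hK => ?_⟩
  have h2 : L ≤ Nm (K.map L.subtype) := fun g hg => mem_normalizer_of_forall (by
    rintro _ ⟨x, hx, rfl⟩
    exact ⟨_, hK.conj_mem x hx ⟨g, hg⟩, rfl⟩)
  by_cases h : j z ∈ K.map L.subtype
  · have : L ≤ K.map L.subtype := (closure_le _).2 fun y hy => by
      obtain ⟨a, rfl, hc⟩ := Group.mem_conjugatesOfSet_iff.1 hy
      obtain ⟨g, rfl⟩ := isConj_iff.1 hc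
      obtain ⟨e, he, c, hc', rfl⟩ := E.frat g
      rw [show e * c * j z * (e * c)⁻¹ = e * (c * j z * c⁻¹) * e⁻¹ by group, mem_Cx'.1 hc']
      exact conj_mem_of_mem_normalizer (h2 he) h
    exact Or.inr (eq_top_iff.2 fun x _ => by
      obtain ⟨y, hy, e⟩ := this x.2
      exact Subtype.ext e ▸ hy)
  · exact Or.inl ((map_eq_bot_iff_of_injective K L.subtype_injective).1 (E.simp_odd (map_subtype_le K) h2 h))

theorem cent_E : Ce (normalClosure ({j z} : Set G)) = ⊥ := by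
  set L := normalClosure ({j z} : Set G) with hL
  have hz : j z ∉ Ce L := fun h => by
    obtain ⟨n, hn, nN, e⟩ := E.N_le (sy (tv f1))
    have := E.conj_A nN e1
    rw [show j (tr e1) = j z from rfl, h n hn, mul_inv_cancel_right, e] at this
    exact absurd (E.j_inj (tr_mem _) (tr_mem _) this) (by decide +kernel)
  have ho : Odd (Nat.card (Ce L)) := Nat.not_even_iff_odd.1 fun he => hz (E.z_mem
    (fun s _ x hx => (inferInstance : (Ce L).Normal).conj_mem x hx s) he (by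
      have := E.sylG.inf_of_le_normalizer (N := Ce L) le_normalizer_of_normal
      rwa [top_inf_eq] at this))
  exact le_bot_iff.1 (((le_opOf le_top le_normalizer_of_normal (Nat.coprime_two_right.2 ho)).trans opOf_top.le).trans E.hO.le)

end Eg

end CfsgLib.Fi64
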