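import Mathlib
import Cfsg.Agent.Lib.Fi64.Simp
import Cfsg.Agent.Lib.Fi64.Dd
import Cfsg.Agent.S2901
import Cfsg.Agent.S2119

/-! Application of Holt's theorem (project E64, plans/E64.md). -/

set_option autoImplicit false
set_option maxRecDepth 100000
set_option Elab.async false

namespace CfsgLib.Fi64

open Subgroup Cfsg CfsgLib.W2 CfsgLib.Tech CfsgLib.PComp
open CfsgLib.S86 (E64 SM e1 f1 e2 f2 e3 f3 bf sa tv oc t1)
open CfsgLib.Parr (P0 V0 vc lin mp idM Act Gam Gam0 L0 U0 OK q0 b0 om t0 v0 sg nC Sg Tst)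

variable {G : Type*} [Group G] [Finite G]

/-- an element of odd order acts on a normal alternating subgroup as an inner automorphism -/
theorem holt_inner {N : Subgroup G} [N.Normal] {n : ℕ} (h4 : 4 ≤ n) (h6 : n ≠ 6)
    (e : N ≃* alternatingGroup (Fin n)) {θ : G} (ho : Odd (orderOf θ)) : ∃ s ∈ N, s⁻¹ * θ ∈ Ce N := by
  obtain ⟨inj, sur⟩ := Cfsg.Agent.S2119.result n h4 h6
  obtain ⟨σ, hσ⟩ := sur (MulAut.congr e (MulAut.conjNormal θ))
  have h1 : σ ^ orderOf θ = 1 := inj (by rw [map_pow, hσ, ← map_pow, ← map_pow, pow_orderOf_eq_one, map_one,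
    map_one, map_one])
  have h2 : σ ∈ alternatingGroup (Fin n) := by
    have := congrArg Equiv.Perm.sign h1
    rw [map_pow, map_one] at this
    rcases Int.units_eq_one_or (Equiv.Perm.sign σ) with k | k
    · exact k
    · rw [k, ho.neg_one_pow] at this; exact absurd this (by decide)
  refine ⟨e.symm ⟨σ, h2⟩, (e.symm _).2, fun x hx => ?_⟩
  have k : e (MulAut.conjNormal θ ⟨x, hx⟩) = e (e.symm ⟨σ, h2⟩ * ⟨x, hx⟩ * (e.symm ⟨σ, h2⟩)⁻¹) := by
    have := congrArg (fun φ : MulAut (alternatingGroup (Fin n)) => φ (e ⟨x, hx⟩)) hσ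
    simp only [MulAut.congr_apply, MulEquiv.trans_apply, MulEquiv.symm_apply_apply] at this
    rw [← this, map_mul, map_mul, map_inv, MulEquiv.apply_symm_apply]
    exact Subtype.ext rfl
  have k2 : θ * x * θ⁻¹ = (e.symm ⟨σ, h2⟩ : N) * x * ((e.symm ⟨σ, h2⟩ : N) : G)⁻¹ :=
    congrArg Subtype.val (e.injective k)
  generalize ((e.symm ⟨σ, h2⟩ : N) : G) = s at k2
  calc x * (s⁻¹ * θ) = s⁻¹ * (s * x * s⁻¹) * θ := by group
    _ = s⁻¹ * θ * x := by rw [← k2]; group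

theorem holt_three : (d * (sy (tv f1) * d * (sy (tv f1))⁻¹)) ^ 3 = 1 ∧ d * (sy (tv f1) * d * (sy (tv f1))⁻¹) ≠ 1 := by
  rw [pow_succ, pow_two]
  decide +kernel

namespace Eg

variable {A P : Subgroup G} {π : G → M} {j : M → G} {f : G → P0} {b : G} (E : Eg A π j f b P)
include E

theorem holt_H {x : G} (hx : x ∈ Nm (J j Qm)) : x ∈ Cx (j z) := mem_Cx.2 (E.H_z hx)

theorem zfus {K : Subgroup G} (h1 : Nm A ≤ K) (h2 : Cx (j z) ≤ K) {g : G} (h : g * j z * g⁻¹ ∈ K) :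
    ∃ k ∈ K, k * j z * k⁻¹ = g * j z * g⁻¹ := by
  have HK : Nm (J j Qm) ≤ K := fun x hx => h2 (holt_H E hx)
  obtain ⟨z2, z1, -⟩ := E.zd
  have gg : g * j z * g⁻¹ * (g * j z * g⁻¹) = 1 := by rw [conj_mul, z2]; simp
  obtain ⟨p, hp, m⟩ := (E.sylG.of_le (E.syl.le.trans HK) le_top).exists_conj_mem h (Two.of_sq gg).pg
  have pp : p * (g * j z * g⁻¹) * p⁻¹ * (p * (g * j z * g⁻¹) * p⁻¹) = 1 := by rw [conj_mul, gg]; simp
  obtain ⟨u, hu, i, hi, q, hq, e⟩ := E.inv (E.syl.le m) (Two.of_sq pp)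
    (by rw [← E.fm _ (E.syl.le m) _ (E.syl.le m), pp, E.toRep.f_one])
  have hx : yy i * q ∈ Tm := mul_mem (yy_mem i hi) (Q_le_T hq)
  generalize yy i * q = x at e hx
  have x2 : x * x = 1 := (E.j_sq hx).1 (by rw [← e, conj_mul, pp]; simp)
  have x1 : x ≠ 1 := fun k => z1 (by
    rw [k, E.j_one] at e
    simpa only [conj_eq_one_iff] using e)
  rcases E.fus hx x2 x1 with k | ⟨w, hw, k | k⟩
  · obtain ⟨n, -, k⟩ := E.dt_dd hx x2 k
    refine absurd ?_ (E.z_nconj ((u * p * g)⁻¹ * n)).2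
    rw [show (u * p * g)⁻¹ * n * j d * ((u * p * g)⁻¹ * n)⁻¹ = (u * p * g)⁻¹ * (n * j d * n⁻¹) * (u * p * g) by group,
      k, ← e]
    group
  · refine ⟨(w * u * p)⁻¹, inv_mem (mul_mem (mul_mem (sup_le h1 HK hw) (HK hu)) hp), ?_⟩
    nth_rewrite 1 [← k]
    rw [← e]
    group
  · refine absurd ?_ (E.z_nconj (w * u * p * g)⁻¹).1
    rw [← k, ← e]
    group

theorem odd_triv {Θ : Subgroup G} (ho : Odd (Nat.card Θ)) (h1 : Nm A ≤ Nm Θ) (h2 : Cx (j z) ≤ Nm Θ) : Θ = ⊥ := by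
  obtain ⟨z2, z1, d2, -⟩ := E.zd
  have PC : P ≤ Cx (j z) := fun x hx => holt_H E (E.syl.le hx)
  have zT : z ∈ Tm := tg_mem 0 (by omega)
  have dT : d ∈ Tm := tg_mem 3 (by omega)
  have zP : j z ∈ P := E.TP ((E.j_mem zT).2 zT)
  have dP : j d ∈ P := E.TP ((E.j_mem dT).2 dT)
  have PE := E.P_le
  have hc := E.cent_E
  have hs := E.simple
  have fr := E.frat
  have nl := E.N_le
  generalize hN : normalClosure ({j z} : Set G) = N at PE hc hs fr nl
  have : N.Normal := hN ▸ inferInstance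
  by_cases k : N ≤ Nm Θ
  · have : Nm Θ = ⊤ := eq_top_iff.2 fun g _ => by
      obtain ⟨e, he, c, hc, rfl⟩ := fr g
      exact mul_mem (k he) (h2 hc)
    exact eq_bot_iff.2 (E.hO ▸ Core.le_pPrimeCore (hN := normalizer_eq_top_iff.1 this) (Nat.coprime_two_right.2 ho))
  have oz : orderOf (j z) = 2 := orderOf_eq_prime (by rw [pow_two, z2]) z1
  have hna : ¬ IsMulCommutative N := fun c => z1 (mem_bot.1 (hc.le fun x hx =>
    congrArg Subtype.val (c.is_comm.comm (⟨x, hx⟩ : N) ⟨_, PE zP⟩)))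
  rcases Cfsg.Agent.S2901.result hna ((Nm Θ).subgroupOf N) (fun e => k (subgroupOf_eq_top.1 e)) ⟨j z, PE zP⟩
    (h2 (PC zP)) ⟨by rwa [orderOf_mk], E.sylG.toSylowTop.subtype PE, zP, fun s hs => Subtype.ext (mem_Cx.1 (PC hs))⟩
    (fun g hg => h2 (mem_Cx.2 (congrArg Subtype.val (mem_centralizer_singleton_iff.1 hg))))
    (fun g hg => by
      obtain ⟨m, hm, e⟩ := E.zfus h1 h2 hg
      obtain ⟨l, hl, y, hy, rfl⟩ := fr m
      refine ⟨⟨l, hl⟩, (mul_mem_cancel_right (h2 hy)).1 hm, Subtype.ext (Eq.trans ?_ e)⟩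
      change l * j z * l⁻¹ = _
      rw [mul_assoc l y, mem_Cx.1 hy]; group) with ⟨-, S, e⟩ | ⟨n, h5, ⟨e⟩, ⟨e'⟩⟩
  · exfalso
    obtain ⟨n, hn, nA, πn⟩ := nl (sy (tv f1))
    have o := IsSylowIn.of_sylow_top S
    have key : ∀ a : N, (a : G) ∈ Nm Θ → a * a = 1 → a ∈ (S : Subgroup N) := fun a ha a2 =>
      zpowers_le.1 (o.le_of_normalizes (Two.of_sq a2).pg le_top (zpowers_le.2 (e.le ha)))
    have m := mul_mem (key ⟨j d, PE dP⟩ (h2 (PC dP)) (Subtype.ext d2))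
      (key ⟨n * j d * n⁻¹, mul_mem (mul_mem hn (PE dP)) (inv_mem hn)⟩
        (mul_mem (mul_mem (h1 nA) (h2 (PC dP))) (inv_mem (h1 nA)))
        (Subtype.ext (show n * j d * n⁻¹ * (n * j d * n⁻¹) = 1 by rw [conj_mul, d2]; simp)))
    obtain ⟨l, hl⟩ := isPGroup_iff_mem.1 S.isPGroup' _ m
    have hl' : (j d * (n * j d * n⁻¹)) ^ 2 ^ l = 1 := congrArg Subtype.val hl
    have dN := E.jN d dT
    have cN := mul_mem (mul_mem nA dN) (inv_mem nA)
    have := congrArg π hl'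
    rw [E.π_pow (mul_mem dN cN), E.π_one, E.πm _ dN _ cN, E.π_conj nA dN, E.πj d dT, πn] at this
    exact holt_three.2 ((pow_eq_one_iff_of_coprime (Nat.Coprime.pow_left l (by decide))).1 ⟨this, holt_three.1⟩)
  have hn : 9 ≤ n := by
    by_contra! hn
    have h3 : 2 ^ 15 ∣ n.factorial := by
      rw [← card_T, ← E.card_J le_rfl, ← Fintype.card_fin n, ← Fintype.card_perm, ← Nat.card_eq_fintype_card]
      exact (card_dvd_of_le (E.TP.trans PE)).trans (Nat.card_congr e.toEquiv ▸ card_subgroup_dvd_card _)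
    exact absurd (h3.trans (Nat.factorial_dvd_factorial (show n ≤ 8 by omega))) (by decide)
  have := alternatingGroup.isSimpleGroup (α := Fin (n - 1)) (by simp; omega)
  have := e'.isSimpleGroup
  have l1 : Θ.subgroupOf N ≤ (Nm Θ).subgroupOf N := comap_mono le_normalizer
  have nr : ((Θ.subgroupOf N).subgroupOf ((Nm Θ).subgroupOf N)).Normal :=
    ⟨fun a ha g => conj_mem_of_mem_normalizer (H := Θ) g.2 ha⟩
  rcases nr.eq_bot_or_eq_top with k' | k'
  · refine eq_bot_iff.2 fun θ hθ => ?_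
    obtain ⟨s, hs, m⟩ := holt_inner (by omega) (by omega) e (θ := θ) (ho.of_dvd_nat (orderOf_dvd_natCard _ hθ))
    rw [hc, mem_bot, inv_mul_eq_one] at m
    subst m
    exact congrArg (fun x : (Nm Θ).subgroupOf N => ((x : N) : G))
      (mem_bot.1 (k'.le (show (⟨⟨s, hs⟩, le_normalizer hθ⟩ : (Nm Θ).subgroupOf N) ∈ _ from hθ)))
  · have : j z ∈ Θ := subgroupOf_eq_top.1 k' (show (⟨j z, PE zP⟩ : N) ∈ _ from h2 (PC zP))
    have := ho.of_dvd_nat (orderOf_dvd_natCard _ this)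
    rw [oz] at this
    exact absurd this (by decide)

end Eg

end CfsgLib.Fi64
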