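import Mathlib
import Cfsg.Agent.Lib.Fi64.Mo

/-! A faithful module of order `64` for `Sp₆(2)`: transvections (project E64, plans/E64.md). -/

set_option autoImplicit false
set_option maxRecDepth 100000
set_option Elab.async false

namespace CfsgLib.Fi64

open Subgroup Cfsg CfsgLib.W2 CfsgLib.Tech CfsgLib.PComp
open CfsgLib.S86 (E64 SM e1 f1 e2 f2 e3 f3 bf sa tv oc t1)
open CfsgLib.Parr (P0 V0 vc lin mp idM Act Gam Gam0 L0 U0 OK q0 b0 om t0 v0 sg nC Sg Tst)

namespace Mod1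

open CfsgLib.S86 (t2 t3 β1 β2 β3 s12 s13 s23)

noncomputable section

abbrev Z3 : Type := Multiplicative (ZMod 3)

/-- the elementary abelian subgroup of order `27` -/
def ph : Z3 × Z3 × Z3 →* SM :=
  MonoidHom.mk' (fun p => β1 ^ p.1.toAdd.val * β2 ^ p.2.1.toAdd.val * β3 ^ p.2.2.toAdd.val) (by decide +kernel)

def cls (p : Z3 × Z3 × Z3) : Fin 4 :=
  (if p.1 = 1 then 0 else 1) + (if p.2.1 = 1 then 0 else 1) + (if p.2.2 = 1 then 0 else 1)

def rep : Fin 4 → SM := ![1, β1, β1 * β2, β1 * β2 * β3]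

theorem ph_cls : ∀ p, ∃ g ∈ [1, t1, t2, t3, t1 * t2, t1 * t3, t2 * t3, t1 * t2 * t3],
    ∃ s ∈ [1, s12, s13, s23], ph p = (g * s) * rep (cls p) * (g * s)⁻¹ := by decide +kernel

theorem sum_cls {B : Type} [Fintype B] (k : B → Fin 4) (G : Fin 4 → ℕ) :
    ∑ b, G (k b) = ∑ j, (Finset.univ.filter (k · = j)).card * G j := by
  rw [← Finset.sum_fiberwise (s := Finset.univ) (g := k)]
  refine Finset.sum_congr rfl fun j _ => ?_
  rw [Finset.sum_congr rfl (g := fun _ => G j) (fun b hb => by rw [(Finset.mem_filter.1 hb).2]),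
    Finset.sum_const, smul_eq_mul]

variable {V : Type*} [CommGroup V]

/-- `v ↦ v · σ v` -/
def dl (σ : MulAut V) : V →* V :=
  MonoidHom.mk' (fun v => v * σ v) fun a b => by rw [map_mul, mul_mul_mul_comm]

theorem dl_apply (σ : MulAut V) (v : V) : dl σ v = v * σ v := rfl

/-- number of fixed points -/
def fc (σ : MulAut V) : ℕ := Nat.card {v // σ v = v}

theorem mem_ker_dl (h2 : ∀ v : V, v * v = 1) {σ : MulAut V} {v : V} : v ∈ (dl σ).ker ↔ σ v = v := by
  rw [MonoidHom.mem_ker, dl_apply, ← h2 v, mul_right_inj]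

theorem card_ker (h2 : ∀ v : V, v * v = 1) (σ : MulAut V) : Nat.card (dl σ).ker = fc σ :=
  Nat.card_congr (Equiv.subtypeEquivRight fun _ => mem_ker_dl h2)

theorem fc_conj (g σ : MulAut V) : fc (g * σ * g⁻¹) = fc σ :=
  (Nat.card_congr (Equiv.subtypeEquiv g.toEquiv fun v => by
    simp [MulAut.mul_apply])).symm

theorem burn [Finite V] {B : Type} [Group B] [Fintype B] (ψ : B →* MulAut V) :
    Fintype.card B ∣ ∑ b, fc (ψ b) := by
  classical
  let : MulAction B V := MulAction.compHom V ψ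
  let : ∀ g : B, Fintype (MulAction.fixedBy V g) := fun _ => Fintype.ofFinite _
  let : Fintype (Quotient (MulAction.orbitRel B V)) := Fintype.ofFinite _
  have h := MulAction.sum_card_fixedBy_eq_card_orbits_mul_card_group B V
  have e : ∀ b : B, Fintype.card (MulAction.fixedBy V b) = fc (ψ b) := fun b => by
    rw [← Nat.card_eq_fintype_card]; rfl
  simp only [e] at h
  exact h ▸ Dvd.intro_left _ rfl

theorem burn' [Finite V] (ρ : SM →* MulAut V) {B : Type} [Group B] [Fintype B] (ι : B →* Z3 × Z3 × Z3)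
    {n a b c d : ℕ} (hn : Fintype.card B = n)
    (h : (fun j => (Finset.univ.filter (fun x => cls (ι x) = j)).card) = ![a, b, c, d]) :
    n ∣ a * fc (ρ 1) + b * fc (ρ β1) + c * fc (ρ (β1 * β2)) + d * fc (ρ (β1 * β2 * β3)) := by
  have k := burn (ρ.comp (ph.comp ι))
  have e : ∀ x, fc ((ρ.comp (ph.comp ι)) x) = fc (ρ (rep (cls (ι x)))) := fun x => by
    obtain ⟨g, -, s, -, e⟩ := ph_cls (ι x)
    rw [MonoidHom.comp_apply, MonoidHom.comp_apply, e, map_mul, map_mul, map_inv, fc_conj]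
  simp only [e] at k
  rw [sum_cls (fun x => cls (ι x)) (fun j => fc (ρ (rep j))), hn, Fin.sum_univ_four, congrFun h 0, congrFun h 1,
    congrFun h 2, congrFun h 3] at k
  exact k

theorem fc_mem [Finite V] (h2 : ∀ v : V, v * v = 1) (hc : Nat.card V = 64) {σ : MulAut V} (h : σ ≠ 1) :
    fc σ ∈ [1, 2, 4, 8, 16, 32] := by
  have h1 : fc σ ∣ 64 := by rw [← card_ker h2, ← hc]; exact card_subgroup_dvd_card _
  have h3 : fc σ ≠ 64 := fun e => h (MulEquiv.ext fun v => (mem_ker_dl h2).1 (by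
    rw [eq_top_of_card_eq (dl σ).ker ((card_ker h2 σ).trans (e.trans hc.symm))]; trivial))
  have h4 := Nat.le_of_dvd (by norm_num) h1
  revert h1 h3
  generalize fc σ = n at h4
  interval_cases n <;> decide

theorem counts [Finite V] (h2 : ∀ v : V, v * v = 1) (hc : Nat.card V = 64) (ρ : SM →* MulAut V)
    (hρ : Function.Injective ρ) : fc (ρ β1) = 16 ∧ fc (ρ (β1 * β2 * β3)) = 1 := by
  have ne : ∀ g : SM, g ≠ 1 → ρ g ≠ 1 := fun g hg e => hg (hρ (e.trans (map_one ρ).symm))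
  have hx := fc_mem h2 hc (ne β1 (by decide +kernel))
  have hy := fc_mem h2 hc (ne (β1 * β2) (by decide +kernel))
  have hw := fc_mem h2 hc (ne (β1 * β2 * β3) (by decide +kernel))
  have h0 : fc (ρ 1) = 64 := by
    rw [map_one, ← hc]; exact Nat.card_congr (Equiv.subtypeUnivEquiv fun _ => rfl)
  have k1 := burn' ρ (MonoidHom.inl Z3 (Z3 × Z3)) (n := 3) (a := 1) (b := 2) (c := 0) (d := 0) rfl (by decide +kernel)
  have k2 := burn' ρ ((MonoidHom.id Z3).prod (MonoidHom.inl Z3 Z3)) (n := 3) (a := 1) (b := 0) (c := 2) (d := 0) rfl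
    (by decide +kernel)
  have k3 := burn' ρ ((MonoidHom.id Z3).prod ((MonoidHom.id Z3).prod (MonoidHom.id Z3))) (n := 3) (a := 1) (b := 0)
    (c := 0) (d := 2) rfl (by decide +kernel)
  have k4 := burn' ρ ((MonoidHom.id Z3).prodMap (MonoidHom.inl Z3 Z3)) (n := 9) (a := 1) (b := 4) (c := 4) (d := 0)
    rfl (by decide +kernel)
  have k5 := burn' ρ (MonoidHom.id _) (n := 27) (a := 1) (b := 6) (c := 12) (d := 8) rfl (by decide +kernel)
  rw [h0] at k1 k2 k3 k4 k5
  generalize fc (ρ β1) = x at *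
  generalize fc (ρ (β1 * β2)) = y at *
  generalize fc (ρ (β1 * β2 * β3)) = w at *
  simp only [List.mem_cons, List.not_mem_nil, or_false] at hx hy hw
  omega

theorem card_range [Finite V] (h2 : ∀ v : V, v * v = 1) (hc : Nat.card V = 64) {σ : MulAut V} (h : fc σ = 16) :
    Nat.card (dl σ).range = 4 := by
  have k := (dl σ).ker.card_mul_index
  rw [index_ker, card_ker h2, h, hc] at k
  omega

theorem cube {σ : MulAut V} (h3 : σ ^ 3 = 1) (v : V) : σ (σ (σ v)) = v := by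
  have := congrArg (fun τ : MulAut V => τ v) h3
  simpa [pow_succ] using this

/-- an automorphism of order `3` has no fixed point on `[V, σ]` -/
theorem fpf (h2 : ∀ v : V, v * v = 1) {σ : MulAut V} (h3 : σ ^ 3 = 1) {w : V} (hw : w ∈ (dl σ).range)
    (h : σ w = w) : w = 1 := by
  obtain ⟨v, rfl⟩ := hw
  have k : dl σ v * σ (dl σ v) * σ (σ (dl σ v)) = 1 := by
    simp only [dl_apply, map_mul, cube h3]
    calc _ = (v * v) * (σ v * σ v) * (σ (σ v) * σ (σ v)) := by ac_rfl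
      _ = 1 := by simp only [h2]
  rwa [h, h, h2, one_mul] at k

/-- an involution has a fixed point on an invariant nontrivial subgroup -/
theorem inv_fix (h2 : ∀ v : V, v * v = 1) {t : MulAut V} (ht : t * t = 1) {W : Subgroup V} (hW : Nat.card W = 4)
    (hn : ∀ w ∈ W, t w ∈ W) : ∃ u ∈ W, u ≠ 1 ∧ t u = u := by
  have : W ≠ ⊥ := by rintro rfl; simp at hW
  obtain ⟨⟨w, hw⟩, h1⟩ := (ne_bot_iff_exists_ne_one).1 this
  have h1' : w ≠ 1 := fun e => h1 (Subtype.ext e)
  by_cases e : t w = w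
  · exact ⟨w, hw, h1', e⟩
  · refine ⟨w * t w, mul_mem hw (hn w hw), fun h => e ((mem_ker_dl h2).1 h), ?_⟩
    rw [map_mul, ← MulAut.mul_apply, ht, MulAut.one_apply, mul_comm]

theorem triv [Finite V] (h2 : ∀ v : V, v * v = 1) {t σ : MulAut V} (ht : t * t = 1) (h3 : σ ^ 3 = 1)
    (hc : Commute t σ) (hW : Nat.card (dl σ).range = 4) (v : V) : t (dl σ v) = dl σ v := by
  classical
  have c : ∀ v, t (σ v) = σ (t v) := fun v => by rw [← MulAut.mul_apply, hc.eq, MulAut.mul_apply]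
  obtain ⟨u, hu, h1, h⟩ := inv_fix h2 ht hW (by
    rintro _ ⟨v, rfl⟩; exact ⟨t v, by simp only [dl_apply, map_mul, c]⟩)
  have hu' : σ u ∈ (dl σ).range := by
    obtain ⟨v, rfl⟩ := hu; exact ⟨σ v, by simp only [dl_apply, map_mul]⟩
  have n1 : σ u ≠ u := fun e => h1 (fpf h2 h3 hu e)
  have n2 : σ u ≠ 1 := fun e => h1 (by simpa using e)
  set K := (dl t).ker ⊓ (dl σ).range with hK
  have hd : Nat.card K ∣ 4 := hW ▸ card_dvd_of_le inf_le_right
  have h3' : 3 ≤ Nat.card K := by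
    have m1 : u ∈ K := ⟨(mem_ker_dl h2).2 h, hu⟩
    have m2 : σ u ∈ K := ⟨(mem_ker_dl h2).2 (by rw [c, h]), hu'⟩
    have : ({1, u, σ u} : Finset V).card = 3 := Finset.card_eq_three.2 ⟨1, u, σ u, h1.symm, n2.symm, n1.symm, rfl⟩
    rw [← this, ← Set.ncard_coe_finset]
    refine Set.ncard_le_ncard (t := (K : Set V)) ?_
    intro x hx
    simp only [Finset.coe_insert, Finset.coe_singleton, Set.mem_insert_iff, Set.mem_singleton_iff] at hx
    rcases hx with rfl | rfl | rfl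
    exacts [K.one_mem, m1, m2]
  have h4 : Nat.card K = 4 := by
    have := Nat.le_of_dvd (by norm_num) hd
    interval_cases Nat.card K
    · exact absurd hd (by decide)
    · rfl
  have e : K = (dl σ).range := eq_of_le_of_card_ge inf_le_right (by omega)
  exact (mem_ker_dl h2).1 (show dl σ v ∈ K from e ▸ ⟨v, rfl⟩).1

/-- the norm map -/
def nm (σ : MulAut V) (v : V) : V := v * σ v * σ (σ v)

theorem nm_dec (h2 : ∀ v : V, v * v = 1) (σ : MulAut V) (v : V) : v = nm σ v * dl σ (σ v) := by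
  rw [nm, dl_apply, mul_assoc v, mul_assoc v, h2, mul_one]

theorem nm_fix {σ : MulAut V} (h3 : σ ^ 3 = 1) (v : V) : σ (nm σ v) = nm σ v := by
  simp only [nm, map_mul, cube h3]; ac_rfl

theorem nm_fix' {σ τ : MulAut V} (hc : Commute τ σ) {v : V} (h : τ v = v) : τ (nm σ v) = nm σ v := by
  have c : ∀ v, τ (σ v) = σ (τ v) := fun v => by rw [← MulAut.mul_apply, hc.eq, MulAut.mul_apply]
  simp only [nm, map_mul, c, h]

theorem transv' [Finite V] (h2 : ∀ v : V, v * v = 1) (hc : Nat.card V = 64) (ρ : SM →* MulAut V)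
    (hρ : Function.Injective ρ) : ∃ c : V, ∀ v, ρ t1 v = v ∨ ρ t1 v = v * c := by
  obtain ⟨hx, hw⟩ := counts h2 hc ρ hρ
  have x2 : fc (ρ β2) = 16 := by
    rw [show β2 = s12 * β1 * s12⁻¹ by decide +kernel, map_mul, map_mul, map_inv, fc_conj, hx]
  have x3 : fc (ρ β3) = 16 := by
    rw [show β3 = s13 * β1 * s13⁻¹ by decide +kernel, map_mul, map_mul, map_inv, fc_conj, hx]
  have cb : ∀ g : SM, g ^ 3 = 1 → ρ g ^ 3 = 1 := fun g h => by rw [← map_pow, h, map_one]
  have c1 := cb β1 (by decide +kernel)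
  have c2 := cb β2 (by decide +kernel)
  have c3 := cb β3 (by decide +kernel)
  have ht : ρ t1 * ρ t1 = 1 := by rw [← map_mul, show t1 * t1 = 1 by decide +kernel, map_one]
  have T2 := triv h2 ht c2 ((by decide +kernel : Commute t1 β2).map ρ) (card_range h2 hc x2)
  have T3 := triv h2 ht c3 ((by decide +kernel : Commute t1 β3).map ρ) (card_range h2 hc x3)
  have c12 : Commute (ρ β1) (ρ β2) := (by decide +kernel : Commute β1 β2).map ρ
  have c13 : Commute (ρ β1) (ρ β3) := (by decide +kernel : Commute β1 β3).map ρ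
  have c23 : Commute (ρ β2) (ρ β3) := (by decide +kernel : Commute β2 β3).map ρ
  have W1 := card_range h2 hc hx
  set W := (dl (ρ β1)).range with hW
  -- every `v · t v` comes from `W`
  have dec : ∀ v, dl (ρ t1) v ∈ W.map (dl (ρ t1)) := fun v => by
    have z : nm (ρ β3) (nm (ρ β2) (nm (ρ β1) v)) = 1 := by
      have f1 := nm_fix' c13 (nm_fix' c12 (nm_fix c1 v))
      have f2 := nm_fix' c23 (nm_fix c2 (nm (ρ β1) v))
      have f3 := nm_fix c3 (nm (ρ β2) (nm (ρ β1) v))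
      have : (dl (ρ (β1 * β2 * β3))).ker = ⊥ := card_eq_one.1 ((card_ker h2 _).trans hw)
      rw [← mem_bot, ← this, mem_ker_dl h2, map_mul, map_mul, MulAut.mul_apply, MulAut.mul_apply, f3, f2, f1]
    have e1 := nm_dec h2 (ρ β1) v
    have e2 := nm_dec h2 (ρ β2) (nm (ρ β1) v)
    have e3 := nm_dec h2 (ρ β3) (nm (ρ β2) (nm (ρ β1) v))
    rw [z, one_mul] at e3
    refine ⟨dl (ρ β1) (ρ β1 v), ⟨_, rfl⟩, ?_⟩
    have k : dl (ρ t1) (nm (ρ β1) v) = 1 := by
      rw [e2, e3, map_mul, (mem_ker_dl h2).2 (T2 _), (mem_ker_dl h2).2 (T3 _), one_mul]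
    conv_rhs => rw [e1, map_mul, k, one_mul]
  obtain ⟨u, hu, h1, h⟩ := inv_fix h2 ht W1 (by
    rintro _ ⟨v, rfl⟩
    refine ⟨ρ t1 (ρ β1 v), ?_⟩
    rw [dl_apply, dl_apply, map_mul, mul_comm, ← MulAut.mul_apply, ← MulAut.mul_apply, ← map_mul, ← map_mul,
      show β1 * t1 * β1 = t1 by decide +kernel])
  have hle : Nat.card (W.map (dl (ρ t1))) ≤ 2 := by
    have k := ((dl (ρ t1)).ker.subgroupOf W).card_mul_index
    rw [← relIndex, relIndex_ker, W1] at k
    have : Nat.card ((dl (ρ t1)).ker.subgroupOf W) ≠ 1 := fun e => by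
      have m : (⟨u, hu⟩ : W) ∈ (dl (ρ t1)).ker.subgroupOf W := mem_subgroupOf.2 ((mem_ker_dl h2).2 h)
      rw [card_eq_one.1 e, mem_bot] at m
      exact h1 (congrArg Subtype.val m)
    have := Nat.card_pos (α := (dl (ρ t1)).ker.subgroupOf W)
    nlinarith [show 2 ≤ Nat.card ((dl (ρ t1)).ker.subgroupOf W) by omega]
  have key : ∀ v, ρ t1 v = v * dl (ρ t1) v := fun v => by rw [dl_apply, ← mul_assoc, h2, one_mul]
  by_cases hh : ∀ v, dl (ρ t1) v = 1
  · exact ⟨1, fun v => Or.inl (by rw [key, hh, mul_one])⟩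
  · obtain ⟨v0, h0⟩ := not_forall.1 hh
    refine ⟨dl (ρ t1) v0, fun v => ?_⟩
    by_contra hn
    rw [not_or, key v, mul_eq_left, mul_right_inj] at hn
    classical
    have : ({1, dl (ρ t1) v0, dl (ρ t1) v} : Finset V).card = 3 :=
      Finset.card_eq_three.2 ⟨_, _, _, Ne.symm h0, Ne.symm hn.1, Ne.symm hn.2, rfl⟩
    have k : ({1, dl (ρ t1) v0, dl (ρ t1) v} : Finset V).card ≤ Nat.card (W.map (dl (ρ t1))) := by
      rw [← Set.ncard_coe_finset]
      refine Set.ncard_le_ncard (t := (W.map (dl (ρ t1)) : Set V)) ?_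
      intro x hx
      simp only [Finset.coe_insert, Finset.coe_singleton, Set.mem_insert_iff, Set.mem_singleton_iff] at hx
      rcases hx with rfl | rfl | rfl
      exacts [one_mem _, dec _, dec _]
    omega

end

end Mod1

theorem transv {V : Type*} [Group V] [Finite V] (h2 : ∀ v : V, v * v = 1) (hc : Nat.card V = 64) (ρ : SM →* MulAut V)
    (hρ : Function.Injective ρ) : ∃ c : V, ∀ v, ρ t1 v = v ∨ ρ t1 v = v * c := by
  have hi : ∀ v : V, v⁻¹ = v := fun v => inv_eq_of_mul_eq_one_left (h2 v)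
  let : CommGroup V := { ‹Group V› with mul_comm := fun a b => by rw [← hi (a * b), mul_inv_rev, hi, hi] }
  exact Mod1.transv' h2 hc ρ hρ

end CfsgLib.Fi64
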