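import Mathlib
import Cfsg.Agent.Lib.Fi64.Mod1

/-! A faithful module of order `64` for `Sp₆(2)` is natural (project E64, plans/E64.md). -/

set_option autoImplicit false
set_option maxRecDepth 100000
set_option Elab.async false

namespace CfsgLib.Fi64

open Subgroup Cfsg CfsgLib.W2 CfsgLib.Tech CfsgLib.PComp
open CfsgLib.S86 (E64 SM e1 f1 e2 f2 e3 f3 bf sa tv oc t1)
open CfsgLib.Parr (P0 V0 vc lin mp idM Act Gam Gam0 L0 U0 OK q0 b0 om t0 v0 sg nC Sg Tst)

namespace Mod2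

variable {V : Type*} [Group V] {ρ : SM →* MulAut V}

/-- `c` is the centre of the transvection `ρ (tv w)` -/
def Ct (ρ : SM →* MulAut V) (w : E64) (c : V) : Prop := c ≠ 1 ∧ ∀ u, ρ (tv w) u = u ∨ ρ (tv w) u = u * c

theorem moves (hρ : Function.Injective ρ) {w : E64} (hw : w ≠ 1) : ∃ u, ρ (tv w) u ≠ u := by
  by_contra! h
  exact hw (S86.tv_inj _ _ ((hρ ((MulEquiv.ext h).trans (map_one ρ).symm)).trans S86.tv_one.symm))

theorem Ct.uniq (hρ : Function.Injective ρ) {w : E64} (hw : w ≠ 1) {c c' : V} (h : Ct ρ w c) (h' : Ct ρ w c') : c = c' := by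
  obtain ⟨u, hu⟩ := moves hρ hw
  exact mul_left_cancel (((h.2 u).resolve_left hu).symm.trans ((h'.2 u).resolve_left hu))

theorem Ct.conj {w : E64} {c : V} (h : Ct ρ w c) (g : SM) : Ct ρ (sa g w) (ρ g c) := by
  refine ⟨fun e => h.1 ((ρ g).map_eq_one_iff.1 e), fun u => ?_⟩
  obtain ⟨u, rfl⟩ := (ρ g).surjective u
  have : ρ (tv (sa g w)) (ρ g u) = ρ g (ρ (tv w) u) := by
    rw [← S86.conj_tv, ← MulAut.mul_apply, ← map_mul, inv_mul_cancel_right, map_mul, MulAut.mul_apply]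
  rw [this]
  exact (h.2 u).imp (congrArg _) fun e => by rw [e, map_mul]

theorem exists_psi [Finite V] (h2 : ∀ v : V, v * v = 1) (hc : Nat.card V = 64) (hρ : Function.Injective ρ) :
    ∃ ψ : E64 → V, (∀ w u, ρ (tv w) u = u ∨ ρ (tv w) u = u * ψ w) ∧ ψ 1 = 1 ∧ ∀ m w, ρ m (ψ w) = ψ (sa m w) := by
  have k : ∀ w : E64, ∃ c : V, (w = 1 → c = 1) ∧ (w ≠ 1 → Ct ρ w c) := fun w => by
    by_cases hw : w = 1
    · exact ⟨1, fun _ => rfl, fun h => absurd hw h⟩
    obtain ⟨c, h⟩ := transv h2 hc ρ hρ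
    rw [S86.vals.1] at h
    have h1 : e1 ≠ 1 := by decide +kernel
    obtain ⟨g, rfl⟩ := S86.witt1 h1 hw
    refine ⟨_, fun e => absurd e hw, fun _ => Ct.conj ⟨fun e => ?_, h⟩ g⟩
    obtain ⟨u, hu⟩ := moves hρ h1
    exact hu ((h u).elim id fun e' => by rw [e', e, mul_one])
  choose ψ k1 k2 using k
  refine ⟨ψ, fun w u => ?_, k1 1 rfl, fun m w => ?_⟩
  · by_cases hw : w = 1
    · rw [hw, S86.tv_one, map_one]; exact .inl rfl
    · exact (k2 w hw).2 u
  · by_cases hw : w = 1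
    · rw [hw, S86.sa_one, k1 1 rfl, map_one]
    · have h1 : sa m w ≠ 1 := fun e => hw (S86.sa_inj m (e.trans (S86.sa_one m).symm))
      exact Ct.uniq hρ h1 ((k2 w hw).conj m) (k2 _ h1)

end Mod2

theorem natural {V : Type*} [Group V] [Finite V] (h2 : ∀ v : V, v * v = 1) (hc : Nat.card V = 64) (ρ : SM →* MulAut V)
    (hρ : Function.Injective ρ) : ∃ ψ : E64 ≃* V, ∀ m v, ρ m (ψ v) = ψ (sa m v) := by
  obtain ⟨ψ, k1, k2, k3⟩ := Mod2.exists_psi h2 hc hρ
  have hm : ∀ a b : V, a * b = b * a := fun a b => by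
    rw [← inv_eq_of_mul_eq_one_right (h2 (a * b)), mul_inv_rev, inv_eq_of_mul_eq_one_right (h2 a),
      inv_eq_of_mul_eq_one_right (h2 b)]
  have : Std.Commutative (α := V) (· * ·) := ⟨hm⟩
  have n1 : ∀ u v, bf u v = true → ψ u ≠ ψ v := fun u v h e => by
    have a1 : ρ (tv u) (ψ u) = ψ u := by rw [k3, S86.Wt.tv_fix (S86.bf_self u)]
    have a2 : ρ (tv v) (ψ u) = ψ u := by rw [e, k3, S86.Wt.tv_fix (S86.bf_self v)]
    have a3 : Commute (tv u) (tv v) := hρ (MulEquiv.ext fun x => by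
      rw [map_mul, map_mul, MulAut.mul_apply, MulAut.mul_apply]
      rcases k1 u x with b1 | b1 <;> rcases k1 v x with b2 | b2 <;> simp only [← e, b1, b2, map_mul, a1, a2] at *)
    rw [(S86.tv_comm u v).1 a3] at h
    exact absurd h (by decide)
  have n2 : ∀ u v w, bf u w = true → bf v w = false → ψ u ≠ ψ v := fun u v w h h' e => by
    refine n1 (u * w) u (by rw [S86.bf_mul, S86.bf_self, S86.bf_comm, h]; rfl) ?_
    have := k3 (tv w) u
    rw [S86.sa_tv, if_pos h] at this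
    rw [← this, e, k3, S86.Wt.tv_fix h']
  have inj : Function.Injective ψ := fun u v e => S86.bf_ext fun w => by
    cases h : bf u w <;> cases h' : bf v w
    exacts [rfl, absurd e.symm (n2 v u w h' h), absurd e (n2 u v w h h'), rfl]
  have bij : Function.Bijective ψ := (Nat.bijective_iff_injective_and_card ψ).2 ⟨inj, by rw [hc]; exact TG.card_eq⟩
  have n3 : ∀ u w, ρ (tv w) (ψ u) = ψ u * cond (bf u w) (ψ w) 1 := fun u w => by
    cases h : bf u w
    · rw [k3, S86.Wt.tv_fix h, cond_false, mul_one]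
    · refine (k1 w _).resolve_left fun e => ?_
      rw [k3, S86.sa_tv, if_pos h] at e
      rw [mul_eq_left.1 (inj e), S86.bf_one] at h
      exact absurd h (by decide)
  have n4 : ∀ x, (∀ w, ρ (tv w) x = x) → x = 1 := fun x h => by
    obtain ⟨y, rfl⟩ := bij.2 x
    rw [(by decide +kernel : ∀ y : E64, (∀ w, sa (tv w) y = y) → y = 1) y fun w => inj ((k3 _ _).symm.trans (h w)), k2]
  refine ⟨MulEquiv.ofBijective (MonoidHom.mk' ψ fun u v => ?_) bij, k3⟩
  refine mul_right_cancel ((h2 _).trans (n4 _ fun w => ?_).symm)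
  rw [map_mul, map_mul, n3, n3, n3, S86.bf_mul]
  have n5 : ∀ a b e c : V, a * c * (b * c) * (e * 1) = a * b * e ∧ a * c * (b * 1) * (e * c) = a * b * e ∧
      a * 1 * (b * c) * (e * c) = a * b * e := fun a b e c => by
    refine ⟨?_, ?_, ?_⟩ <;> rw [mul_one, ← mul_one (a * b * e), ← h2 c] <;> ac_rfl
  cases bf u w <;> cases bf v w
  exacts [by simp, (n5 _ _ _ _).2.2, (n5 _ _ _ _).2.1, (n5 _ _ _ _).1]

end CfsgLib.Fi64
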