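import Mathlib
import Cfsg.Agent.Lib.Fi64.Defs
import Cfsg.Agent.Lib.Fi64.MT
import Cfsg.Agent.Lib.Fi64.Mod2

/-! Construction of the setting (project E64, plans/E64.md). -/

set_option autoImplicit false
set_option maxRecDepth 100000
set_option Elab.async false

namespace CfsgLib.Fi64

open Subgroup Cfsg CfsgLib.W2 CfsgLib.Tech CfsgLib.PComp
open CfsgLib.S86 (E64 SM e1 f1 e2 f2 e3 f3 bf sa tv oc t1)
open CfsgLib.Parr (P0 V0 vc lin mp idM Act Gam Gam0 L0 U0 OK q0 b0 om t0 v0 sg nC Sg Tst)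

variable {G : Type*} [Group G] [Finite G]

/-- a `2`-subgroup lifts along a surjection whose kernel has odd order -/
theorem exists_section {N X : Type*} [Group N] [Finite N] [Group X] (φ : N →* X) (hs : Function.Surjective φ)
    (hk : ∀ n, φ n = 1 → Odd (orderOf n)) {T : Subgroup X} (hT : IsPGroup 2 T) {B : Subgroup N} (hB : IsPGroup 2 B)
    (hBT : ∀ b ∈ B, φ b ∈ T) :
    ∃ j : X → N, (∀ x ∈ T, ∀ y ∈ T, j (x * y) = j x * j y) ∧ (∀ x ∈ T, φ (j x) = x) ∧ ∀ b ∈ B, j (φ b) = b := by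
  classical
  let φ' : T.comap φ →* T := φ.subgroupComap T
  have hs' : Function.Surjective φ' := fun ⟨x, hx⟩ => by
    obtain ⟨n, rfl⟩ := hs x
    exact ⟨⟨n, hx⟩, rfl⟩
  obtain ⟨P, hP⟩ := (hB.comap_subtype (K := T.comap φ)).exists_le_sylow
  have htop : (P : Subgroup (T.comap φ)).map φ' = ⊤ :=
    ((P.mapSurjective hs').3 (hT.to_subgroup ⊤) le_top).symm
  let χ : P →* T := φ'.comp (P : Subgroup (T.comap φ)).subtype
  have hi : Function.Injective χ := (injective_iff_map_eq_one _).2 fun a ha => by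
    obtain ⟨k, hk'⟩ := IsPGroup.iff_orderOf.1 P.2 a
    have o : Odd (orderOf a) := by
      have := hk a.1.1 (congrArg Subtype.val ha)
      rwa [orderOf_coe, orderOf_coe] at this
    rw [hk'] at o
    rcases k with _ | k
    · exact orderOf_eq_one_iff.1 hk'
    · exact absurd o (by simp [Nat.odd_pow_iff])
  have hu : Function.Surjective χ := fun t => by
    obtain ⟨p, hp, e⟩ : t ∈ (P : Subgroup (T.comap φ)).map φ' := htop ▸ mem_top t
    exact ⟨⟨p, hp⟩, e⟩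
  let E := MulEquiv.ofBijective χ ⟨hi, hu⟩
  refine ⟨fun x => if h : x ∈ T then (E.symm ⟨x, h⟩).1.1 else 1, fun x hx y hy => ?_, fun x hx => ?_, fun b hb => ?_⟩
  · simp only [dif_pos hx, dif_pos hy, dif_pos (mul_mem hx hy)]
    exact congrArg (fun p : P => p.1.1) (E.symm.map_mul ⟨x, hx⟩ ⟨y, hy⟩)
  · simp only [dif_pos hx]
    exact congrArg Subtype.val (E.apply_symm_apply ⟨x, hx⟩)
  · simp only [dif_pos (hBT b hb)]
    exact congrArg (fun p : P => p.1.1) (E.symm_apply_apply ⟨⟨b, hBT b hb⟩, hP hb⟩)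

theorem exists_sit (hO : Cfsg.oddCore G = ⊥) {F : Type*} [Field F] [Fintype F] (hF : Fintype.card F = 2)
    (A : Subgroup G) (hA : Cfsg.IsElementaryAbelian 2 A) (hA64 : Nat.card ↥A = 64)
    (hC : Cfsg.IsInternalDirectProduct ((Cfsg.oddCore ↥(Subgroup.normalizer (A : Set G))).map (Subgroup.normalizer (A : Set G)).subtype) A
      (Subgroup.centralizer (A : Set G)))
    [hn : ((Subgroup.centralizer (A : Set G)).subgroupOf (Subgroup.normalizer (A : Set G))).Normal]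
    (e : (↥(Subgroup.normalizer (A : Set G)) ⧸ (Subgroup.centralizer (A : Set G)).subgroupOf (Subgroup.normalizer (A : Set G))) ≃* Cfsg.PSp 3 F)
    (hsplit : ∃ K : Subgroup G, K ≤ Subgroup.normalizer (A : Set G) ∧
      K ⊔ ((Cfsg.oddCore ↥(Subgroup.normalizer (A : Set G))).map (Subgroup.normalizer (A : Set G)).subtype ⊔ A) = Subgroup.normalizer (A : Set G) ∧
      K ⊓ ((Cfsg.oddCore ↥(Subgroup.normalizer (A : Set G))).map (Subgroup.normalizer (A : Set G)).subtype ⊔ A) =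
        (Cfsg.oddCore ↥(Subgroup.normalizer (A : Set G))).map (Subgroup.normalizer (A : Set G)).subtype) :
    ∃ π j, Sit A π j := by
  classical
  obtain ⟨K, hKN, hK1, hK2⟩ := hsplit
  obtain ⟨hOC, hAC, -, hOA, hCe⟩ := hC
  obtain ⟨ι⟩ := S86.exists_iso hF
  generalize hOd : (Cfsg.oddCore ↥(Subgroup.normalizer (A : Set G))).map (Subgroup.normalizer (A : Set G)).subtype = O
    at hK1 hK2 hOC hOA hCe
  have hodd : ∀ g ∈ O, Odd (orderOf g) := fun g hg => by
    obtain ⟨n, hn, rfl⟩ := hOd ▸ hg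
    have := (Core.odd_card_oddCore (Nm A)).of_dvd_nat (orderOf_dvd_natCard _ hn)
    rwa [← orderOf_coe] at this
  -- the linear part
  let lam : Nm A →* SM := ι.symm.toMonoidHom.comp (e.toMonoidHom.comp (QuotientGroup.mk' _))
  have lams : Function.Surjective lam :=
    ι.symm.surjective.comp (e.surjective.comp (QuotientGroup.mk'_surjective _))
  have lamk : ∀ n, lam n = 1 ↔ n.1 ∈ Ce A := fun n => by
    change ι.symm (e (QuotientGroup.mk n)) = 1 ↔ _
    rw [MulEquiv.map_eq_one_iff, MulEquiv.map_eq_one_iff, QuotientGroup.eq_one_iff, mem_subgroupOf]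
  have cjk : ∀ n, A.normalizerMonoidHom n = 1 ↔ n.1 ∈ Ce A := fun n => by
    rw [← MonoidHom.mem_ker, normalizerMonoidHom_ker, mem_subgroupOf]
  let ρ : SM →* MulAut A := lam.liftOfSurjective lams
    ⟨A.normalizerMonoidHom, fun n h => (cjk n).2 ((lamk n).1 h)⟩
  have ρl : ∀ n, ρ (lam n) = A.normalizerMonoidHom n := fun n =>
    lam.liftOfRightInverse_comp_apply _ _ _ n
  have ρi : Function.Injective ρ := (injective_iff_map_eq_one _).2 fun m hm => by
    obtain ⟨n, rfl⟩ := lams m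
    exact (lamk n).2 ((cjk n).1 (ρl n ▸ hm))
  obtain ⟨ψ, hψ⟩ := natural (fun v : A => Subtype.ext (by simpa [pow_two] using hA.2 v v.2)) hA64 ρ ρi
  have hψ' : ∀ (n : Nm A) (v : E64), (n.1 * ψ v * n.1⁻¹ : G) = ψ (sa (lam n) v) := fun n v => by
    rw [← hψ, ρl]; rfl
  -- the translation part
  have hOK : O ≤ K := hK2 ▸ inf_le_left
  have hdec : ∀ n : Nm A, ∃ v : E64, ((ψ v : G))⁻¹ * n ∈ K := fun n => by
    have h1 : (n : G) ∈ A ⊔ K := by
      have : Nm A ≤ A ⊔ K := hK1.ge.trans (sup_le le_sup_right (sup_le (hOK.trans le_sup_right) le_sup_left))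
      exact this n.2
    have h2 : (n : G) ∈ (↑(A ⊔ K) : Set G) := h1
    rw [coe_mul_of_right_le_normalizer_left _ _ hKN] at h2
    obtain ⟨a, ha, k, hk, e⟩ := h2
    refine ⟨ψ.symm ⟨a, ha⟩, ?_⟩
    rw [MulEquiv.apply_symm_apply, ← e]
    simpa using hk
  have huq : ∀ (g : G) (u v : E64), ((ψ u : G))⁻¹ * g ∈ K → ((ψ v : G))⁻¹ * g ∈ K → u = v := fun g u v hu hv => by
    have h1 : ((ψ u : G))⁻¹ * ψ v ∈ K := by simpa [mul_assoc] using mul_mem hu (inv_mem hv)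
    have h2 : ((ψ u : G))⁻¹ * ψ v ∈ A := mul_mem (inv_mem (ψ u).2) (ψ v).2
    have h3 : ((ψ u : G))⁻¹ * ψ v ∈ O ⊓ A := ⟨hK2 ▸ ⟨h1, mem_sup_right h2⟩, h2⟩
    rw [hOA, mem_bot, inv_mul_eq_one] at h3
    exact ψ.injective (Subtype.ext h3)
  choose α hα using hdec
  have hAN : A ≤ Nm A := le_normalizer
  have lamA : ∀ v, lam ⟨ψ v, hAN (ψ v).2⟩ = 1 := fun v => (lamk _).2 (hAC (ψ v).2)
  have αm : ∀ n n', α (n * n') = α n * sa (lam n) (α n') := fun n n' => by
    refine huq _ _ _ (hα _) ?_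
    have c := hψ' (⟨ψ (α n), hAN (ψ _).2⟩⁻¹ * n) (α n')
    rw [map_mul, map_inv, lamA, inv_one, one_mul] at c
    rw [map_mul, coe_mul, ← c]
    convert mul_mem (hα n) (hα n') using 1
    simp only [coe_mul, coe_inv]
    group
  let φ : Nm A →* M := MonoidHom.mk' (fun n => ⟨α n, lam n⟩) fun a b => M.ext (αm a b) (map_mul lam a b)
  have φA : ∀ v, φ ⟨ψ v, hAN (ψ v).2⟩ = tr v := fun v =>
    M.ext (huq _ _ v (hα _) (by simp)) (lamA v)
  have φs : Function.Surjective φ := fun m => by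
    obtain ⟨n, hn⟩ := lams m.l
    refine ⟨⟨ψ (m.a * (α n)⁻¹), hAN (ψ _).2⟩ * n, ?_⟩
    rw [map_mul, φA]
    refine M.ext ?_ ((one_mul _).trans hn)
    change m.a * (α n)⁻¹ * sa 1 (α n) = m.a
    rw [S86.one_sa, inv_mul_cancel_right]
  have φk : ∀ n, φ n = 1 → Odd (orderOf n) := fun n h => by
    have h1 := hα n
    rw [show α n = 1 from congrArg M.a h, map_one, coe_one, inv_one, one_mul] at h1
    have h2 : n.1 ∈ O := hK2 ▸ ⟨h1, hCe.ge ((lamk n).1 (congrArg M.l h))⟩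
    exact orderOf_coe n ▸ hodd _ h2
  have hA2 : IsPGroup 2 A := fun a => ⟨1, Subtype.ext (by simpa using hA.2 a a.2)⟩
  have hmem : ∀ b ∈ A.subgroupOf (Nm A), ∃ v, b = ⟨ψ v, hAN (ψ v).2⟩ := fun b hb =>
    ⟨ψ.symm ⟨b, hb⟩, Subtype.ext (by rw [MulEquiv.apply_symm_apply])⟩
  obtain ⟨j, j1, j2, j3⟩ := exists_section φ φs φk pg_T (B := A.subgroupOf (Nm A)) hA2.comap_subtype
    fun b hb => by obtain ⟨v, rfl⟩ := hmem b hb; exact φA v ▸ tr_mem v
  have jA : ∀ v, (j (tr v) : G) = ψ v := fun v => by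
    rw [← φA, j3 _ (ψ v).2]
  refine ⟨fun g => if h : g ∈ Nm A then φ ⟨g, h⟩ else 1, fun x => j x, hO, fun n h n' h' => ?_, fun m => ?_,
    fun n h h1 => ?_, fun x hx y hy => congrArg Subtype.val (j1 x hx y hy), fun x _ => (j x).2, fun x hx => ?_, ?_⟩
  · simp only [dif_pos h, dif_pos h', dif_pos (mul_mem h h')]
    exact φ.map_mul ⟨n, h⟩ ⟨n', h'⟩
  · obtain ⟨n, hn⟩ := φs m
    exact ⟨n, n.2, by simp only [dif_pos n.2]; exact hn⟩
  · simp only [dif_pos h] at h1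
    exact orderOf_coe (⟨n, h⟩ : Nm A) ▸ φk _ h1
  · simp only [dif_pos (j x).2]
    exact j2 x hx
  · unfold J
    refine le_antisymm (fun a ha => Subgroup.subset_closure ?_) ((closure_le _).2 ?_)
    · refine ⟨tr (ψ.symm ⟨a, ha⟩), ⟨mem_Ab.2 ⟨_, rfl⟩, tr_mem _⟩, ?_⟩
      simp only [jA, MulEquiv.apply_symm_apply]
    · rintro _ ⟨x, hx, rfl⟩
      obtain ⟨v, rfl⟩ := mem_Ab.1 hx.1
      simp only [jA]
      exact (ψ v).2

end CfsgLib.Fi64
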