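import Mathlib
import Cfsg.Agent.Lib.Fi64.Cz
import Cfsg.Agent.Lib.W2.Fpf

/-! The signalizer functor (project E64, plans/E64.md). -/

set_option autoImplicit false
set_option maxRecDepth 100000
set_option Elab.async false

namespace CfsgLib.Fi64

open Subgroup Cfsg CfsgLib.W2 CfsgLib.Tech CfsgLib.PComp
open CfsgLib.S86 (E64 SM e1 f1 e2 f2 e3 f3 bf sa tv oc t1)
open CfsgLib.Parr (P0 V0 vc lin mp idM Act Gam Gam0 L0 U0 OK q0 b0 om t0 v0 sg nC Sg Tst)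

variable {G : Type*} [Group G] [Finite G]

namespace Eg

variable {A P : Subgroup G} {π : G → M} {j : M → G} {f : G → P0} {b : G} (E : Eg A π j f b P)
include E

theorem theta : ∃ Θ : Subgroup G, Odd (Nat.card Θ) ∧ opOf 2 (Cx (j z)) ≤ Θ ∧ Nm A ≤ Nm Θ ∧ Cx (j z) ≤ Nm Θ := by
  have S := E.toSit
  have mA : ∀ v, j (tr v) ∈ A := fun v => S.mem_A.2 ⟨v, rfl⟩
  have mul : ∀ u v, j (tr (u * v)) = j (tr u) * j (tr v) := fun u v => by rw [tr_mul, S.jm _ (tr_mem u) _ (tr_mem v)]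
  have ne : ∀ v, j (tr v) ≠ 1 ↔ v ≠ 1 := fun v => (S.j_eq_one (tr_mem v)).not.trans
    (not_congr ⟨congrArg M.a, fun e => e ▸ rfl⟩)
  have hc : ∀ a ∈ A, ∀ b ∈ A, a * b = b * a := fun a ha b hb => by
    obtain ⟨u, rfl⟩ := S.mem_A.1 ha
    obtain ⟨v, rfl⟩ := S.mem_A.1 hb
    rw [← mul, ← mul, S86.E_comm]
  have he : ∀ a ∈ A, a * a = 1 := fun a ha => by
    obtain ⟨u, rfl⟩ := S.mem_A.1 ha
    rw [← mul, S86.E_sq]; exact S.j_one
  have cj' : ∀ n a x : G, x ∈ opOf 2 (⊤ ⊓ Cx a) ↔ n * x * n⁻¹ ∈ opOf 2 (⊤ ⊓ Cx (n * a * n⁻¹)) := fun n a x => by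
    rw [← cj_opOf_inf_Cx (mem_normalizer_of_forall fun _ _ => mem_top _), conj_mem_cj]
  have b0 : ∀ a ∈ A, opOf 2 (⊤ ⊓ Cx a) ⊓ Cx (j z) ≤ opOf 2 (⊤ ⊓ Cx (j z)) := fun a ha => by
    rw [top_inf_eq (Cx (j z))]
    refine E.bal (Odd.of_dvd_nat (odd_card_opOf _) (card_dvd_of_le inf_le_left)) inf_le_right fun c hc' =>
      mem_normalizer_of_forall fun x hx => ⟨conj_mem_of_mem_normalizer (le_normalizer_opOf _
        ⟨mem_top _, mem_Cx.2 (hc c hc' a ha)⟩) hx.1, ?_⟩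
    have : c ∈ Cx (j z) := mem_Cx.2 (hc c hc' _ (mA e1))
    exact (Cx (j z)).mul_mem ((Cx (j z)).mul_mem this hx.2) (inv_mem this)
  obtain ⟨ho, hW⟩ := sft_opOf (A := A) (K := ⊤) le_top hc he (by
      rw [S.hA, S.card_J (Ab_le_U.trans U_le_T), card_Ab]; norm_num) fun a ha _ c hc' c1 x hx => by
    obtain ⟨v, rfl⟩ := S.mem_A.1 hc'
    obtain ⟨g, hg⟩ := S86.Wt.to_e1 ((ne v).1 c1)
    obtain ⟨n, hn, e⟩ := S.πs (sy g)
    have e0 : n * j (tr v) * n⁻¹ = j z := by rw [S.conj_A hn, e]; exact congrArg (fun v => j (tr v)) hg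
    rw [cj' n, e0]
    refine b0 _ (conj_mem_of_mem_normalizer hn ha) ⟨(cj' n a x).1 hx.1, mem_Cx.2 ?_⟩
    rw [← e0, conj_mul, conj_mul, mem_Cx.1 hx.2]
  set Θ := Wsup A fun a => opOf 2 (⊤ ⊓ Cx a)
  have hz : opOf 2 (Cx (j z)) ≤ Θ := top_inf_eq (Cx (j z)) ▸ le_Wsup (fun a => opOf 2 (⊤ ⊓ Cx a)) (mA e1) S.zd.2.1
  have hN : Nm A ≤ Nm Θ := fun n hn => mem_normalizer_Wsup (fun a ha => conj_mem_of_mem_normalizer hn ha) fun a _ _ =>
    (cj_opOf_inf_Cx (mem_normalizer_of_forall fun _ _ => mem_top _) a).le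
  have hb : b ∈ Nm Θ := by
    have k : ∀ v, v ≠ 1 → b ∈ Cx (j (tr v)) → Θ ⊓ Cx (j (tr v)) ≤ Θ.comap (MulAut.conj b).toMonoidHom := fun v h1 h2 x hx => by
      rw [hW _ (mA v) ((ne v).2 h1)] at hx
      exact le_Wsup (fun a => opOf 2 (⊤ ⊓ Cx a)) (mA v) ((ne v).2 h1)
        (conj_mem_of_mem_normalizer (le_normalizer_opOf _ ⟨mem_top _, h2⟩) hx)
    have k1 : b ∈ Cx (j (tr e1)) := mem_Cx'.2 ((E.bee 0 (by norm_num)).trans (congrArg j (by decide +kernel)))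
    have k2 : b ∈ Cx (j (tr e2)) := mem_Cx'.2 ((E.bee 1 (by norm_num)).trans (congrArg j (by decide +kernel)))
    have o : ∀ v, v ≠ 1 → orderOf (j (tr v)) = 2 := fun v h => orderOf_eq_prime (by rw [pow_two, he _ (mA v)]) ((ne v).2 h)
    refine mem_normalizer_of_forall fun x hx => le_of_four ho (o e1 (by decide)) (o e2 (by decide))
      (fun e => absurd (S.j_inj (tr_mem _) (tr_mem _) e) (by decide +kernel)) (hc _ (mA _) _ (mA _)) (hN (le_normalizer (mA _)))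
      (hN (le_normalizer (mA _))) (k e1 (by decide) k1) (k e2 (by decide) k2) (mul e1 e2 ▸ k _ (by decide) ?_) hx
    rw [mul, mem_Cx]
    exact Commute.mul_right (mem_Cx.1 k1) (mem_Cx.1 k2)
  refine ⟨Θ, ho, hz, hN, fun k hk => ?_⟩
  obtain ⟨o, h1, h, h2, rfl⟩ := E.cz_dec k hk
  obtain ⟨h', h3, h4, h5⟩ := E.gen (Nm Θ) (inf_le_left.trans hN) hb _ (E.gam h h2)
  obtain ⟨q, h6, c, h7, e⟩ := E.toRep.ker (mul_mem (inv_mem h4) h2) (by rw [E.fm _ (inv_mem h4) _ h2, E.f_inv h4, h5, inv_mul_cancel])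
  obtain ⟨ζ, h8, o', h9, rfl⟩ := S.cq_dec h7
  rw [inv_mul_eq_iff_eq_mul.1 e]
  exact mul_mem (le_normalizer (hz h1)) (mul_mem h3 (mul_mem (hN (S.jN q (Q_le_T h6)))
    (mul_mem (hN (S.jN ζ (Q_le_T (Z_le_Q h8)))) (le_normalizer (hz (E.oq_le h9))))))

end Eg

end CfsgLib.Fi64
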