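import Mathlib
import Cfsg.Agent.Lib.Fi64.Set
import Cfsg.Agent.Lib.Fi64.C1
import Cfsg.Agent.Lib.Fi64.B1
import Cfsg.Agent.Lib.Fi64.H4
import Cfsg.Agent.Lib.Fi64.Th
import Cfsg.Agent.Lib.Fi64.Holt
import Cfsg.Agent.Lib.Fi64.Fin

/-! The main theorem (project E64, plans/E64.md). -/

set_option autoImplicit false
set_option maxRecDepth 100000
set_option Elab.async false

namespace CfsgLib.Fi64

open Subgroup Cfsg CfsgLib.W2 CfsgLib.Tech CfsgLib.PComp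
open CfsgLib.S86 (E64 SM e1 f1 e2 f2 e3 f3 bf sa tv oc t1)
open CfsgLib.Parr (P0 V0 vc lin mp idM Act Gam Gam0 L0 U0 OK q0 b0 om t0 v0 sg nC Sg Tst)

variable {G : Type*} [Group G] [Finite G]

namespace Sit

variable {A : Subgroup G} {π : G → M} {j : M → G} (S : Sit A π j)
include S

theorem main : Spor.IsoFi22 G ∨ A.Normal := by
  refine or_iff_not_imp_right.2 fun hn => ?_
  obtain ⟨b, ε, hε, η, hη, hb⟩ := S.exists_bee fun h => hn (S.case1 h)
  obtain ⟨f, R⟩ := S.exists_rep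
  obtain ⟨rfl, rfl⟩ := R.kill hε hη hb
  obtain ⟨P, E⟩ := R.exists_eg hb
  obtain ⟨Θ, h1, h2, h3, h4⟩ := E.theta
  exact E.fin (le_bot_iff.1 (E.odd_triv h1 h3 h4 ▸ h2))

end Sit

end CfsgLib.Fi64
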